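import Cfsg.Agent.SporStructure.HexadFacts
import Cfsg.Agent.Lib.Golay.Subgroups

/-!
Elements of the two point stabiliser normalising a subgroup of order 11, as tables.
-/

set_option autoImplicit false

namespace Cfsg.Agent.SporStructure.Index56

open Cfsg Cfsg.Agent.Golay
open scoped Pointwise

theorem testBit_imgFold (l : List ℕ) (b j : ℕ) : ∀ (L : List ℕ) (r : ℕ),
    (L.foldl (fun r i => if b.testBit i then r ||| 2 ^ l.getD i 0 else r) r).testBit j =
      (r.testBit j || L.any fun i => b.testBit i && l.getD i 0 == j)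
  | [], r => by simp
  | i :: L, r => by
    rw [List.foldl_cons, testBit_imgFold l b j L, List.any_cons]
    cases hb : b.testBit i
    · simp
    · simp only [if_true, Nat.testBit_or, Nat.testBit_two_pow, Bool.true_and]
      simp [Bool.or_assoc, beq_eq_decide]

theorem tab_isPermTab {σ : Equiv.Perm GolayPt} {l : List ℕ} (h : Tab σ l) : isPermTab l = true := by
  simp only [isPermTab, List.all_eq_true, List.mem_range, Bool.and_eq_true, decide_eq_true_eq,
    bne_iff_ne]
  refine fun i hi => ⟨h.lt hi, fun j hj e => ?_⟩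
  rw [← h i hi, ← h j (hj.trans hi)] at e
  have := congrArg idx (σ.injective (idx_injective e))
  rw [idx_pt (hj.trans hi), idx_pt hi] at this
  omega

theorem toSet_imgN {σ : Equiv.Perm GolayPt} {l : List ℕ} (h : Tab σ l) (b : ℕ) :
    σ • toSet b = toSet (imgN l b) := by
  ext p
  rw [← Finset.inv_smul_mem_iff, mem_toSet, mem_toSet, imgN, testBit_imgFold]
  simp only [Nat.zero_testBit, Bool.false_or, List.any_eq_true, List.mem_range, Bool.and_eq_true,
    beq_iff_eq, Equiv.Perm.smul_def, Equiv.Perm.coe_inv]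
  constructor
  · intro hb
    refine ⟨_, idx_lt (σ.symm p), hb, ?_⟩
    rw [← h _ (idx_lt _), pt_idx, Equiv.apply_symm_apply]
  · rintro ⟨i, hi, hb, e⟩
    rw [← h i hi] at e
    rwa [← idx_injective e, Equiv.symm_apply_apply, idx_pt hi]

theorem imgN_lt {σ : Equiv.Perm GolayPt} {l : List ℕ} (h : Tab σ l) (b : ℕ) :
    imgN l b < 2 ^ 24 := by
  refine Nat.lt_pow_two_of_testBit _ fun j hj => ?_
  rw [imgN, testBit_imgFold, Nat.zero_testBit, Bool.false_or, List.any_eq_false]
  intro i hi
  have := h.lt (List.mem_range.1 hi)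
  simp only [Bool.and_eq_true, beq_iff_eq, not_and]
  intro _
  omega

theorem maps_of_eq {σ : Equiv.Perm GolayPt} {l : List ℕ} (h : Tab σ l) {a b : ℕ}
    (he : σ • toSet a = toSet b) : maps l a b = true := by
  simp only [maps, List.all_eq_true, List.mem_range, beq_iff_eq]
  intro i hi
  have := Finset.ext_iff.1 he (σ (pt i))
  rw [← Equiv.Perm.smul_def, Finset.smul_mem_smul_finset_iff, mem_toSet, mem_toSet,
    Equiv.Perm.smul_def, idx_pt hi, h i hi] at this
  exact (Bool.eq_iff_iff.2 this).symm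

theorem tab_checkAut {σ : Equiv.Perm GolayPt} {l : List ℕ} (h : Tab σ l) (hM : σ ∈ Cfsg.M24) :
    checkAut l = true := by
  simp only [checkAut, List.all_eq_true, Bool.and_eq_true]
  intro b hb
  have hw : σ • toSet b ∈ supports (golayCode : Set (GolayPt → ZMod 2)) := by
    rw [← support₂_toWord, smul_support₂]
    exact ⟨_, mem_M24_iff.1 hM _ (basisN_mem b hb), rfl⟩
  obtain ⟨n, hn, e⟩ := mem_supports_iff.1 hw
  rw [toSet_imgN h] at e
  rw [← toSet_injOn (inCode_lt hn) (imgN_lt h b) e]
  exact ⟨hn, maps_of_eq h (by rw [toSet_imgN h, e])⟩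

theorem baseTwo : baseSet 2 = {pt 23, pt 0} := by decide +kernel

theorem fix_two {g : Equiv.Perm GolayPt} (hg : g ∈ fixUpTo Cfsg.M24 2) :
    g (pt 0) = pt 0 ∧ g (pt 23) = pt 23 :=
  ⟨fix_baseSet hg (by rw [baseTwo]; simp), fix_baseSet hg (by rw [baseTwo]; simp)⟩

theorem exists_x : ∃ X : Equiv.Perm GolayPt, X ∈ fixUpTo Cfsg.M24 2 ∧ orderOf X = 11 ∧
    ∀ k, Tab (X ^ k) (powTab k) := by
  obtain ⟨h1, h2, h11, h0, h23, hr, -⟩ := x_facts
  have hT := tab_permOf h1
  set X := permOf xTab h1
  have hpow : ∀ k, Tab (X ^ k) (powTab k) := by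
    intro k
    induction k with
    | zero => exact tab_one
    | succ k ih => rw [pow_succ']; exact hT.mul ih
  refine ⟨X, mem_fixUpTo.2 ⟨hT.mem_M24 h2, fun j hj => ?_⟩, ?_, hpow⟩
  · apply idx_injective
    interval_cases j <;> rw [hT.apply, idx_bp, idx_pt] <;> decide +kernel
  · haveI : Fact (Nat.Prime 11) := ⟨by norm_num⟩
    refine orderOf_eq_prime (tab_unique (h11 ▸ hpow 11) tab_one) fun e => ?_
    have := hT rep0 (by decide)
    rw [e, Equiv.Perm.coe_one, id_eq, idx_pt (by decide)] at this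
    simp only [bne_iff_ne] at hr
    exact hr this.symm

variable {X : Equiv.Perm GolayPt}

/-- An element normalising `⟨X⟩` is a listed one up to a power of `X`. -/
theorem normal_form (hX : X ∈ fixUpTo Cfsg.M24 2) (hX11 : orderOf X = 11)
    (hpow : ∀ k, Tab (X ^ k) (powTab k)) {g : Equiv.Perm GolayPt} (hg : g ∈ fixUpTo Cfsg.M24 2)
    (hn : g * X * g⁻¹ ∈ Subgroup.zpowers X) :
    ∃ m < 11, ∃ v ∈ validList, Tab (X ^ m * g) (cand v.1 v.2.1 v.2.2) ∧ g * X * g⁻¹ = X ^ v.1 := by
  obtain ⟨-, -, -, -, -, -, hpos⟩ := x_facts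
  simp only [List.all_eq_true, List.mem_range, Bool.or_eq_true, Bool.and_eq_true, beq_iff_eq,
    decide_eq_true_eq] at hpos
  rw [mem_zpowers_iff_mem_range_orderOf, hX11, Finset.mem_image] at hn
  obtain ⟨e, he, hge⟩ := hn
  rw [Finset.mem_range] at he
  -- every moved point lies on one of the two cycles
  have cyc : ∀ p : GolayPt, p ≠ pt 0 → p ≠ pt 23 →
      p = (X ^ (posTab.getD (idx p) (0, 0)).2)
        (pt (if (posTab.getD (idx p) (0, 0)).1 == 0 then rep0 else rep1)) ∧
      (posTab.getD (idx p) (0, 0)).2 < 11 := by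
    intro p h0 h23
    rcases hpos _ (idx_lt p) with (h | h) | ⟨h, hlt⟩
    · exact absurd (by rw [← pt_idx p, h]) h0
    · exact absurd (by rw [← pt_idx p, h]) h23
    · refine ⟨idx_injective ?_, hlt⟩
      rw [hpow _ _ (by split <;> decide)]
      simp only [beq_iff_eq]
      exact h.symm
  set i0 := g (pt rep0)
  have hne : ∀ r, r < 24 → r ≠ 0 → r ≠ 23 → g (pt r) ≠ pt 0 ∧ g (pt r) ≠ pt 23 := by
    intro r hr h0 h23
    constructor <;> intro h
    · rw [← (fix_two hg).1] at h
      exact h0 (by rw [← idx_pt hr, g.injective h]; decide +kernel)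
    · rw [← (fix_two hg).2] at h
      exact h23 (by rw [← idx_pt hr, g.injective h]; decide +kernel)
  obtain ⟨hi0, hk0⟩ := cyc i0 (hne rep0 (by decide) (by decide) (by decide)).1
    (hne rep0 (by decide) (by decide) (by decide)).2
  set k0 := (posTab.getD (idx i0) (0, 0)).2
  set r0 := if (posTab.getD (idx i0) (0, 0)).1 == 0 then rep0 else rep1 with hr0
  have hr0' : r0 < 24 ∧ r0 ≠ 0 ∧ r0 ≠ 23 := by rw [hr0]; split <;> decide
  set m := (11 - k0) % 11
  have hm : X ^ m * X ^ k0 = 1 := by
    rw [← pow_add, ← pow_mod_orderOf, hX11, show (m + k0) % 11 = 0 by omega, pow_zero]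
  set h := X ^ m * g
  have hh : h ∈ fixUpTo Cfsg.M24 2 := mul_mem (pow_mem hX m) hg
  have hconj : h * X * h⁻¹ = X ^ e := by
    rw [show h * X * h⁻¹ = X ^ m * (g * X * g⁻¹) * (X ^ m)⁻¹ by simp only [h]; group, ← hge,
      ← pow_add, mul_inv_eq_iff_eq_mul, ← pow_add, Nat.add_comm]
  have hh0 : h (pt rep0) = pt r0 := by
    show (X ^ m) i0 = _
    rw [hi0, ← Equiv.Perm.mul_apply, hm, Equiv.Perm.coe_one, id_eq]
  set j := idx (h (pt rep1))
  have hj : j ≠ 0 ∧ j ≠ 23 := by
    constructor <;> intro e'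
    · have : h (pt rep1) = pt 0 := by rw [← e', pt_idx]
      rw [← (fix_two hh).1] at this
      exact absurd (congrArg idx (h.injective this)) (by rw [idx_pt (by decide), idx_pt (by decide)]; decide)
    · have : h (pt rep1) = pt 23 := by rw [← e', pt_idx]
      rw [← (fix_two hh).2] at this
      exact absurd (congrArg idx (h.injective this)) (by rw [idx_pt (by decide), idx_pt (by decide)]; decide)
  have hT : Tab h (cand e r0 j) := by
    intro n hn'
    rw [cand, getD_map_range _ hn']
    by_cases h0 : n = 0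
    · subst h0; rw [(fix_two hh).1]; simp [idx_pt]
    by_cases h23 : n = 23
    · subst h23; rw [(fix_two hh).2]; simp [idx_pt]
    rw [if_neg (by simp [h0, h23])]
    obtain ⟨hp, -⟩ := cyc (pt n) (fun e' => h0 (by rw [← idx_pt hn', e']; decide +kernel))
      (fun e' => h23 (by rw [← idx_pt hn', e']; decide +kernel))
    rw [idx_pt hn'] at hp
    set k := (posTab.getD n (0, 0)).2
    have hx : h * X ^ k = X ^ (e * k % 11) * h := by
      have : (h * X * h⁻¹) ^ k = h * X ^ k * h⁻¹ := conj_pow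
      rw [hconj, ← pow_mul, ← pow_mod_orderOf, hX11] at this
      rw [this, inv_mul_cancel_right]
    conv_lhs => rw [hp, ← Equiv.Perm.mul_apply, hx, Equiv.Perm.mul_apply]
    split
    · rw [hh0, hpow _ _ hr0'.1]
    · rw [show h (pt rep1) = pt j from (pt_idx _).symm, hpow _ _ (idx_lt _)]
  have hok : candOk (cand e r0 j) = true := by
    rw [candOk, tab_isPermTab hT, tab_checkAut hT (fixUpTo_le _ 2 hh)]; rfl
  have he0 : e ≠ 0 := by
    rintro rfl
    rw [pow_zero] at hge
    have h1 : X = 1 := by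
      have := congrArg (fun y => g⁻¹ * y * g) hge
      simpa [mul_assoc] using this.symm
    rw [h1, orderOf_one] at hX11
    omega
  have hc := cand_facts
  simp only [List.all_eq_true, List.mem_range, Bool.or_eq_true, beq_iff_eq, Bool.not_eq_true',
    List.contains_iff_mem] at hc
  have := (hc e he).resolve_left he0 r0 (by rw [hr0]; split <;> simp) j (idx_lt _)
  refine ⟨m, Nat.mod_lt _ (by norm_num), (e, r0, j), ?_, hT, hge.symm⟩
  rcases this with ((h' | h') | h') | h'
  · exact absurd h' hj.1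
  · exact absurd h' hj.2
  · rw [hok] at h'; exact Bool.noConfusion h'
  · exact h'

/-- The normaliser is small. -/
theorem card_normal_le (hX : X ∈ fixUpTo Cfsg.M24 2) (hX11 : orderOf X = 11)
    (hpow : ∀ k, Tab (X ^ k) (powTab k)) (N : Subgroup (Equiv.Perm GolayPt))
    (hN : N ≤ fixUpTo Cfsg.M24 2) (hn : ∀ g ∈ N, g * X * g⁻¹ ∈ Subgroup.zpowers X) :
    Nat.card N ≤ 55 := by
  have h := fun g : N => normal_form hX hX11 hpow (hN g.2) (hn g.1 g.2)
  choose m hm v hv hT _ using h
  refine (Nat.card_le_card_of_injective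
    (fun g : N => ((⟨m g, hm g⟩ : Fin 11), (⟨v g, List.mem_toFinset.2 (hv g)⟩ : validList.toFinset)))
    ?_).trans (le_of_eq ?_)
  · intro a b hab
    simp only [Prod.mk.injEq, Fin.mk.injEq, Subtype.mk.injEq] at hab
    have := tab_unique (hT a) (hab.2 ▸ hT b)
    rw [hab.1] at this
    exact Subtype.ext (mul_left_cancel this)
  · rw [Nat.card_prod, Nat.card_fin, Nat.card_eq_finsetCard]
    rfl

end Cfsg.Agent.SporStructure.Index56
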