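import Cfsg.Agent.SporStructure.NoRadical
import Cfsg.Prelude.Def_SporadicB

/-!
Fischer's transitivity theorem: in a 3-transposition group with trivial solvable radical, the
transpositions commuting with a given one form a single class of the subgroup they generate.

The proof takes a largest orbit `Δ` of some `⟨D_d⟩` on `D_d`. If it is not all of `D_d`, it yields
a `G`-invariant equivalence on `D` whose kernel is non-trivial; a minimal normal subgroup of that
kernel is simple and leads to a contradiction.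
-/

set_option autoImplicit false
set_option linter.all false

namespace Cfsg.Agent.SporStructure

open Subgroup

variable {G : Type*} [Group G]

/-- Conjugation. -/
def cnj (g x : G) : G := g * x * g⁻¹

theorem cnj_mul (g h x : G) : cnj (g * h) x = cnj g (cnj h x) := by simp [cnj, mul_assoc]
theorem cnj_one (x : G) : cnj 1 x = x := by simp [cnj]
theorem cnj_inv_cnj (g x : G) : cnj g⁻¹ (cnj g x) = x := by rw [← cnj_mul, inv_mul_cancel, cnj_one]
theorem cnj_cnj_inv (g x : G) : cnj g (cnj g⁻¹ x) = x := by rw [← cnj_mul, mul_inv_cancel, cnj_one]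
theorem cnj_commute_iff (g x y : G) : Commute (cnj g x) (cnj g y) ↔ Commute x y := Commute.conj_iff g
theorem cnj_injective (g : G) : Function.Injective (cnj g) := fun x y h => by
  rw [← cnj_inv_cnj g x, h, cnj_inv_cnj]
theorem cnj_commute_fix {a x : G} (h : Commute a x) : cnj a x = x := by
  rw [cnj, h.eq, mul_inv_cancel_right]

/-- The members of `D` other than `d` that commute with `d`. -/
def Dperp (D : Set G) (d : G) : Set G := {y | y ∈ D ∧ y ≠ d ∧ Commute d y}

/-- The orbit of `e` under the subgroup generated by `Dperp D d`. -/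
def orb (D : Set G) (d e : G) : Set G :=
  {y | ∃ h ∈ closure (Dperp D d), cnj h e = y}

variable {D : Set G}

theorem rtg_map {R S : G → G → Prop} (f : G → G) (hf : ∀ a b, R a b → S (f a) (f b)) {a b : G}
    (h : Relation.ReflTransGen R a b) : Relation.ReflTransGen S (f a) (f b) := by
  induction h with
  | refl => exact Relation.ReflTransGen.refl
  | tail _ hbc ih => exact ih.tail (hf _ _ hbc)

theorem ttc_sq (hD : Cfsg.IsThreeTranspositionClass D) {a : G} (ha : a ∈ D) : a * a = 1 := by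
  have := pow_orderOf_eq_one a
  rwa [hD.1.1 a ha, pow_two] at this

theorem ttc_inv (hD : Cfsg.IsThreeTranspositionClass D) {a : G} (ha : a ∈ D) : a⁻¹ = a :=
  inv_eq_of_mul_eq_one_left (ttc_sq hD ha)

theorem ttc_cnj (hD : Cfsg.IsThreeTranspositionClass D) (g : G) {a : G} (ha : a ∈ D) :
    cnj g a ∈ D := by
  obtain ⟨d, _, rfl⟩ := hD.2.1
  obtain ⟨k, rfl⟩ := isConj_iff.1 (show IsConj _ _ from ha)
  exact show IsConj d _ from (isConj_iff.2 ⟨g * k, by simp [cnj, mul_assoc]⟩)

theorem ttc_trans (hD : Cfsg.IsThreeTranspositionClass D) {a b : G} (ha : a ∈ D) (hb : b ∈ D) :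
    ∃ g, cnj g a = b := by
  obtain ⟨d, _, rfl⟩ := hD.2.1
  exact isConj_iff.1 ((show IsConj _ _ from ha).symm.trans (show IsConj _ _ from hb))

theorem ttc_braid (hD : Cfsg.IsThreeTranspositionClass D) {a b : G} (ha : a ∈ D) (hb : b ∈ D)
    (h : ¬ Commute a b) : a * b * a = b * a * b := by
  rcases hD.1.2 a ha b hb with h2 | h3
  · exfalso
    apply h
    rw [pow_two] at h2
    have h' := eq_inv_of_mul_eq_one_left h2
    rw [mul_inv_rev, ttc_inv hD ha, ttc_inv hD hb] at h'
    exact h'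
  · rw [pow_succ, pow_two] at h3
    have h' : a * b * a * (b * a * b) = 1 := by rw [← h3]; group
    have := eq_inv_of_mul_eq_one_left h'
    rw [mul_inv_rev, mul_inv_rev, ttc_inv hD ha, ttc_inv hD hb, ← mul_assoc] at this
    exact this

theorem ttc_cnj_swap (hD : Cfsg.IsThreeTranspositionClass D) {a b : G} (ha : a ∈ D) (hb : b ∈ D)
    (h : ¬ Commute a b) : cnj a b = cnj b a := by
  simp only [cnj, ttc_inv hD ha, ttc_inv hD hb]
  exact ttc_braid hD ha hb h

theorem ttc_cnj_cnj (hD : Cfsg.IsThreeTranspositionClass D) {a : G} (ha : a ∈ D) (x : G) :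
    cnj a (cnj a x) = x := by rw [← cnj_mul, ttc_sq hD ha, cnj_one]

theorem ttc_third_noncommute (hD : Cfsg.IsThreeTranspositionClass D) {a b : G} (ha : a ∈ D)
    (hb : b ∈ D) (h : ¬ Commute a b) : ¬ Commute a (cnj a b) := by
  intro hc
  apply h
  have := (cnj_commute_iff a a (cnj a b)).2 hc
  rw [ttc_cnj_cnj hD ha, cnj_commute_fix (Commute.refl a)] at this
  exact this

section Orb

theorem closure_Dperp_le_centralizer (D : Set G) (d : G) :
    closure (Dperp D d) ≤ centralizer {d} :=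
  (closure_le _).2 fun y hy => mem_centralizer_singleton_iff.2 hy.2.2.symm.eq

theorem orb_subset (hD : Cfsg.IsThreeTranspositionClass D) {d e : G} (he : e ∈ Dperp D d) :
    orb D d e ⊆ Dperp D d := by
  rintro y ⟨h, hh, rfl⟩
  have hc : Commute h d := mem_centralizer_singleton_iff.1 (closure_Dperp_le_centralizer D d hh)
  have hfix : cnj h d = d := cnj_commute_fix hc
  refine ⟨ttc_cnj hD h he.1, fun h' => he.2.1 (cnj_injective h (h'.trans hfix.symm)), ?_⟩
  rw [← hfix]
  exact (cnj_commute_iff h d e).2 he.2.2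

theorem self_mem_orb (D : Set G) (d e : G) : e ∈ orb D d e := ⟨1, one_mem _, cnj_one e⟩

theorem orb_closed {d e a y : G} (ha : a ∈ Dperp D d) (hy : y ∈ orb D d e) :
    cnj a y ∈ orb D d e := by
  obtain ⟨h, hh, rfl⟩ := hy
  exact ⟨a * h, mul_mem (subset_closure ha) hh, cnj_mul a h e⟩

theorem orb_closed' {d e g y : G} (hg : g ∈ closure (Dperp D d)) (hy : y ∈ orb D d e) :
    cnj g y ∈ orb D d e := by
  obtain ⟨h, hh, rfl⟩ := hy
  exact ⟨g * h, mul_mem hg hh, cnj_mul g h e⟩

theorem orb_eq {d e y : G} (hy : y ∈ orb D d e) : orb D d y = orb D d e := by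
  obtain ⟨h, hh, rfl⟩ := hy
  ext z
  constructor
  · rintro ⟨k, hk, rfl⟩; exact ⟨k * h, mul_mem hk hh, cnj_mul k h e⟩
  · rintro ⟨k, hk, rfl⟩
    exact ⟨k * h⁻¹, mul_mem hk (inv_mem hh), by rw [cnj_mul, cnj_inv_cnj]⟩

/-- An element of `D_d` outside an orbit commutes with the orbit. -/
theorem orb_other (hD : Cfsg.IsThreeTranspositionClass D) {d e z w : G} (he : e ∈ Dperp D d)
    (hz : z ∈ Dperp D d) (hw : w ∈ orb D d e) (hne : ¬ Commute z w) : z ∈ orb D d e := by
  have hw' := orb_subset hD he hw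
  have h1 : cnj z w ∈ orb D d e := orb_closed hz hw
  have h2 : cnj w (cnj z w) ∈ orb D d e := orb_closed hw' h1
  rwa [ttc_cnj_swap hD hz.1 hw'.1 hne, ttc_cnj_cnj hD hw'.1] at h2

/-- If an orbit `orb D d e` lies in `D_z`, then it is contained in each orbit of `⟨D_z⟩` it meets. -/
theorem orb_incl (hD : Cfsg.IsThreeTranspositionClass D) {d e z e' : G} (he : e ∈ Dperp D d)
    (hsub : orb D d e ⊆ Dperp D z) (he' : e ∈ orb D z e') : orb D d e ⊆ orb D z e' := by
  have key : ∀ h ∈ closure (Dperp D d), ∀ w, w ∈ orb D d e → w ∈ orb D z e' →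
      cnj h w ∈ orb D z e' := by
    intro h hh
    induction hh using Subgroup.closure_induction'' with
    | one => intro w _ hw; rwa [cnj_one]
    | mem a ha =>
      intro w hw hw'
      by_cases hc : Commute a w
      · rwa [cnj_commute_fix hc]
      · exact orb_closed (hsub (orb_other hD he ha hw hc)) hw'
    | inv_mem a ha =>
      intro w hw hw'
      rw [ttc_inv hD ha.1]
      by_cases hc : Commute a w
      · rwa [cnj_commute_fix hc]
      · exact orb_closed (hsub (orb_other hD he ha hw hc)) hw'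
    | mul x y hx hy ihx ihy =>
      intro w hw hw'
      rw [cnj_mul]
      exact ihx _ (orb_closed' hy hw) (ihy w hw hw')
  rintro y ⟨h, hh, rfl⟩
  exact key h hh e (self_mem_orb D d e) he'

theorem mem_Dperp_cnj (hD : Cfsg.IsThreeTranspositionClass D) (g : G) {d y : G}
    (hy : y ∈ Dperp D d) : cnj g y ∈ Dperp D (cnj g d) :=
  ⟨ttc_cnj hD g hy.1, fun h => hy.2.1 (cnj_injective g h), (cnj_commute_iff g d y).2 hy.2.2⟩

theorem cnj_mem_closure (hD : Cfsg.IsThreeTranspositionClass D) (g : G) {d h : G}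
    (hh : h ∈ closure (Dperp D d)) : cnj g h ∈ closure (Dperp D (cnj g d)) := by
  have : (closure (Dperp D d)).map (MulAut.conj g).toMonoidHom ≤ closure (Dperp D (cnj g d)) := by
    rw [MonoidHom.map_closure]
    refine closure_mono ?_
    rintro _ ⟨y, hy, rfl⟩
    exact mem_Dperp_cnj hD g hy
  exact this ⟨h, hh, rfl⟩

theorem orb_cnj (hD : Cfsg.IsThreeTranspositionClass D) (g d e : G) :
    orb D (cnj g d) (cnj g e) = cnj g '' orb D d e := by
  ext y
  constructor
  · rintro ⟨h, hh, rfl⟩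
    refine ⟨cnj (cnj g⁻¹ h) e, ⟨cnj g⁻¹ h, ?_, rfl⟩, ?_⟩
    · have := cnj_mem_closure hD g⁻¹ hh
      rwa [cnj_inv_cnj] at this
    · simp [cnj, mul_assoc]
  · rintro ⟨_, ⟨h, hh, rfl⟩, rfl⟩
    exact ⟨cnj g h, cnj_mem_closure hD g hh, by simp [cnj, mul_assoc]⟩

end Orb

/-- If `d` and `d'` lie in one class of an invariant labelling, and every other member of `D`
commutes with all or with none of that class, then `d * d'` preserves all labels. -/
theorem kernel_mem (hD : Cfsg.IsThreeTranspositionClass D) (f : G → Set G)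
    (hf : ∀ g z, z ∈ D → f (cnj g z) = cnj g '' f z) (L : Set G)
    (huni : ∀ z ∈ D, f z ≠ L → (∀ a ∈ D, f a = L → Commute a z) ∨ ∀ a ∈ D, f a = L → ¬ Commute a z)
    {a b : G} (ha : a ∈ D) (hb : b ∈ D) (hfa : f a = L) (hfb : f b = L) :
    ∀ z ∈ D, f (cnj (a * b) z) = f z := by
  have same : ∀ z ∈ D, f (cnj a z) = f (cnj b z) := by
    intro z hz
    by_cases hzL : f z = L
    · have : ∀ c ∈ D, f c = L → f (cnj c z) = f z := by
        intro c hc hcL
        by_cases hcz : Commute c z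
        · rw [cnj_commute_fix hcz]
        · rw [ttc_cnj_swap hD hc hz hcz, hf z c hc, hcL, ← hzL, ← hf z z hz,
            cnj_commute_fix (Commute.refl z)]
      rw [this a ha hfa, this b hb hfb]
    · rcases huni z hz hzL with hc | hc
      · rw [cnj_commute_fix (hc a ha hfa), cnj_commute_fix (hc b hb hfb)]
      · rw [ttc_cnj_swap hD ha hz (hc a ha hfa), ttc_cnj_swap hD hb hz (hc b hb hfb),
          hf z a ha, hf z b hb, hfa, hfb]
  intro z hz
  rw [cnj_mul, same _ (ttc_cnj hD b hz), ttc_cnj_cnj hD hb]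

/-- The kernel of the action of `G` on the labels of `D`. -/
def labelKernel (D : Set G) (hc : ∀ g, ∀ z ∈ D, cnj g z ∈ D) (f : G → Set G) : Subgroup G where
  carrier := {g | ∀ z ∈ D, f (cnj g z) = f z}
  one_mem' := fun z _ => by rw [cnj_one]
  mul_mem' := fun {g h} hg hh z hz => by rw [cnj_mul, hg _ (hc h z hz), hh z hz]
  inv_mem' := fun {g} hg z hz => by rw [← hg _ (hc g⁻¹ z hz), cnj_cnj_inv]

theorem labelKernel_normal (hc : ∀ g, ∀ z ∈ D, cnj g z ∈ D) (f : G → Set G)
    (hf : ∀ g z, z ∈ D → f (cnj g z) = cnj g '' f z) : (labelKernel D hc f).Normal := by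
  constructor
  intro k hk g z hz
  rw [cnj_mul, cnj_mul, hf g _ (hc k _ (hc g⁻¹ z hz)), hk _ (hc g⁻¹ z hz),
    ← hf g _ (hc g⁻¹ z hz), cnj_cnj_inv]

/-- Products of pairs from a set. -/
def pairProd (S : Set G) : Subgroup G := closure {u | ∃ a ∈ S, ∃ b ∈ S, u = a * b}

theorem le_pairProd (hD : Cfsg.IsThreeTranspositionClass D) {M : Subgroup G}
    (hsimple : ∀ N : Subgroup G, N ≤ M → (∀ m ∈ M, ∀ n ∈ N, m * n * m⁻¹ ∈ N) → N = ⊥ ∨ N = M)
    (hMn : M.Normal) {S : Set G} (hS : ∀ m ∈ M, ∀ s ∈ S, cnj m s ∈ S) {a : G} (haD : a ∈ D)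
    (haS : a ∈ S) (hne : ∃ m ∈ M, ¬ Commute m a) : M ≤ pairProd S := by
  have hinv : ∀ m ∈ M, ∀ n ∈ pairProd S, m * n * m⁻¹ ∈ pairProd S := by
    intro m hm n hn
    have : (pairProd S).map (MulAut.conj m).toMonoidHom ≤ pairProd S := by
      rw [pairProd, MonoidHom.map_closure]
      refine closure_mono ?_
      rintro _ ⟨_, ⟨p, hp, q, hq, rfl⟩, rfl⟩
      exact ⟨cnj m p, hS m hm p hp, cnj m q, hS m hm q hq, by simp [cnj, mul_assoc]⟩
    exact this ⟨n, hn, rfl⟩
  rcases hsimple (M ⊓ pairProd S) inf_le_left (fun m hm n hn =>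
      Subgroup.mem_inf.2 ⟨mul_mem (mul_mem hm hn.1) (inv_mem hm), hinv m hm n hn.2⟩) with h | h
  · obtain ⟨m, hm, hma⟩ := hne
    exfalso
    apply hma
    have h1 : m * a * m⁻¹ * a ∈ M ⊓ pairProd S := by
      refine Subgroup.mem_inf.2 ⟨?_, subset_closure ⟨_, hS m hm a haS, a, haS, rfl⟩⟩
      have := mul_mem hm (hMn.conj_mem _ (inv_mem hm) a)
      rw [ttc_inv hD haD] at this
      simpa [mul_assoc] using this
    rw [h, Subgroup.mem_bot] at h1
    have h2 := eq_inv_of_mul_eq_one_left h1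
    rw [ttc_inv hD haD, mul_inv_eq_iff_eq_mul] at h2
    exact h2
  · exact inf_eq_left.1 h

theorem pairProd_commute {S : Set G} {e : G} (h : ∀ s ∈ S, Commute s e) :
    pairProd S ≤ centralizer {e} := by
  refine (closure_le _).2 ?_
  rintro _ ⟨a, ha, b, hb, rfl⟩
  exact mem_centralizer_singleton_iff.2 ((h a ha).mul_left (h b hb)).eq

theorem ncard_cnj_image (g : G) (S : Set G) : (cnj g '' S).ncard = S.ncard :=
  Set.ncard_image_of_injective S (cnj_injective g)

/-- **Fischer's transitivity theorem.** -/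
theorem dperp_transitive [Finite G] (hsol : NoSolvableNormal G)
    (hD : Cfsg.IsThreeTranspositionClass D) {d₁ e₁ : G} (hd₁ : d₁ ∈ D) (he₁ : e₁ ∈ Dperp D d₁) :
    orb D d₁ e₁ = Dperp D d₁ := by
  classical
  by_contra hnt
  obtain ⟨⟨d, e⟩, ⟨hd, he⟩, hmax⟩ := Set.exists_max_image {p : G × G | p.1 ∈ D ∧ p.2 ∈ Dperp D p.1}
    (fun p => (orb D p.1 p.2).ncard) (Set.toFinite _) ⟨(d₁, e₁), hd₁, he₁⟩
  have hmax' : ∀ z ∈ D, ∀ y ∈ Dperp D z, (orb D z y).ncard ≤ (orb D d e).ncard :=
    fun z hz y hy => hmax (z, y) ⟨hz, hy⟩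
  simp only [] at hd he
  set Δ := orb D d e with hΔ
  have hΔsub : Δ ⊆ Dperp D d := orb_subset hD he
  -- no transitivity at `d`
  have hproper : Δ ≠ Dperp D d := by
    intro h
    apply hnt
    obtain ⟨g, hg⟩ := ttc_trans hD hd hd₁
    have h1 : Dperp D d₁ ⊆ cnj g '' Dperp D d := by
      intro y hy
      refine ⟨cnj g⁻¹ y, ?_, cnj_cnj_inv g y⟩
      have := mem_Dperp_cnj hD g⁻¹ hy
      rwa [← hg, cnj_inv_cnj] at this
    have h2 : cnj g⁻¹ e₁ ∈ Δ := by
      rw [h]
      have := mem_Dperp_cnj hD g⁻¹ he₁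
      rwa [← hg, cnj_inv_cnj] at this
    have h3 := orb_cnj hD g d (cnj g⁻¹ e₁)
    rw [hg, cnj_cnj_inv, orb_eq h2, ← hΔ, h] at h3
    exact Set.Subset.antisymm (orb_subset hD he₁) (h3 ▸ h1)
  let B : Set G := {z | z ∈ D ∧ z ∉ Δ ∧ ∀ w ∈ Δ, Commute w z}
  let X : Set G := {z | z ∈ D ∧ z ∉ Δ ∧ ∃ w ∈ Δ, ¬ Commute w z}
  have tri : ∀ z ∈ D, z ∈ Δ ∨ z ∈ B ∨ z ∈ X := by
    intro z hz
    by_cases h1 : z ∈ Δ
    · exact Or.inl h1
    by_cases h2 : ∀ w ∈ Δ, Commute w z
    · exact Or.inr (Or.inl ⟨hz, h1, h2⟩)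
    · push_neg at h2; exact Or.inr (Or.inr ⟨hz, h1, h2⟩)
  have hdB : d ∈ B := ⟨hd, fun h => (hΔsub h).2.1 rfl, fun w hw => (hΔsub hw).2.2.symm⟩
  have heΔ : e ∈ Δ := self_mem_orb D d e
  have hBperp : ∀ z ∈ B, Δ ⊆ Dperp D z := fun z hz w hw =>
    ⟨(hΔsub hw).1, fun h => hz.2.1 (h ▸ hw), (hz.2.2 w hw).symm⟩
  have L1 : ∀ z ∈ B, orb D z e = Δ := by
    intro z hz
    exact (Set.eq_of_subset_of_ncard_le (orb_incl hD he (hBperp z hz) (self_mem_orb D z e))
      (hmax' z hz.1 e (hBperp z hz heΔ)) (Set.toFinite _)).symm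
  have L2 : ∀ c ∈ X, ∀ z ∈ B, ¬ Commute z c := by
    intro c hc z hz hcz
    obtain ⟨w, hw, hwc⟩ := hc.2.2
    have hcz' : c ∈ Dperp D z := ⟨hc.1, fun h => by
      subst h; exact hwc (hz.2.2 w hw), hcz⟩
    apply hc.2.1
    rw [← L1 z hz]
    exact orb_other hD (hBperp z hz heΔ) hcz' (by rw [L1 z hz]; exact hw) (fun h => hwc h.symm)
  have L3 : X.Nonempty := by
    by_contra hX
    have hinv : ∀ a ∈ D, ∀ w ∈ Δ, cnj a w ∈ Δ := by
      intro a ha w hw
      rcases tri a ha with h | h | h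
      · exact orb_closed (hΔsub h) hw
      · rw [cnj_commute_fix (h.2.2 w hw).symm]; exact hw
      · exact absurd ⟨a, h⟩ hX
    have : ∀ g : G, ∀ w ∈ Δ, cnj g w ∈ Δ := by
      intro g
      have hg : g ∈ closure D := by rw [hD.2.2]; exact mem_top g
      induction hg using Subgroup.closure_induction'' with
      | one => intro w hw; rwa [cnj_one]
      | mem a ha => exact hinv a ha
      | inv_mem a ha => rw [ttc_inv hD ha]; exact hinv a ha
      | mul x y _ _ ihx ihy => intro w hw; rw [cnj_mul]; exact ihx _ (ihy w hw)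
    obtain ⟨g, hg⟩ := ttc_trans hD he.1 hd
    exact (hΔsub (hg ▸ this g e heΔ)).2.1 rfl
  have hcl : ∀ g, ∀ z ∈ D, cnj g z ∈ D := fun g z hz => ttc_cnj hD g hz
  have hinvol : ∀ a ∈ D, a * a = 1 := fun a ha => ttc_sq hD ha
  have hclass : ∀ a ∈ D, ∀ b ∈ D, ∃ g : G, g * a * g⁻¹ = b := fun a ha b hb => ttc_trans hD ha hb
  -- a second member of `B`
  obtain ⟨d', hd'B, hd'ne⟩ : ∃ d' ∈ B, d' ≠ d := by
    obtain ⟨c, hc, hcΔ⟩ : ∃ c ∈ Dperp D d, c ∉ Δ := by
      by_contra h
      push_neg at h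
      exact hproper (Set.Subset.antisymm hΔsub h)
    refine ⟨c, ⟨hc.1, hcΔ, fun w hw => ?_⟩, hc.2.1⟩
    by_contra hwc
    exact hcΔ (orb_other hD he hc hw (fun h => hwc h.symm))
  have getM : ∀ (f : G → Set G), (∀ g z, z ∈ D → f (cnj g z) = cnj g '' f z) →
      ∀ L : Set G, (∀ z ∈ B, f z = L) →
      (∀ z ∈ D, f z ≠ L → (∀ a ∈ D, f a = L → Commute a z) ∨ ∀ a ∈ D, f a = L → ¬ Commute a z) →
      ∃ M : Subgroup G, (∀ m ∈ M, ∀ z ∈ D, f (cnj m z) = f z) ∧ M.Normal ∧
        (∃ a ∈ M, ∃ b ∈ M, ¬ Commute a b) ∧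
        (∀ N : Subgroup G, N ≤ M → (∀ m ∈ M, ∀ n ∈ N, m * n * m⁻¹ ∈ N) → N = ⊥ ∨ N = M) ∧
        ∀ a ∈ D, ∃ m ∈ M, ¬ Commute m a := by
    intro f hf L hBL huni
    haveI := labelKernel_normal hcl f hf
    have hk : d * d' ∈ labelKernel D hcl f :=
      kernel_mem hD f hf L huni hd hd'B.1 (hBL d hdB) (hBL d' hd'B)
    have hne : labelKernel D hcl f ≠ ⊥ := by
      intro h
      rw [h, Subgroup.mem_bot] at hk
      apply hd'ne
      have := eq_inv_of_mul_eq_one_left hk
      rw [ttc_inv hD hd'B.1] at this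
      exact this.symm
    obtain ⟨M, hMK, h1, h2, h3, h4⟩ := exists_simple_normal_le hsol hinvol (fun g a ha => hcl g a ha)
      hclass hD.2.2 hD.1.2 (labelKernel D hcl f) hne
    exact ⟨M, fun m hm => hMK hm, h1, h2, h3, h4⟩
  by_cases caseA : ∀ x ∈ X, ∀ w ∈ Δ, ¬ Commute w x
  · -- `Δ ∪ B` is a component of the commuting graph
    let T : Set G := Δ ∪ B
    have hTD : T ⊆ D := by
      rintro t (ht | ht)
      · exact (hΔsub ht).1
      · exact ht.1
    let f : G → Set G := fun z => {u | Relation.ReflTransGen (fun a b => b ∈ D ∧ Commute a b) z u}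
    have hf : ∀ g z, z ∈ D → f (cnj g z) = cnj g '' f z := by
      intro g z hz
      ext u
      constructor
      · intro hu
        refine ⟨cnj g⁻¹ u, ?_, cnj_cnj_inv g u⟩
        have := rtg_map (S := fun a b => b ∈ D ∧ Commute a b) (cnj g⁻¹)
          (fun a b (h : b ∈ D ∧ Commute a b) => (⟨hcl _ b h.1, (cnj_commute_iff g⁻¹ a b).2 h.2⟩ :
            cnj g⁻¹ b ∈ D ∧ Commute (cnj g⁻¹ a) (cnj g⁻¹ b))) hu
        rwa [cnj_inv_cnj] at this
      · rintro ⟨v, hv, rfl⟩
        exact rtg_map (cnj g)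
          (fun a b (h : b ∈ D ∧ Commute a b) => (⟨hcl _ b h.1, (cnj_commute_iff g a b).2 h.2⟩ :
            cnj g b ∈ D ∧ Commute (cnj g a) (cnj g b))) hv
    have hclosedT : ∀ t ∈ T, ∀ u ∈ D, Commute t u → u ∈ T := by
      intro t ht u hu htu
      rcases tri u hu with h | h | h
      · exact Or.inl h
      · exact Or.inr h
      · rcases ht with h' | h'
        · exact absurd htu (caseA u h t h')
        · exact absurd htu (L2 u h t h')
    have hfT : ∀ t ∈ T, f t = T := by
      intro t ht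
      ext u
      constructor
      · intro hu
        induction hu with
        | refl => exact ht
        | tail _ hab ih => exact hclosedT _ ih _ hab.1 hab.2
      · intro hu
        have hb : ∀ b ∈ B, Relation.ReflTransGen (fun a b => b ∈ D ∧ Commute a b) e b := fun b hb =>
          Relation.ReflTransGen.single ⟨hb.1, hb.2.2 e heΔ⟩
        have hte : Relation.ReflTransGen (fun a b => b ∈ D ∧ Commute a b) t e := by
          rcases ht with h | h
          · exact (Relation.ReflTransGen.single ⟨hd, (hdB.2.2 t h)⟩).tail ⟨he.1, he.2.2⟩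
          · exact Relation.ReflTransGen.single ⟨he.1, (h.2.2 e heΔ).symm⟩
        refine hte.trans ?_
        rcases hu with h | h
        · exact (hb d hdB).tail ⟨(hΔsub h).1, (hdB.2.2 u h).symm⟩
        · exact hb u h
    have hmem : ∀ z ∈ D, f z = T → z ∈ T := fun z _ h => h ▸ Relation.ReflTransGen.refl
    have huni : ∀ z ∈ D, f z ≠ T → (∀ a ∈ D, f a = T → Commute a z) ∨
        ∀ a ∈ D, f a = T → ¬ Commute a z := by
      intro z hz hzT
      exact Or.inr fun a ha haT hc => hzT (hfT z (hclosedT a (hmem a ha haT) z hz hc))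
    obtain ⟨M, hMf, hMn, hnab, hsimple, hcomm⟩ := getM f hf T (fun z hz => hfT z (Or.inr hz)) huni
    have hMT : ∀ m ∈ M, ∀ t ∈ T, cnj m t ∈ T := fun m hm t ht =>
      hmem _ (hcl m t (hTD ht)) ((hMf m hm t (hTD ht)).trans (hfT t ht))
    have hTT : ∀ a ∈ T, ∀ t ∈ T, cnj a t ∈ T := by
      intro a ha t ht
      refine hmem _ (hcl a t (hTD ht)) ?_
      by_cases hc : Commute a t
      · rw [cnj_commute_fix hc, hfT t ht]
      · rw [ttc_cnj_swap hD (hTD ha) (hTD ht) hc, hf t a (hTD ha), hfT a ha]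
        conv_lhs => rw [← hfT t ht, ← hf t t (hTD ht), cnj_commute_fix (Commute.refl t), hfT t ht]
    -- parts of `T`
    let R : G → G → Prop := fun a b => a ∈ T ∧ b ∈ T ∧ ¬ Commute a b
    have Rsymm : ∀ {a b}, Relation.ReflTransGen R a b → Relation.ReflTransGen R b a := by
      intro a b h
      induction h with
      | refl => exact Relation.ReflTransGen.refl
      | tail _ hbc ih => exact (Relation.ReflTransGen.single ⟨hbc.2.1, hbc.1, fun h => hbc.2.2 h.symm⟩).trans ih
    have hRm : ∀ m ∈ M, ∀ {a b}, Relation.ReflTransGen R a b →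
        Relation.ReflTransGen R (cnj m a) (cnj m b) := fun m hm {a b} h =>
      rtg_map (cnj m)
        (fun x y (h : R x y) => (⟨hMT m hm x h.1, hMT m hm y h.2.1,
          fun hc => h.2.2 ((cnj_commute_iff m x y).1 hc)⟩ : R (cnj m x) (cnj m y))) h
    have hRT : ∀ a ∈ T, ∀ t ∈ T, Relation.ReflTransGen R t (cnj a t) := by
      intro a ha t ht
      by_cases hc : Commute a t
      · rw [cnj_commute_fix hc]
      · exact (Relation.ReflTransGen.single (show R t a from ⟨ht, ha, fun h => hc h.symm⟩)).tail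
          ⟨ha, hTT a ha t ht, ttc_third_noncommute hD (hTD ha) (hTD ht) hc⟩
    let K1 : Subgroup G :=
      { carrier := {m | m ∈ M ∧ ∀ t ∈ T, Relation.ReflTransGen R t (cnj m t)}
        one_mem' := ⟨one_mem M, fun t _ => by rw [cnj_one]⟩
        mul_mem' := fun {x y} hx hy => ⟨mul_mem hx.1 hy.1, fun t ht => by
          rw [cnj_mul]; exact (hy.2 t ht).trans (hx.2 _ (hMT y hy.1 t ht))⟩
        inv_mem' := fun {x} hx => ⟨inv_mem hx.1, fun t ht => by
          have := hx.2 _ (hMT _ (inv_mem hx.1) t ht)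
          rw [cnj_cnj_inv] at this
          exact Rsymm this⟩ }
    have hK1 : ∀ m ∈ M, ∀ n ∈ K1, m * n * m⁻¹ ∈ K1 := by
      intro m hm n hn
      refine ⟨mul_mem (mul_mem hm hn.1) (inv_mem hm), fun t ht => ?_⟩
      rw [cnj_mul, cnj_mul]
      have := hRm m hm (hn.2 _ (hMT _ (inv_mem hm) t ht))
      rwa [cnj_cnj_inv] at this
    rcases hsimple K1 (fun x hx => hx.1) hK1 with hbot | htop
    · obtain ⟨m, hm, hmd⟩ := hcomm d hd
      apply hmd
      have hk : m * d * m⁻¹ * d ∈ K1 := by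
        refine ⟨?_, fun t ht => ?_⟩
        · have := mul_mem hm (hMn.conj_mem _ (inv_mem hm) d)
          rw [ttc_inv hD hd] at this
          simpa [mul_assoc] using this
        · rw [cnj_mul, cnj_mul, cnj_mul]
          have hdT : d ∈ T := Or.inr hdB
          have t1 := hTT d hdT t ht
          have t2 := hMT _ (inv_mem hm) _ t1
          have h2 := hRm m hm (hRT d hdT _ t2)
          rw [cnj_cnj_inv] at h2
          exact (hRT d hdT t ht).trans h2
      rw [hbot, Subgroup.mem_bot] at hk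
      have h2 := eq_inv_of_mul_eq_one_left hk
      rw [ttc_inv hD hd, mul_inv_eq_iff_eq_mul] at h2
      exact h2
    · -- every part is invariant, so `Δ` and `B` are invariant
      have hpart : ∀ {a b}, Relation.ReflTransGen R a b → (a ∈ B → b ∈ B) ∧ (a ∈ Δ → b ∈ Δ) := by
        intro a b h
        induction h with
        | refl => exact ⟨id, id⟩
        | tail _ hxy ih =>
          refine ⟨fun ha => ?_, fun ha => ?_⟩
          · rcases hxy.2.1 with h | h
            · exact absurd ((ih.1 ha).2.2 _ h).symm hxy.2.2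
            · exact h
          · rcases hxy.2.1 with h | h
            · exact h
            · exact absurd (h.2.2 _ (ih.2 ha)) hxy.2.2
      have hmK : ∀ m ∈ M, m ∈ K1 := fun m hm => by rw [htop]; exact hm
      have hMB : M ≤ pairProd B := le_pairProd hD hsimple hMn
        (fun m hm b hb => (hpart ((hmK m hm).2 b (Or.inr hb))).1 hb) hd hdB (hcomm d hd)
      have hMΔ : M ≤ pairProd Δ := le_pairProd hD hsimple hMn
        (fun m hm b hb => (hpart ((hmK m hm).2 b (Or.inl hb))).2 hb) he.1 heΔ (hcomm e he.1)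
      obtain ⟨u, hu, v, hv, huv⟩ := hnab
      apply huv
      have hBΔ : ∀ w ∈ Δ, pairProd B ≤ centralizer {w} := fun w hw =>
        pairProd_commute fun b hb => (hb.2.2 w hw).symm
      have h1 : pairProd Δ ≤ centralizer {u} :=
        pairProd_commute fun w hw => (mem_centralizer_singleton_iff.1 (hBΔ w hw (hMB hu))).symm
      exact (show Commute v u from mem_centralizer_singleton_iff.1 (h1 (hMΔ hv))).symm
  · push_neg at caseA
    obtain ⟨x, hxX, e2, he2, he2x⟩ := caseA
    have hBsmall : B.ncard ≤ Δ.ncard := by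
      have hd2 : d ∈ Dperp D e2 :=
        ⟨hd, fun h => (hΔsub he2).2.1 h.symm, hdB.2.2 e2 he2⟩
      refine le_trans (Set.ncard_le_ncard ?_ (Set.toFinite _)) (hmax' e2 (hΔsub he2).1 d hd2)
      have hx2 : x ∈ Dperp D e2 := ⟨hxX.1, fun h => hxX.2.1 (h ▸ he2), he2x⟩
      have hxo : x ∈ orb D e2 d :=
        orb_other hD hd2 hx2 (self_mem_orb D e2 d) (fun h => L2 x hxX d hdB h.symm)
      intro b hb
      exact orb_other hD hd2 ⟨hb.1, fun h => hb.2.1 (h ▸ he2), hb.2.2 e2 he2⟩ hxo (L2 x hxX b hb)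
    let f : G → Set G := fun z =>
      {w | ∃ y ∈ Dperp D z, (orb D z y).ncard = Δ.ncard ∧ w ∈ orb D z y}
    have hfsub : ∀ g z w, w ∈ f z → cnj g w ∈ f (cnj g z) := by
      rintro g z w ⟨y, hy, hc, hw⟩
      refine ⟨cnj g y, mem_Dperp_cnj hD g hy, ?_, ?_⟩
      · rw [orb_cnj hD, ncard_cnj_image, hc]
      · rw [orb_cnj hD]; exact ⟨w, hw, rfl⟩
    have hf : ∀ g z, z ∈ D → f (cnj g z) = cnj g '' f z := by
      intro g z _
      ext u
      constructor
      · intro hu
        refine ⟨cnj g⁻¹ u, ?_, cnj_cnj_inv g u⟩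
        have := hfsub g⁻¹ _ _ hu
        rwa [cnj_inv_cnj] at this
      · rintro ⟨v, hv, rfl⟩
        exact hfsub g z v hv
    have hfB : ∀ z ∈ B, f z = Δ := by
      intro z hz
      ext w
      constructor
      · rintro ⟨y, hy, hc, hw⟩
        by_cases hyΔ : y ∈ Δ
        · have : y ∈ orb D z e := by rw [L1 z hz]; exact hyΔ
          rw [orb_eq this, L1 z hz] at hw
          exact hw
        · exfalso
          have hsub : orb D z y ⊆ B := by
            intro u hu
            have hu' := orb_subset hD hy hu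
            rcases tri u hu'.1 with h | h | h
            · exfalso
              apply hyΔ
              have h1 : u ∈ orb D z e := by rw [L1 z hz]; exact h
              rw [← L1 z hz, ← orb_eq h1, orb_eq hu]
              exact self_mem_orb D z y
            · exact h
            · exact absurd hu'.2.2 (L2 u h z hz)
          have : (orb D z y).ncard < B.ncard :=
            Set.ncard_lt_ncard ⟨hsub, fun h => (orb_subset hD hy (h hz)).2.1 rfl⟩ (Set.toFinite _)
          omega
      · intro hw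
        exact ⟨e, hBperp z hz heΔ, by rw [L1 z hz], by rw [L1 z hz]; exact hw⟩
    have hmem : ∀ z ∈ D, f z = Δ → z ∈ B := by
      intro z hz h
      have hsub : ∀ w ∈ Δ, w ∈ Dperp D z := by
        intro w hw
        rw [← h] at hw
        obtain ⟨y, hy, _, hwy⟩ := hw
        exact orb_subset hD hy hwy
      exact ⟨hz, fun h' => (hsub z h').2.1 rfl, fun w hw => (hsub w hw).2.2.symm⟩
    have huni : ∀ z ∈ D, f z ≠ Δ → (∀ a ∈ D, f a = Δ → Commute a z) ∨
        ∀ a ∈ D, f a = Δ → ¬ Commute a z := by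
      intro z hz hzL
      rcases tri z hz with h | h | h
      · exact Or.inl fun a ha haL => ((hmem a ha haL).2.2 z h).symm
      · exact absurd (hfB z h) hzL
      · exact Or.inr fun a ha haL => L2 z h a (hmem a ha haL)
    obtain ⟨M, hMf, hMn, hnab, hsimple, hcomm⟩ := getM f hf Δ hfB huni
    have hMB : M ≤ pairProd B := le_pairProd hD hsimple hMn
      (fun m hm b hb => hmem _ (hcl m b hb.1) ((hMf m hm b hb.1).trans (hfB b hb))) hd hdB (hcomm d hd)
    obtain ⟨m, hm, hme⟩ := hcomm e he.1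
    exact hme (mem_centralizer_singleton_iff.1 (pairProd_commute (fun b hb => (hb.2.2 e heΔ).symm) (hMB hm)))

end Cfsg.Agent.SporStructure
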