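import Mathlib

/-!
Minimal normal subgroups in groups with trivial solvable radical that are generated by a set `D`
of involutions such that every product of two members has order at most three.
-/

set_option autoImplicit false
set_option linter.all false

namespace Cfsg.Agent.SporStructure

open Subgroup
open scoped commutatorElement

variable {G : Type*} [Group G]

/-- A group in which every element has order at most three, and which is finite and nontrivial,
is not perfect. -/
theorem commutator_ne_top_of_sq_or_cube [Finite G] [Nontrivial G]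
    (h : ∀ s : G, s ^ 2 = 1 ∨ s ^ 3 = 1) : commutator G ≠ ⊤ := by
  intro hperf
  have hns : ¬ Group.IsSolvable G := fun hs => by
    have := Group.IsSolvable.commutator_lt_top_of_nontrivial (G := G)
    exact absurd hperf this.ne
  have inv2 : ∀ {a : G}, a * a = 1 → a⁻¹ = a := fun {a} ha => inv_eq_of_mul_eq_one_left ha
  have hcen : ∀ i s : G, i ≠ 1 → i * i = 1 → Commute i s → s * s = 1 := by
    intro i s hi hi2 his
    rcases h s with hs | hs
    · rwa [pow_two] at hs
    rcases h (i * s) with h2 | h3
    · rwa [his.mul_pow, pow_two, hi2, one_mul, pow_two] at h2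
    · exfalso
      apply hi
      rw [his.mul_pow, hs, mul_one, pow_succ, pow_two, hi2, one_mul] at h3
      exact h3
  have hcomm : ∀ i a b : G, i ≠ 1 → i * i = 1 → Commute i a → Commute i b → Commute a b := by
    intro i a b hi hi2 ha hb
    have h1 := inv2 (hcen i a hi hi2 ha)
    have h2 := inv2 (hcen i b hi hi2 hb)
    have h3 := inv2 (hcen i (a * b) hi hi2 (ha.mul_right hb))
    rw [mul_inv_rev, h1, h2] at h3
    exact h3.symm
  by_cases hall : ∀ i j : G, i * i = 1 → j * j = 1 → Commute i j
  · let A : Subgroup G :=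
      { carrier := {a | a * a = 1}
        one_mem' := by simp
        mul_mem' := by
          intro a b ha hb
          have ha' : a * a = 1 := ha
          have hb' : b * b = 1 := hb
          show a * b * (a * b) = 1
          calc a * b * (a * b) = a * (b * a) * b := by group
            _ = a * (a * b) * b := by rw [(hall b a hb' ha').eq]
            _ = a * a * (b * b) := by group
            _ = 1 := by rw [ha', hb', one_mul]
        inv_mem' := by
          intro a ha
          have ha' : a * a = 1 := ha
          show a⁻¹ * a⁻¹ = 1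
          rw [inv2 ha', ha'] }
    haveI : A.Normal := ⟨fun a ha g => by
      show g * a * g⁻¹ * (g * a * g⁻¹) = 1
      have ha' : a * a = 1 := ha
      calc g * a * g⁻¹ * (g * a * g⁻¹) = g * (a * a) * g⁻¹ := by group
        _ = 1 := by rw [ha']; group⟩
    haveI : Group.IsSolvable A := Group.isSolvable_of_comm fun a b => Subtype.ext (hall a b a.2 b.2).eq
    have hq : IsPGroup 3 (G ⧸ A) := by
      intro x
      induction x using QuotientGroup.induction_on with
      | H s =>
        refine ⟨1, ?_⟩
        rcases h s with hs | hs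
        · have : s ∈ A := by show s * s = 1; rwa [← pow_two]
          rw [(QuotientGroup.eq_one_iff s).2 this, one_pow]
        · rw [pow_one, ← QuotientGroup.mk_pow, hs]; rfl
    haveI : Fact (Nat.Prime 3) := ⟨by norm_num⟩
    haveI := hq.isNilpotent
    exact hns ((Group.isSolvable_iff_subgroup_quotient A).2 ⟨inferInstance, inferInstance⟩)
  · push_neg at hall
    obtain ⟨i₀, j₀, hi₀, hj₀, hij⟩ := hall
    -- each involution commutes only with itself
    have key : ∀ i i' : G, i ≠ 1 → i * i = 1 → i' ≠ 1 → i' * i' = 1 → Commute i i' → i = i' := by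
      intro i i' hi hi2 hi' hi'2 hii
      by_contra hne
      by_cases hc : Commute i i₀ ∧ Commute i j₀
      · exact hij (hcomm i i₀ j₀ hi hi2 hc.1 hc.2)
      obtain ⟨j, hj2, hjn⟩ : ∃ j : G, j * j = 1 ∧ ¬ Commute i j := by
        by_cases h1 : Commute i i₀
        · exact ⟨j₀, hj₀, fun h' => hc ⟨h1, h'⟩⟩
        · exact ⟨i₀, hi₀, h1⟩
      have hj : j ≠ 1 := by rintro rfl; exact hjn (Commute.one_right i)
      have hw2 : i * i' * (i * i') = 1 :=
        hcen i (i * i') hi hi2 ((Commute.refl i).mul_right hii)
      have hw : i * i' ≠ 1 := by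
        intro h'
        apply hne
        have := eq_inv_of_mul_eq_one_left h'
        rw [inv2 hi'2] at this
        exact this
      have braid : ∀ a : G, a * a = 1 → ¬ Commute a j → a * j * a = j * a * j := by
        intro a ha hna
        rcases h (a * j) with h2 | h3
        · exfalso
          apply hna
          rw [pow_two] at h2
          have h' := eq_inv_of_mul_eq_one_left h2
          rw [mul_inv_rev, inv2 ha, inv2 hj2] at h'
          exact h'
        · rw [pow_succ, pow_two] at h3
          have h' : a * j * a * (j * a * j) = 1 := by rw [← h3]; group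
          have := eq_inv_of_mul_eq_one_left h'
          rw [mul_inv_rev, mul_inv_rev, inv2 ha, inv2 hj2, ← mul_assoc] at this
          exact this
      have hn' : ¬ Commute i' j := fun h' => hjn (hcomm i' i j hi' hi'2 hii.symm h')
      have hnw : ¬ Commute (i * i') j := fun h' =>
        hjn (hcomm (i * i') i j hw hw2 ((Commute.refl i).mul_right hii).symm h')
      have b1 := braid i hi2 hjn
      have b2 := braid i' hi'2 hn'
      have b3 := braid (i * i') hw2 hnw
      -- `j (i i') j = (i i') j (i i')` but also it is `i j i i' j i'`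
      have e1 : i * i' * j * (i * i') = i * j * i * (i' * j * i') := by
        rw [b3, b1, b2]
        calc j * (i * i') * j = j * i * (j * j) * i' * j := by rw [hj2]; group
          _ = _ := by group
      -- cancel
      have e2 : i' * j * i = j * (i * i') * j := by
        have e1' : i * (i' * j * i) * i' = i * (j * (i * i') * j) * i' := by
          calc i * (i' * j * i) * i' = i * i' * j * (i * i') := by group
            _ = i * j * i * (i' * j * i') := e1
            _ = _ := by group
        exact mul_left_cancel (mul_right_cancel e1')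
      have e3 : j * (i * i') * j * (j * (i * i') * j) = 1 := by
        calc j * (i * i') * j * (j * (i * i') * j) = j * (i * i') * (j * j) * (i * i') * j := by group
          _ = j * ((i * i') * (i * i')) * j := by rw [hj2]; group
          _ = 1 := by rw [hw2, mul_one, hj2]
      rw [← e2] at e3
      -- (i' j i)^2 = 1 gives i' j w j i = 1
      have e4 : j * (i * i') * j = i' * i := by
        have h5 : i' * (j * (i * i') * j) * i = 1 := by rw [← e3]; group
        have h6 : j * (i * i') * j = i'⁻¹ * 1 * i⁻¹ := by rw [← h5]; group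
        rw [h6, inv2 hi'2, inv2 hi2, mul_one]
      apply hnw
      show i * i' * j = j * (i * i')
      rw [← hii.eq] at e4
      calc i * i' * j = j * (i * i') * j * j := by rw [e4]
        _ = j * (i * i') * (j * j) := by group
        _ = j * (i * i') := by rw [hj2, mul_one]
    haveI : Fact (Nat.Prime 2) := ⟨by norm_num⟩
    obtain ⟨P⟩ : Nonempty (Sylow 2 G) := inferInstance
    have hi₀1 : i₀ ≠ 1 := by rintro rfl; exact hij (Commute.one_left j₀)
    have hP2 : ∀ a : G, a ∈ (P : Subgroup G) → a * a = 1 := by
      intro a ha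
      rcases h a with h2 | h3
      · rwa [pow_two] at h2
      · obtain ⟨k, hk⟩ := P.isPGroup' ⟨a, ha⟩
        have hk' : a ^ (2 ^ k) = 1 := by simpa [Subtype.ext_iff] using hk
        have : orderOf a ∣ Nat.gcd (2 ^ k) 3 :=
          Nat.dvd_gcd (orderOf_dvd_of_pow_eq_one hk') (orderOf_dvd_of_pow_eq_one h3)
        rw [show Nat.gcd (2 ^ k) 3 = 1 from (Nat.Coprime.pow_left k (by norm_num))] at this
        rw [orderOf_eq_one_iff.1 (Nat.dvd_one.1 this), one_mul]
    have hone : ∀ a ∈ (P : Subgroup G), ∀ b ∈ (P : Subgroup G), a ≠ 1 → b ≠ 1 → a = b := by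
      intro a ha b hb ha1 hb1
      refine key a b ha1 (hP2 a ha) hb1 (hP2 b hb) ?_
      have h1 := inv2 (hP2 a ha); have h2 := inv2 (hP2 b hb)
      have h3 := inv2 (hP2 (a * b) (mul_mem ha hb))
      rw [mul_inv_rev, h1, h2] at h3
      exact h3.symm
    have hN : normalizer ((P : Subgroup G) : Set G) ≤ centralizer ((P : Subgroup G) : Set G) := by
      intro g hg
      rw [mem_centralizer_iff]
      intro a ha
      by_cases ha1 : a = 1
      · rw [ha1, one_mul, mul_one]
      have hga : g * a * g⁻¹ ∈ (P : Subgroup G) := ((mem_set_normalizer_iff.1 hg) a).1 ha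
      have hga1 : g * a * g⁻¹ ≠ 1 := fun h' => ha1 (by simpa using h')
      have := hone _ hga a ha hga1 ha1
      rw [mul_inv_eq_iff_eq_mul] at this
      exact this.symm
    have hcompl := MonoidHom.ker_transferSylow_isComplement' P hN
    have hker : (MonoidHom.transferSylow P hN).ker = ⊤ := by
      rw [eq_top_iff, ← hperf, _root_.commutator_def, commutator_le]
      intro a _ b _
      rw [MonoidHom.mem_ker, map_commutatorElement, commutatorElement_eq_one_iff_commute]
      set a' := MonoidHom.transferSylow P hN a
      set b' := MonoidHom.transferSylow P hN b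
      by_cases h1 : a' = 1
      · rw [h1]; exact Commute.one_left _
      by_cases h2 : b' = 1
      · rw [h2]; exact Commute.one_right _
      have : a' = b' := Subtype.ext (hone _ a'.2 _ b'.2 (fun h' => h1 (Subtype.ext h')) (fun h' => h2 (Subtype.ext h')))
      rw [this]
      exact Commute.refl _
    rw [hker, isComplement'_top_left] at hcompl
    obtain ⟨k, hk⟩ : ∃ k, orderOf i₀ = 2 ^ k := ⟨1, by
      rw [pow_one]; exact orderOf_eq_prime (by rw [pow_two, hi₀]) hi₀1⟩
    have hz : IsPGroup 2 (Subgroup.zpowers i₀) := IsPGroup.of_card (n := k) (by rw [Nat.card_zpowers, hk])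
    obtain ⟨Q, hQ⟩ := hz.exists_le_sylow
    have hc : Nat.card Q = Nat.card P := by rw [Sylow.card_eq_multiplicity, Sylow.card_eq_multiplicity]
    rw [hcompl, Subgroup.card_bot] at hc
    have : (Q : Subgroup G) = ⊥ := Subgroup.eq_bot_of_card_eq _ hc
    rw [this] at hQ
    exact hi₀1 (hQ (mem_zpowers i₀))

/-- The trivial solvable radical hypothesis. -/
def NoSolvableNormal (G : Type*) [Group G] : Prop :=
  ∀ N : Subgroup G, N.Normal → Group.IsSolvable ↥N → N = ⊥

/-- A nontrivial normal subgroup contains a minimal one; it is simple as an abstract group and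
centralises no member of a generating class `D`. -/
theorem exists_simple_normal_le [Finite G] (hsol : NoSolvableNormal G) {D : Set G}
    (hinvol : ∀ a ∈ D, a * a = 1) (hclosed : ∀ g : G, ∀ a ∈ D, g * a * g⁻¹ ∈ D)
    (hclass : ∀ a ∈ D, ∀ b ∈ D, ∃ g : G, g * a * g⁻¹ = b) (hgen : closure D = ⊤)
    (hord : ∀ a ∈ D, ∀ b ∈ D, (a * b) ^ 2 = 1 ∨ (a * b) ^ 3 = 1)
    (K : Subgroup G) [K.Normal] (hK : K ≠ ⊥) :
    ∃ M : Subgroup G, M ≤ K ∧ M.Normal ∧ (∃ a ∈ M, ∃ b ∈ M, ¬ Commute a b) ∧
      (∀ N : Subgroup G, N ≤ M → (∀ m ∈ M, ∀ n ∈ N, m * n * m⁻¹ ∈ N) → N = ⊥ ∨ N = M) ∧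
      ∀ a ∈ D, ∃ m ∈ M, ¬ Commute m a := by
  classical
  obtain ⟨M, ⟨hMn, hMb, hMK⟩, hMmin⟩ :=
    (Set.toFinite {M : Subgroup G | M.Normal ∧ M ≠ ⊥ ∧ M ≤ K}).exists_minimal
      ⟨K, inferInstance, hK, le_rfl⟩
  have hminM : ∀ N : Subgroup G, N.Normal → N ≠ ⊥ → N ≤ M → N = M := fun N h1 h2 h3 =>
    le_antisymm h3 (hMmin ⟨h1, h2, h3.trans hMK⟩ h3)
  have hnab : ∃ a ∈ M, ∃ b ∈ M, ¬ Commute a b := by
    by_contra h'
    push_neg at h'
    exact hMb (hsol M hMn (Group.isSolvable_of_comm fun a b => Subtype.ext (h' a a.2 b b.2).eq))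
  refine ⟨M, hMK, hMn, hnab, ?_, ?_⟩
  · intro N hNM hNinv
    by_cases hN : N = ⊥
    · exact Or.inl hN
    right
    obtain ⟨S, ⟨hSb, hSN, hSinv⟩, hSmin⟩ :=
      (Set.toFinite {S : Subgroup G | S ≠ ⊥ ∧ S ≤ N ∧ ∀ m ∈ M, ∀ n ∈ S, m * n * m⁻¹ ∈ S}).exists_minimal
        ⟨N, hN, le_rfl, hNinv⟩
    have hSM : S ≤ M := hSN.trans hNM
    let cj : G → Subgroup G → Subgroup G := fun g L => L.map (MulAut.conj g).toMonoidHom
    have mem_cj : ∀ (g : G) (L : Subgroup G) (x : G), x ∈ cj g L ↔ g⁻¹ * x * g ∈ L := by
      intro g L x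
      simp only [cj, Subgroup.mem_map_equiv, MulAut.conj_symm_apply]
    have hcjM : ∀ g, cj g S ≤ M := by
      intro g x hx
      have := hMn.conj_mem _ (hSM ((mem_cj g S x).1 hx)) g
      simpa [mul_assoc] using this
    have hcjinv : ∀ g, ∀ m ∈ M, ∀ n ∈ cj g S, m * n * m⁻¹ ∈ cj g S := by
      intro g m hm n hn
      rw [mem_cj] at hn ⊢
      have := hSinv (g⁻¹ * m * g) (by simpa using hMn.conj_mem m hm g⁻¹) _ hn
      convert this using 1; group
    have hsmall : ∀ L : Subgroup G, L ≤ S → (∀ m ∈ M, ∀ n ∈ L, m * n * m⁻¹ ∈ L) → L = ⊥ ∨ L = S := by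
      intro L hL hLinv
      by_cases hLb : L = ⊥
      · exact Or.inl hLb
      · exact Or.inr (le_antisymm hL (hSmin ⟨hLb, hL.trans hSN, hLinv⟩ hL))
    have hcard : ∀ g, Nat.card (cj g S) = Nat.card S := fun g =>
      (Nat.card_congr ((Subgroup.equivMapOfInjective S _ (MulAut.conj g).injective).toEquiv)).symm
    have hdich : ∀ g, cj g S = S ∨ S ⊓ cj g S = ⊥ := by
      intro g
      rcases hsmall (S ⊓ cj g S) inf_le_left (fun m hm n hn =>
        ⟨hSinv m hm n hn.1, hcjinv g m hm n hn.2⟩) with h' | h'
      · exact Or.inr h'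
      · left
        exact (Subgroup.eq_of_le_of_card_ge (inf_eq_left.1 h') (hcard g).le).symm
    have hcommdis : ∀ L L' : Subgroup G, L ≤ M → L' ≤ M →
        (∀ m ∈ M, ∀ n ∈ L, m * n * m⁻¹ ∈ L) → (∀ m ∈ M, ∀ n ∈ L', m * n * m⁻¹ ∈ L') →
        L ⊓ L' = ⊥ → ∀ a ∈ L, ∀ b ∈ L', Commute a b := by
      intro L L' hL hL' hLi hL'i hd a ha b hb
      have hmem : a * b * a⁻¹ * b⁻¹ ∈ L ⊓ L' := Subgroup.mem_inf.2 ⟨by
          have := mul_mem ha (hLi b (hL' hb) a⁻¹ (inv_mem ha))
          simpa [mul_assoc] using this,
        mul_mem (hL'i a (hL ha) b hb) (inv_mem hb)⟩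
      rw [hd, Subgroup.mem_bot] at hmem
      exact commutatorElement_eq_one_iff_commute.1 hmem
    have hSnab : ∃ a ∈ S, ∃ b ∈ S, ¬ Commute a b := by
      by_contra h'
      push_neg at h'
      let U : Set G := {x | ∃ g, x ∈ cj g S}
      have hUc : ∀ x ∈ U, ∀ y ∈ U, Commute x y := by
        rintro x ⟨g, hx⟩ y ⟨k, hy⟩
        rcases hdich (g⁻¹ * k) with hgk | hgk
        · have hy' : g⁻¹ * y * g ∈ S := by
            rw [← hgk, mem_cj]
            convert (mem_cj k S y).1 hy using 1; group
          exact (Commute.conj_iff g⁻¹).1 (by simpa using h' _ ((mem_cj g S x).1 hx) _ hy')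
        · refine hcommdis _ _ (hcjM g) (hcjM k) (hcjinv g) (hcjinv k) ?_ x hx y hy
          rw [eq_bot_iff]
          rintro z ⟨hz1, hz2⟩
          have hz' : g⁻¹ * z * g ∈ S ⊓ cj (g⁻¹ * k) S := by
            refine ⟨(mem_cj g S z).1 hz1, ?_⟩
            show g⁻¹ * z * g ∈ cj (g⁻¹ * k) S
            rw [mem_cj]
            convert (mem_cj k S z).1 hz2 using 1; group
          rw [hgk, Subgroup.mem_bot] at hz'
          rw [Subgroup.mem_bot]
          calc z = g * (g⁻¹ * z * g) * g⁻¹ := by group
            _ = 1 := by rw [hz']; group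
      let W : Subgroup G := Subgroup.normalClosure (S : Set G)
      have hW : W ≤ closure U := by
        refine (closure_le _).2 ?_
        intro x hx
        obtain ⟨s, hs, hsx⟩ := Group.mem_conjugatesOfSet_iff.1 hx
        obtain ⟨g, rfl⟩ := isConj_iff.1 hsx
        refine subset_closure ⟨g, ?_⟩
        rw [mem_cj]
        rw [show g⁻¹ * (g * s * g⁻¹) * g = s by group]
        exact hs
      haveI : Group.IsSolvable (closure U) := by
        letI := Subgroup.closureCommGroupOfComm (fun x hx y hy => (hUc x hx y hy).eq)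
        infer_instance
      haveI : Group.IsSolvable W := Group.isSolvable_of_isSolvable_injective (Subgroup.inclusion_injective hW)
      have hWb := hsol W Subgroup.normalClosure_normal inferInstance
      exact hSb (eq_bot_iff.2 (le_trans Subgroup.le_normalClosure hWb.le))
    have hnorm : ∀ a ∈ D, cj a S = S := by
      intro a ha
      rcases hdich a with h' | h'
      · exact h'
      exfalso
      have ha' : a⁻¹ = a := inv_eq_of_mul_eq_one_left (hinvol a ha)
      have hc := hcommdis _ _ hSM (hcjM a) hSinv (hcjinv a) h'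
      have hexp : ∀ s : S, s ^ 2 = 1 ∨ s ^ 3 = 1 := by
        intro ⟨s, hs⟩
        have ht : a * s⁻¹ * a ∈ cj a S := by
          rw [mem_cj, ha']
          rw [show a * (a * s⁻¹ * a) * a = (a * a) * s⁻¹ * (a * a) by group, hinvol a ha, one_mul, mul_one]
          exact inv_mem hs
        have hk : ∀ n : ℕ, (s * (a * s⁻¹ * a)) ^ n = 1 → s ^ n = 1 := by
          intro n hn
          rw [(hc s hs _ ht).mul_pow] at hn
          have h1 : s ^ n ∈ S ⊓ cj a S := by
            refine ⟨pow_mem hs n, ?_⟩
            show s ^ n ∈ cj a S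
            rw [eq_inv_of_mul_eq_one_left hn]
            exact inv_mem (pow_mem ht n)
          rwa [h', Subgroup.mem_bot] at h1
        rcases hord _ (hclosed s a ha) a ha with h2 | h3
        · left; apply Subtype.ext
          simpa using hk 2 (by simpa [mul_assoc] using h2)
        · right; apply Subtype.ext
          simpa using hk 3 (by simpa [mul_assoc] using h3)
      obtain ⟨u, hu, v, hv, huv⟩ := hSnab
      haveI : Nontrivial S := (Subgroup.nontrivial_iff_ne_bot S).2 hSb
      have hne := commutator_ne_top_of_sq_or_cube hexp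
      -- the derived subgroup of `S` is invariant under `M`
      let S' : Subgroup G := ⁅S, S⁆
      have hS'le : S' ≤ S := Subgroup.commutator_le_self S
      have hS'inv : ∀ m ∈ M, ∀ n ∈ S', m * n * m⁻¹ ∈ S' := by
        intro m hm n hn
        have hmS : cj m S ≤ S := by
          intro x hx
          have := hSinv m hm _ ((mem_cj m S x).1 hx)
          convert this using 1; group
        have : cj m S' ≤ S' := by
          show (⁅S, S⁆).map _ ≤ ⁅S, S⁆
          rw [Subgroup.map_commutator]
          exact Subgroup.commutator_mono hmS hmS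
        exact this (by rw [mem_cj]; convert hn using 1; group)
      rcases hsmall S' hS'le hS'inv with h0 | h1
      · apply huv
        have : ⁅u, v⁆ ∈ S' := Subgroup.commutator_mem_commutator hu hv
        rw [h0, Subgroup.mem_bot] at this
        exact commutatorElement_eq_one_iff_commute.1 this
      · apply hne
        apply Subgroup.map_injective S.subtype_injective
        rw [Subgroup.map_subtype_commutator, ← MonoidHom.range_eq_map, Subgroup.range_subtype]
        exact h1
    have hSn : S.Normal := by
      have hle : closure D ≤ normalizer (S : Set G) := by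
        refine (closure_le _).2 fun a ha => ?_
        rw [SetLike.mem_coe, mem_normalizer_iff]
        intro x
        constructor
        · intro hx
          rw [← hnorm a ha, mem_cj]
          convert hx using 1; group
        · intro hx
          rw [← hnorm a ha, mem_cj] at hx
          convert hx using 1; group
      rw [hgen, top_le_iff] at hle
      exact Subgroup.normalizer_eq_top_iff.1 hle
    exact le_antisymm hNM ((hminM S hSn hSb hSM).ge.trans hSN)
  · intro a ha
    by_contra h'
    push_neg at h'
    obtain ⟨u, hu, v, hv, huv⟩ := hnab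
    apply huv
    have hall : closure D ≤ centralizer (M : Set G) := by
      refine (closure_le _).2 fun b hb => ?_
      rw [SetLike.mem_coe, mem_centralizer_iff]
      intro m hm
      obtain ⟨g, rfl⟩ := hclass a ha b hb
      have := h' (g⁻¹ * m * g) (by simpa using hMn.conj_mem m hm g⁻¹)
      have h2 := (Commute.conj_iff g).2 this
      have e : g * (g⁻¹ * m * g) * g⁻¹ = m := by group
      rw [e] at h2
      exact h2.eq
    rw [hgen, top_le_iff] at hall
    have hvm : v ∈ centralizer (M : Set G) := by rw [hall]; exact mem_top v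
    exact mem_centralizer_iff.1 hvm u hu

end Cfsg.Agent.SporStructure
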