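import Cfsg.Agent.SporStructure.GolayEngine

/-!
The quartets of the base dodecad through the base triple.
-/

set_option autoImplicit false

namespace Cfsg.Agent.SporStructure.Engine

open Cfsg Cfsg.Agent.Golay

/-- The hexads of the base dodecad. -/
def hexMasks : List ℕ := (classMasks 8 [(8245261, 6)]).map fun n => n &&& 8245261

/-- The same list, evaluated. -/
def hexList : List ℕ := [4542465, 4837376, 5541892, 1163269, 1916932, 5771269, 7081992, 2703369, 2473992, 6328329, 3702796, 3407885, 6045697, 1413121, 5079044, 577541, 7667720, 3166217, 2199564, 6832140, 7409665, 3719169, 6344708, 2457605, 5787656, 1900553, 835596, 4526092, 2969600, 5275661, 7127040, 2723841, 3690500, 7438340, 4554761, 806921, 5521420, 1118221, 6557701, 1687560, 4800517, 3444744, 1888256, 5865473, 856069, 4505605, 7389192, 3739656, 2379788, 6357005, 5328900, 2916361, 8126468, 118793, 3489793, 4755468, 4030464, 7622656, 6885380, 2899973, 5345288, 1359881, 4214797, 622605, 6406145, 1839116, 5017601, 3227660, 380932, 7864329, 3182597, 5062664, 7946240, 3936257, 6848517, 2183173, 1396744, 6062088, 4309004,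 299021, 3457028, 4788233, 1675268, 6569993, 5296129, 2949132, 6656000, 1589261, 5570565, 2674696, 3264512, 7634945, 6635524, 2920452, 1609737, 5324809, 610316, 4980749, 3735557, 4509704, 1331205, 6914056, 6098944, 2146317, 6836225, 1409036, 5816324, 2428937, 901121, 7344140, 2412545, 7143425, 3477508, 7356421, 888840, 4767753, 5832716, 1101836, 7901184, 344077, 5619712, 2625549, 1867781, 6377480, 2736132, 5509129, 1658881, 6586380, 5001220, 3244041, 4296709, 3948552]

/-- The triples completing the base triple to a hexad. -/
def uList : List ℕ := (hexList.filter fun h => h &&& 13 == 13).map fun h => h ^^^ 13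

/-- The quartets through the base triple. -/
def quadList : List (List ℕ) := [[13, 3407872, 4214784, 622592], [13, 5275648, 344064, 2625536], [13, 1118208, 4980736, 2146304], [13, 6356992, 299008, 1589248]]

/-- Elements carrying the first of them to each. -/
def quadTabs : List (List ℕ) :=
  [[0, 1, 2, 3, 4, 5, 6, 7, 8, 9, 10, 11, 12, 13, 14, 15, 16, 17, 18, 19, 20, 21, 22, 23],
    [3, 11, 2, 0, 10, 23, 9, 8, 4, 1, 17, 6, 20, 5, 15, 18, 14, 13, 21, 16, 19, 12, 22, 7],
    [3, 6, 2, 0, 4, 11, 8, 17, 10, 7, 13, 5, 19, 23, 22, 14, 15, 9, 20, 21, 16, 12, 18, 1],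
    [0, 9, 2, 3, 23, 10, 11, 8, 17, 1, 4, 6, 21, 7, 16, 18, 12, 13, 20, 15, 19, 14, 22, 5]]

def compat (u v : ℕ) : Bool := u != v && hexList.contains (u ||| v)

def sameMasks (A B : List ℕ) : Bool := A.all B.contains && B.all A.contains

set_option maxRecDepth 40000 in
theorem quartet_facts : hexMasks = hexList ∧
    uList.length = 12 ∧
    (uList.all fun u => uList.all fun v => !compat u v || uList.all fun w =>
      !(compat u w && compat v w) || quadList.any (sameMasks [13, u, v, w])) = true ∧
    (uList.all fun u => (quadList.filter fun Q => Q.contains u).length == 1) = true ∧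
    (quadList.all fun Q => Q.length == 4 && decide Q.Nodup && Q.contains 13 &&
      Q.all (fun t => popc t == 3 && t &&& 8245261 == t && decide (t < 2 ^ 24)) &&
      Q.all fun t => Q.all fun u => t == u || compat t u) = true ∧
    quadList.length = 4 ∧ quadTabs.length = 4 ∧
    (gensOk [8245261, 13] quadTabs) = true ∧
    ((List.range 4).all fun i => (quadList.getD 0 []).all fun t =>
      (quadList.getD i []).any fun u => maps (quadTabs.getD i idTab) t u) = true := by
  decide +kernel

end Cfsg.Agent.SporStructure.Engine
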