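import Cfsg.Agent.SporStructure.DodecadTriples
import Cfsg.Agent.SporStructure.CertQuartets
import Cfsg.Prelude.Def_SporadicCombinatorics

/-!
Quartets of a dodecad: existence and uniqueness through two triples, and their number.
-/

set_option autoImplicit false

namespace Cfsg.Agent.SporStructure.Engine

open Cfsg Cfsg.Agent.Golay
open scoped Pointwise

theorem toSet_xor_of_subset {h a : ℕ} (hs : h &&& a = a) : toSet (h ^^^ a) = toSet h \ toSet a := by
  ext p
  have h1 := congrArg (fun n => n.testBit (idx p)) hs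
  simp only [Nat.testBit_and] at h1
  simp only [mem_toSet, Finset.mem_sdiff, Nat.testBit_xor]
  revert h1
  cases h.testBit (idx p) <;> cases a.testBit (idx p) <;> simp

theorem hexList_lt {h : ℕ} (hh : h ∈ hexList) : h < 2 ^ 24 := by
  rw [← quartet_facts.1] at hh
  obtain ⟨n, hn, rfl⟩ := List.mem_map.1 hh
  exact lt_of_le_of_lt Nat.and_le_right (by norm_num)

theorem smul_hexadsOn {g : Equiv.Perm GolayPt} (hg : g ∈ Cfsg.M24) {d h : Finset GolayPt}
    (hh : h ∈ hexadsOn d) : g • h ∈ hexadsOn (g • d) := by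
  obtain ⟨hc, o, ho, hoh⟩ := hh
  exact ⟨by rw [Finset.card_smul_finset, hc], g • o, smul_mem_octads hg ho,
    by rw [← hoh, Finset.smul_finset_inter]⟩

theorem smul_quartets {g : Equiv.Perm GolayPt} (hg : g ∈ Cfsg.M24) {d : Finset GolayPt}
    {Q : Finset (Finset GolayPt)} (hQ : Q ∈ quartets d) : g • Q ∈ quartets (g • d) := by
  obtain ⟨hc, ht, hp⟩ := hQ
  refine ⟨by rw [Finset.card_smul_finset, hc], ?_, ?_⟩
  · intro t htg
    obtain ⟨s, hs, rfl⟩ := Finset.mem_smul_finset.1 htg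
    exact ⟨by rw [Finset.card_smul_finset, (ht s hs).1],
      Finset.smul_finset_subset_smul_finset (ht s hs).2⟩
  · intro t htg u hug hne
    obtain ⟨s, hs, rfl⟩ := Finset.mem_smul_finset.1 htg
    obtain ⟨s', hs', rfl⟩ := Finset.mem_smul_finset.1 hug
    rw [← Finset.smul_finset_union]
    exact smul_hexadsOn hg (hp s hs s' hs' (fun e => hne (by rw [e])))

theorem hexads_base {h : Finset GolayPt} :
    h ∈ hexadsOn (toSet 8245261) ↔ ∃ n ∈ hexList, toSet n = h := by
  rw [← quartet_facts.1]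
  constructor
  · rintro ⟨hc, o, ho, rfl⟩
    obtain ⟨n, hn, -, hno⟩ := mem_classMasks (w := 8) (cs := [(8245261, 6)]) (one_mem _) ho
      (by simp [Cond, Finset.inter_comm _ o, hc])
    rw [one_smul] at hno
    exact ⟨_, List.mem_map.2 ⟨n, hn, rfl⟩, by rw [← toSet_inter, hno]⟩
  · rintro ⟨x, hx, rfl⟩
    obtain ⟨n, hn, rfl⟩ := List.mem_map.1 hx
    obtain ⟨hn1, hn2⟩ := List.mem_filter.1 hn
    obtain ⟨m, hm, rfl⟩ := List.mem_map.1 hn1
    rw [Bool.and_eq_true, condB_iff, beq_iff_eq] at hn2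
    refine ⟨?_, toSet (comb m),
      octad_mem_iff.2 ⟨_, inCode_comb (List.mem_range.1 hm), hn2.1, rfl⟩, toSet_inter _ _⟩
    rw [← toSet_inter, Finset.inter_comm]
    simpa [Cond] using hn2.2 _ List.mem_cons_self

theorem compat_iff {u v : ℕ} (hu : u < 2 ^ 24) (hv : v < 2 ^ 24) :
    compat u v = true ↔ toSet u ≠ toSet v ∧ toSet u ∪ toSet v ∈ hexadsOn (toSet 8245261) := by
  rw [compat, Bool.and_eq_true, bne_iff_ne, List.contains_iff_mem, hexads_base, toSet_union]
  constructor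
  · exact fun ⟨h1, h2⟩ => ⟨fun e => h1 (toSet_injOn hu hv e), _, h2, rfl⟩
  · rintro ⟨h1, n, hn, e⟩
    refine ⟨fun e' => h1 (by rw [e']), ?_⟩
    rwa [toSet_injOn (hexList_lt hn) (Nat.or_lt_two_pow hu hv) e] at hn

/-- The set of triples of a list of masks. -/
def qset (L : List ℕ) : Finset (Finset GolayPt) := (L.map toSet).toFinset

theorem mem_qset {L : List ℕ} {t : Finset GolayPt} : t ∈ qset L ↔ ∃ u ∈ L, toSet u = t := by
  simp [qset]

theorem quad_props {L : List ℕ} (hL : L ∈ quadList) :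
    qset L ∈ quartets (toSet 8245261) ∧ toSet 13 ∈ qset L ∧ (∀ u ∈ L, u < 2 ^ 24) := by
  have hall := quartet_facts.2.2.2.2.1
  simp only [List.all_eq_true, Bool.and_eq_true, beq_iff_eq, decide_eq_true_eq, Bool.or_eq_true,
    List.contains_iff_mem] at hall
  obtain ⟨⟨⟨⟨hlen, hnd⟩, h13⟩, hprop⟩, hpair⟩ := hall L hL
  refine ⟨⟨?_, ?_, ?_⟩, mem_qset.2 ⟨13, h13, rfl⟩, fun u hu => (hprop u hu).2⟩
  · rw [qset, List.toFinset_card_of_nodup, List.length_map, hlen]
    exact hnd.map_on fun x hx y hy e => toSet_injOn (hprop x hx).2 (hprop y hy).2 e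
  · intro t ht
    obtain ⟨u, hu, rfl⟩ := mem_qset.1 ht
    obtain ⟨⟨h3, hsub⟩, hlt⟩ := hprop u hu
    exact ⟨by rw [card_toSet, h3], (by
      rw [← Finset.inter_eq_left, toSet_inter, hsub])⟩
  · intro t ht s hs hne
    obtain ⟨u, hu, rfl⟩ := mem_qset.1 ht
    obtain ⟨v, hv, rfl⟩ := mem_qset.1 hs
    rcases hpair u hu v hv with h | h
    · exact absurd (by rw [h]) hne
    · exact ((compat_iff (hprop u hu).2 (hprop v hv).2).1 h).2

theorem base_triple : toSet 13 = {some 0, pt 2, pt 3} ∧ (toSet 13).card = 3 ∧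
    toSet 13 ⊆ toSet 8245261 := by decide +kernel

theorem mem_uList {U : Finset GolayPt} (h3 : U.card = 3)
    (hh : toSet 13 ∪ U ∈ hexadsOn (toSet 8245261)) :
    ∃ u ∈ uList, u < 2 ^ 24 ∧ toSet u = U := by
  obtain ⟨n, hn, hne⟩ := hexads_base.1 hh
  have hsub : toSet 13 ⊆ toSet n := hne ▸ Finset.subset_union_left
  have hand : n &&& 13 = 13 := by
    rw [Nat.land_comm]
    exact (toSet_injOn (lt_of_le_of_lt Nat.and_le_left (by norm_num)) (by norm_num)
      (by rw [← toSet_inter]; exact Finset.inter_eq_left.2 hsub))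
  have hd : Disjoint (toSet 13) U := by
    rw [Finset.disjoint_iff_inter_eq_empty, ← Finset.card_eq_zero]
    have h6 := hh.1
    have := Finset.card_union_add_card_inter (toSet 13) U
    rw [h6, base_triple.2.1, h3] at this
    omega
  refine ⟨n ^^^ 13, List.mem_map.2 ⟨n, List.mem_filter.2 ⟨hn, by simp [hand]⟩, rfl⟩,
    Nat.xor_lt_two_pow (hexList_lt hn) (by norm_num), ?_⟩
  rw [toSet_xor_of_subset hand, hne, Finset.union_sdiff_cancel_left hd]

/-- Every quartet through the base triple is listed. -/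
theorem quartet_classify {Q : Finset (Finset GolayPt)} (hQ : Q ∈ quartets (toSet 8245261))
    (h13 : toSet 13 ∈ Q) : ∃ L ∈ quadList, Q = qset L := by
  obtain ⟨hc, ht, hp⟩ := hQ
  obtain ⟨U, V, W, hUV, hUW, hVW, hE⟩ := Finset.card_eq_three.1
    (show (Q.erase (toSet 13)).card = 3 by rw [Finset.card_erase_of_mem h13, hc])
  have hm : ∀ X ∈ ({U, V, W} : Finset (Finset GolayPt)), X ≠ toSet 13 ∧ X ∈ Q := fun X hX => by
    rw [← hE] at hX; exact Finset.mem_erase.1 hX
  have hu : ∀ X ∈ ({U, V, W} : Finset (Finset GolayPt)), ∃ u ∈ uList, u < 2 ^ 24 ∧ toSet u = X :=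
    fun X hX => mem_uList (ht X (hm X hX).2).1 (hp _ h13 _ (hm X hX).2 (hm X hX).1.symm)
  obtain ⟨u, hu1, hul, rfl⟩ := hu U (by simp)
  obtain ⟨v, hv1, hvl, rfl⟩ := hu V (by simp)
  obtain ⟨w, hw1, hwl, rfl⟩ := hu W (by simp)
  have c1 := (compat_iff hul hvl).2 ⟨hUV, hp _ (hm _ (by simp)).2 _ (hm _ (by simp)).2 hUV⟩
  have c2 := (compat_iff hul hwl).2 ⟨hUW, hp _ (hm _ (by simp)).2 _ (hm _ (by simp)).2 hUW⟩
  have c3 := (compat_iff hvl hwl).2 ⟨hVW, hp _ (hm _ (by simp)).2 _ (hm _ (by simp)).2 hVW⟩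
  have hall := quartet_facts.2.2.1
  simp only [List.all_eq_true, Bool.or_eq_true, Bool.not_eq_true', List.any_eq_true,
    Bool.and_eq_false_iff] at hall
  have h2 := (hall u hu1 v hv1).resolve_left (by rw [c1]; exact fun h => Bool.noConfusion h) w hw1
  obtain ⟨L, hL, hsame⟩ := h2.resolve_left (by rw [c2, c3]; simp)
  simp only [sameMasks, Bool.and_eq_true, List.all_eq_true, List.contains_iff_mem] at hsame
  refine ⟨L, hL, ?_⟩
  ext X
  rw [mem_qset, ← Finset.insert_erase h13, hE]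
  constructor
  · intro hX
    simp only [Finset.mem_insert, Finset.mem_singleton] at hX
    rcases hX with rfl | rfl | rfl | rfl
    · exact ⟨13, hsame.1 _ (by simp), rfl⟩
    · exact ⟨u, hsame.1 _ (by simp), rfl⟩
    · exact ⟨v, hsame.1 _ (by simp), rfl⟩
    · exact ⟨w, hsame.1 _ (by simp), rfl⟩
  · rintro ⟨x, hx, rfl⟩
    have := hsame.2 x hx
    simp only [List.mem_cons, List.not_mem_nil, or_false] at this
    rcases this with rfl | rfl | rfl | rfl <;> simp

theorem exists_to_base {d t : Finset GolayPt} (hd : d ∈ dodecads) (ht : t.card = 3) (htd : t ⊆ d) :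
    ∃ c ∈ Cfsg.M24, c • toSet 8245261 = d ∧ c • toSet 13 = t := by
  obtain ⟨p, q, r, hpq, hpr, hqr, rfl⟩ := Finset.card_eq_three.1 ht
  simp only [Finset.insert_subset_iff, Finset.singleton_subset_iff] at htd
  obtain ⟨c, hc, hcd, h1, h2, h3⟩ := exists_base_triple hd htd.1 htd.2.1 htd.2.2 hpq hpr hqr
  refine ⟨c, hc, hcd, ?_⟩
  rw [base_triple.1, Finset.smul_finset_insert, Finset.smul_finset_insert,
    Finset.smul_finset_singleton, Equiv.Perm.smul_def, Equiv.Perm.smul_def, Equiv.Perm.smul_def,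
    h1, h2, h3]

theorem quartet_through {d : Finset GolayPt} {c : Equiv.Perm GolayPt} (hc : c ∈ Cfsg.M24)
    (hcd : c • toSet 8245261 = d) {Q : Finset (Finset GolayPt)} :
    Q ∈ quartets d ∧ c • toSet 13 ∈ Q ↔ ∃ L ∈ quadList, Q = c • qset L := by
  constructor
  · rintro ⟨hQ, ht⟩
    have h1 := smul_quartets (Cfsg.M24.inv_mem hc) hQ
    rw [← hcd, inv_smul_smul] at h1
    obtain ⟨L, hL, e⟩ := quartet_classify h1 (Finset.mem_inv_smul_finset_iff.2 ht)
    exact ⟨L, hL, by rw [← e, smul_inv_smul]⟩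
  · rintro ⟨L, hL, rfl⟩
    exact ⟨hcd ▸ smul_quartets hc (quad_props hL).1, Finset.smul_mem_smul_finset (quad_props hL).2.1⟩

/-- Two triples with hexad union determine the quartet. -/
theorem quartet_unique {d : Finset GolayPt} (hd : d ∈ dodecads) {t u : Finset GolayPt}
    (ht : t.card = 3) (hu : u.card = 3) (hh : t ∪ u ∈ hexadsOn d) :
    ∃! Q : Finset (Finset GolayPt), Q ∈ quartets d ∧ t ∈ Q ∧ u ∈ Q := by
  have htd : t ⊆ d := by
    obtain ⟨-, o, -, ho⟩ := hh
    exact fun x hx => (Finset.mem_inter.1 (ho ▸ Finset.mem_union_left u hx)).2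
  obtain ⟨c, hc, hcd, hct⟩ := exists_to_base hd ht htd
  have hh' : toSet 13 ∪ c⁻¹ • u ∈ hexadsOn (toSet 8245261) := by
    have := smul_hexadsOn (Cfsg.M24.inv_mem hc) hh
    rwa [Finset.smul_finset_union, ← hcd, ← hct, inv_smul_smul, inv_smul_smul] at this
  obtain ⟨x, hx, hxlt, hxu⟩ := mem_uList (by rw [Finset.card_smul_finset, hu]) hh'
  have hone := quartet_facts.2.2.2.1
  simp only [List.all_eq_true, beq_iff_eq] at hone
  obtain ⟨L, hL⟩ := List.length_eq_one_iff.1 (hone x hx)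
  have hLm : L ∈ quadList ∧ x ∈ L := by
    have := List.mem_filter.1 (hL ▸ List.mem_singleton_self L)
    simpa [List.contains_iff_mem] using this
  have key : ∀ M ∈ quadList, u ∈ c • qset M → M = L := by
    intro M hM hu'
    rw [← Finset.inv_smul_mem_iff, ← hxu, mem_qset] at hu'
    obtain ⟨y, hy, e⟩ := hu'
    have hxy := toSet_injOn ((quad_props hM).2.2 y hy) hxlt e
    subst hxy
    have : M ∈ quadList.filter (fun Q => Q.contains y) :=
      List.mem_filter.2 ⟨hM, by simpa [List.contains_iff_mem] using hy⟩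
    rw [hL] at this
    simpa using this
  refine ⟨c • qset L, ⟨((quartet_through hc hcd).2 ⟨L, hLm.1, rfl⟩).1, ?_, ?_⟩, ?_⟩
  · rw [← hct]; exact Finset.smul_mem_smul_finset (quad_props hLm.1).2.1
  · rw [← Finset.inv_smul_mem_iff, ← hxu]; exact mem_qset.2 ⟨x, hLm.2, rfl⟩
  · rintro Q ⟨hQ, htQ, huQ⟩
    obtain ⟨M, hM, rfl⟩ := (quartet_through hc hcd).1 ⟨hQ, hct.symm ▸ htQ⟩
    rw [key M hM huQ]

theorem qset_images {i : ℕ} (hi : i < 4) : ∃ g ∈ Cfsg.M24, g • toSet 8245261 = toSet 8245261 ∧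
    g • qset (quadList.getD 0 []) = qset (quadList.getD i []) := by
  obtain ⟨-, -, -, -, -, hql, htl, hg, him⟩ := quartet_facts
  simp only [List.all_eq_true, List.mem_range, List.any_eq_true] at him
  have hgi := List.all_eq_true.1 hg _ (List.getElem_mem (n := i) (htl.symm ▸ hi))
  simp only [Bool.and_eq_true, List.all_eq_true] at hgi
  obtain ⟨⟨h1, h2⟩, h3⟩ := hgi
  refine ⟨permOf _ h1, (tab_permOf h1).mem_M24 h2, (tab_permOf h1).smul_toSet (h3 _ (by simp)), ?_⟩
  have m : ∀ j < 4, quadList.getD j [] ∈ quadList := fun j hj => by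
    rw [List.getD_eq_getElem _ _ (hql.symm ▸ hj)]; exact List.getElem_mem _
  refine Finset.eq_of_subset_of_card_le ?_ ?_
  · intro X hX
    obtain ⟨Y, hY, rfl⟩ := Finset.mem_smul_finset.1 hX
    obtain ⟨t, ht, rfl⟩ := mem_qset.1 hY
    obtain ⟨u, hu, hmap⟩ := him i hi t ht
    rw [List.getD_eq_getElem _ _ (htl.symm ▸ hi)] at hmap
    exact mem_qset.2 ⟨u, hu, ((tab_permOf h1).smul_toSet hmap).symm⟩
  · rw [Finset.card_smul_finset, (quad_props (m i hi)).1.1, (quad_props (m 0 (by norm_num))).1.1]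

/-- The number of quartets, and transitivity. -/
theorem quartets_count {d : Finset GolayPt} (hd : d ∈ dodecads) :
    (quartets d).ncard = 220 ∧ ∀ Q ∈ quartets d, ∀ Q' ∈ quartets d,
      ∃ g : Equiv.Perm GolayPt, g ∈ Cfsg.M24 ∧ g • d = d ∧ g • Q = Q' := by
  classical
  have hql : quadList.length = 4 := quartet_facts.2.2.2.2.2.1
  have hnd : (quadList.map qset).Nodup := by decide +kernel
  have four : ∀ t ∈ d.powersetCard 3,
      {Q : Finset (Finset GolayPt) | Q ∈ quartets d ∧ t ∈ Q}.ncard = 4 := by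
    intro t ht
    rw [Finset.mem_powersetCard] at ht
    obtain ⟨c, hc, hcd, hct⟩ := exists_to_base hd ht.2 ht.1
    have e : {Q : Finset (Finset GolayPt) | Q ∈ quartets d ∧ t ∈ Q} =
        ((quadList.map qset).toFinset.image (c • ·) : Finset (Finset (Finset GolayPt))) := by
      ext Q
      rw [Set.mem_ofPred_eq, ← hct, quartet_through hc hcd]
      simp [Finset.mem_smul_finset, Set.mem_smul_set, eq_comm]
    rw [e, Set.ncard_coe_finset, Finset.card_image_of_injective _ (MulAction.injective c),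
      List.toFinset_card_of_nodup hnd, List.length_map, hql]
  constructor
  · set F := (Set.toFinite (quartets d)).toFinset with hF
    have hmem : ∀ Q, Q ∈ F ↔ Q ∈ quartets d := fun Q => Set.Finite.mem_toFinset _
    have hdc := Finset.sum_card_bipartiteAbove_eq_sum_card_bipartiteBelow
      (s := d.powersetCard 3) (t := F) (fun t Q => t ∈ Q)
    rw [Finset.sum_const_nat (m := 4) (fun t ht => by
        rw [← four t ht, ← Set.ncard_coe_finset]
        congr 1
        ext Q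
        simp [Finset.bipartiteAbove, hmem]),
      Finset.sum_const_nat (m := 4) (fun Q hQ => by
        rw [← ((hmem Q).1 hQ).1]
        congr 1
        ext t
        simp only [Finset.bipartiteBelow, Finset.mem_filter, Finset.mem_powersetCard]
        exact ⟨fun h => h.2, fun h => ⟨⟨(((hmem Q).1 hQ).2.1 t h).2, (((hmem Q).1 hQ).2.1 t h).1⟩, h⟩⟩),
      Finset.card_powersetCard, card_of_mem_dodecads hd, show Nat.choose 12 3 = 220 by decide] at hdc
    rw [Set.ncard_eq_toFinset_card _ (Set.toFinite _), ← hF]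
    omega
  · have norm : ∀ Q ∈ quartets d, ∃ g ∈ Cfsg.M24, g • toSet 8245261 = d ∧
        g • qset (quadList.getD 0 []) = Q := by
      intro Q hQ
      obtain ⟨t, ht⟩ : Q.Nonempty := Finset.card_pos.1 (by rw [hQ.1]; norm_num)
      obtain ⟨c, hc, hcd, hct⟩ := exists_to_base hd (hQ.2.1 t ht).1 (hQ.2.1 t ht).2
      obtain ⟨L, hL, rfl⟩ := (quartet_through hc hcd).1 ⟨hQ, hct.symm ▸ ht⟩
      obtain ⟨i, hi, rfl⟩ := List.getElem_of_mem hL
      obtain ⟨g, hg, hgd, hgq⟩ := qset_images (i := i) (hql ▸ hi)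
      refine ⟨c * g, Cfsg.M24.mul_mem hc hg, by rw [mul_smul, hgd, hcd], ?_⟩
      rw [mul_smul, hgq, List.getD_eq_getElem _ _ hi]
    intro Q hQ Q' hQ'
    obtain ⟨g, hg, hgd, hgQ⟩ := norm Q hQ
    obtain ⟨g', hg', hgd', hgQ'⟩ := norm Q' hQ'
    refine ⟨g' * g⁻¹, Cfsg.M24.mul_mem hg' (Cfsg.M24.inv_mem hg), ?_, ?_⟩
    · rw [mul_smul]
      conv_lhs => rw [← hgd, inv_smul_smul]
      exact hgd'
    · rw [mul_smul, ← hgQ, inv_smul_smul, hgQ']

end Cfsg.Agent.SporStructure.Engine
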