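import Cfsg.Agent.SporStructure.TableGroup
import Mathlib.LinearAlgebra.Matrix.GeneralLinearGroup.Card

/-!
Maps of table groups onto `GL(2, 3)`.
-/

set_option autoImplicit false

namespace Cfsg.Agent.SporStructure.TableGroup

open Cfsg Cfsg.Agent.Golay
open scoped Pointwise

/-- A packed matrix modulo three. -/
def mat3 (x : ℕ) : Matrix (Fin 2) (Fin 2) (ZMod 3) :=
  !![((x / 27 : ℕ) : ZMod 3), ((x / 9 : ℕ) : ZMod 3); ((x / 3 : ℕ) : ZMod 3), (x : ZMod 3)]

/-- The images are multiplicative on the generators and every invertible matrix occurs. -/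
def gl3Ok (gens : List ℕ) (E : List ℕ) (im : ℕ → ℕ) : Bool :=
  E.all (fun x => gens.all fun g => decide (mat3 (im (compN x g)) = mat3 (im x) * mat3 (im g))) &&
    decide (mat3 (im idN) = 1) &&
    (List.range 81).all (fun n => decide ((mat3 n).det = 0) ||
      (E.map im).any (fun m => decide (mat3 m = mat3 n)))

theorem exists_code (M : Matrix (Fin 2) (Fin 2) (ZMod 3)) : ∃ n < 81, mat3 n = M := by
  have key : ∀ a b c e : ZMod 3, ∃ n ∈ List.range 81, mat3 n = !![a, b; c, e] := by decide +kernel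
  obtain ⟨n, hn, he⟩ := key (M 0 0) (M 0 1) (M 1 0) (M 1 1)
  exact ⟨n, List.mem_range.1 hn, he.trans (Matrix.eta_fin_two M).symm⟩

theorem card_GL3 : Nat.card (GL (Fin 2) (ZMod 3)) = 48 := by
  haveI : Fact (Nat.Prime 3) := ⟨by norm_num⟩
  rw [Matrix.card_GL_field, Fin.prod_univ_two]
  norm_num [ZMod.card]

/-- A surjection onto `GL(2, 3)`. -/
theorem exists_gl3 {H : Subgroup Cfsg.M24} {c : Cfsg.M24} {gens : List ℕ} {L : List (ℕ × ℕ)}
    (hgen : ∀ t ∈ gens, ∃ h ∈ H, encC c h = t) (hw : walkN gens [idN] L = true)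
    (hnd : (elems L).Nodup) (hcard : Nat.card H = (elems L).length) (im : ℕ → ℕ)
    (hok : gl3Ok gens (elems L) im = true) :
    ∃ φ : H →* GL (Fin 2) (ZMod 3), Function.Surjective φ := by
  simp only [gl3Ok, Bool.and_eq_true, List.all_eq_true, decide_eq_true_eq, Bool.or_eq_true,
    List.any_eq_true, List.mem_map, List.mem_range] at hok
  obtain ⟨⟨hmul, hid⟩, hsur⟩ := hok
  obtain ⟨φ, hφ⟩ := exists_hom hgen hw hnd hcard (fun e => mat3 (im e)) hid hmul
  obtain ⟨-, hex, -⟩ := cover hgen hw hnd hcard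
  refine ⟨φ.toHomUnits, fun u => ?_⟩
  obtain ⟨n, hn, hnu⟩ := exists_code u.1
  have hdet : ¬ (mat3 n).det = 0 := by
    rw [hnu]
    exact (Matrix.isUnit_iff_isUnit_det _).1 u.isUnit |>.ne_zero
  obtain ⟨m, ⟨e, he, rfl⟩, hm⟩ := (hsur n hn).resolve_left hdet
  obtain ⟨h, hh, rfl⟩ := hex e he
  refine ⟨⟨h, hh⟩, Units.ext ?_⟩
  rw [MonoidHom.coe_toHomUnits, hφ, ← hnu, hm]

end Cfsg.Agent.SporStructure.TableGroup
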