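import Cfsg.Agent.SporStructure.QuartetStabilizer
import Cfsg.Agent.SporStructure.PackedGL3

/-!
The shape and the orbits of the quartet stabiliser.
-/

set_option autoImplicit false

namespace Cfsg.Agent.SporStructure.TableGroup

open Cfsg Cfsg.Agent.Golay
open Cfsg.Agent.SporStructure.Engine
open scoped Pointwise

/-- The value listed for a packed table. -/
def lookQ : List (ℕ × ℕ) → ℕ → ℕ
  | [], _ => 0
  | (a, b) :: r, e => if a == e then b else lookQ r e

attribute [local irreducible] enc pack compN idN app elems lookQ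

set_option maxRecDepth 40000 in
theorem quad_gl3 : gl3Ok gensQuad (elems walkQuad) (lookQ imgQuad) = true := by decide +kernel

variable {d : Finset GolayPt} {Q : Finset (Finset GolayPt)}

theorem quartet_shape (hd : d ∈ dodecads) (hQ : Q ∈ quartets d) :
    Nat.card ↥(MulAction.stabilizer Cfsg.M24 d ⊓ MulAction.stabilizer Cfsg.M24 Q) = 432 ∧
    (∃ (N : Subgroup ↥(MulAction.stabilizer Cfsg.M24 d ⊓ MulAction.stabilizer Cfsg.M24 Q))
      (_ : N.Normal), Nat.card N = 9 ∧
      Nonempty (↥(MulAction.stabilizer Cfsg.M24 d ⊓ MulAction.stabilizer Cfsg.M24 Q) ⧸ N ≃*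
        GL (Fin 2) (ZMod 3))) ∧
    ∀ p ∈ d, ∀ q ∈ d, ∃ g ∈ (MulAction.stabilizer Cfsg.M24 d ⊓ MulAction.stabilizer Cfsg.M24 Q),
      ((g : ↥Cfsg.M24) : Equiv.Perm GolayPt) p = q := by
  obtain ⟨c, hcd, -, h432, hgen, hcard⟩ := quartet_setup hd hQ
  obtain ⟨-, hw, -⟩ := group_factsQuad
  obtain ⟨φ, hφ⟩ := exists_gl3 hgen hw nodupQuad hcard (lookQ imgQuad) quad_gl3
  refine ⟨h432, ⟨φ.ker, inferInstance, ?_, ⟨QuotientGroup.quotientKerEquivOfSurjective φ hφ⟩⟩, ?_⟩
  · have h1 := Subgroup.card_eq_card_quotient_mul_card_subgroup φ.ker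
    rw [Nat.card_congr (QuotientGroup.quotientKerEquivOfSurjective φ hφ).toEquiv, card_GL3, h432]
      at h1
    omega
  obtain ⟨-, hex, -⟩ := cover hgen hw nodupQuad hcard
  obtain ⟨-, -, -, -, htr⟩ := orbRep_facts
  simp only [List.all_eq_true, List.mem_range, Bool.or_eq_true, Bool.not_eq_true', List.any_eq_true,
    beq_iff_eq] at htr
  have key : ∀ p ∈ d, ∃ g ∈ (MulAction.stabilizer Cfsg.M24 d ⊓ MulAction.stabilizer Cfsg.M24 Q),
      g.1 (c.1 (pt 0)) = p := by
    intro p hp
    rw [← hcd, ← Finset.inv_smul_mem_iff, Equiv.Perm.smul_def, mem_toSet] at hp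
    obtain ⟨e, he, he0⟩ := (htr _ (idx_lt (c.1⁻¹ p))).resolve_left
      (by rw [hp]; exact fun h => Bool.noConfusion h)
    obtain ⟨h, hh, rfl⟩ := hex e he
    refine ⟨h, hh, ?_⟩
    rw [encC, app_enc _ (by norm_num)] at he0
    have := idx_injective he0
    simp only [Subgroup.coe_mul, Subgroup.coe_inv, Equiv.Perm.mul_apply] at this
    exact c.1⁻¹.injective this
  intro p hp q hq
  obtain ⟨g, hg, hgp⟩ := key p hp
  obtain ⟨g', hg', hgq⟩ := key q hq
  refine ⟨g' * g⁻¹, mul_mem hg' (inv_mem hg), ?_⟩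
  rw [Subgroup.coe_mul, Subgroup.coe_inv, Equiv.Perm.mul_apply, ← hgp, Equiv.Perm.coe_inv,
    Equiv.symm_apply_apply, hgq]

theorem quartet_orbits (hd : d ∈ dodecads) (hQ : Q ∈ quartets d) :
    ∃ X₁ ∈ quartets d, ∃ X₂ ∈ quartets d, ∃ X₃ ∈ quartets d, ∃ X₄ ∈ quartets d,
      (MulAction.orbit ↥(MulAction.stabilizer Cfsg.M24 d ⊓ MulAction.stabilizer Cfsg.M24 Q) X₁).ncard = 12 ∧
      (MulAction.orbit ↥(MulAction.stabilizer Cfsg.M24 d ⊓ MulAction.stabilizer Cfsg.M24 Q) X₂).ncard = 27 ∧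
      (MulAction.orbit ↥(MulAction.stabilizer Cfsg.M24 d ⊓ MulAction.stabilizer Cfsg.M24 Q) X₃).ncard = 72 ∧
      (MulAction.orbit ↥(MulAction.stabilizer Cfsg.M24 d ⊓ MulAction.stabilizer Cfsg.M24 Q) X₄).ncard = 108 ∧
      quartets d = {Q} ∪
        MulAction.orbit ↥(MulAction.stabilizer Cfsg.M24 d ⊓ MulAction.stabilizer Cfsg.M24 Q) X₁ ∪
        MulAction.orbit ↥(MulAction.stabilizer Cfsg.M24 d ⊓ MulAction.stabilizer Cfsg.M24 Q) X₂ ∪
        MulAction.orbit ↥(MulAction.stabilizer Cfsg.M24 d ⊓ MulAction.stabilizer Cfsg.M24 Q) X₃ ∪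
        MulAction.orbit ↥(MulAction.stabilizer Cfsg.M24 d ⊓ MulAction.stabilizer Cfsg.M24 Q) X₄ := by
  classical
  obtain ⟨c, hcd, hcQ, h432, hgen, hcard⟩ := quartet_setup hd hQ
  obtain ⟨-, hw, -⟩ := group_factsQuad
  obtain ⟨hcov, hex, -⟩ := cover hgen hw nodupQuad hcard
  set H := MulAction.stabilizer Cfsg.M24 d ⊓ MulAction.stabilizer Cfsg.M24 Q with hH
  obtain ⟨-, -, hcnt, hdis, -⟩ := orbRep_facts
  simp only [List.all_eq_true, List.mem_range, beq_iff_eq] at hcnt
  have hact : ∀ (h : Cfsg.M24) (M : List ℕ),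
      (c⁻¹ * h * c : Cfsg.M24).1 • qset M = c.1⁻¹ • h.1 • c.1 • qset M := fun h M => by
    simp only [Subgroup.coe_mul, Subgroup.coe_inv, mul_smul]
  have hstab : ∀ r ∈ orbReps, ∀ (h : H),
      into (unpack (encC c h.1)) r.1 r.1 = true ↔ h • (c.1 • qset r.1) = c.1 • qset r.1 := by
    intro r _ h
    rw [encC, into_iff (tab_unpack_enc _), hact]
    constructor
    · intro hs
      have he := Finset.eq_of_subset_of_card_le hs (by simp only [Finset.card_smul_finset]; rfl)
      show h.1.1 • c.1 • qset r.1 = _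
      exact (inv_smul_eq_iff.1 he)
    · intro he
      rw [show h.1.1 • c.1 • qset r.1 = c.1 • qset r.1 from he, inv_smul_smul]
  have hsize : ∀ r ∈ orbReps,
      (MulAction.orbit H (c.1 • qset r.1)).ncard * r.2.2 = 432 := by
    intro r hr
    have hst : Nat.card (MulAction.stabilizer H (c.1 • qset r.1)) = r.2.2 := by
      rw [← hcnt r hr, List.countP_eq_length_filter,
        ← List.toFinset_card_of_nodup (nodupQuad.filter _), ← Nat.card_eq_finsetCard]
      refine Nat.card_congr (Equiv.ofBijective (fun h => ⟨encC c h.1.1, ?_⟩) ⟨?_, ?_⟩)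
      · rw [List.mem_toFinset, List.mem_filter]
        exact ⟨hcov _ h.1.2, (hstab r hr h.1).2 h.2⟩
      · intro a b hab
        exact Subtype.ext (Subtype.ext (encC_injective c (Subtype.mk.inj hab)))
      · rintro ⟨e, he⟩
        rw [List.mem_toFinset, List.mem_filter] at he
        obtain ⟨h, hh, rfl⟩ := hex e he.1
        exact ⟨⟨⟨h, hh⟩, (hstab r hr ⟨h, hh⟩).1 he.2⟩, rfl⟩
    rw [← hst, ← MulAction.index_stabilizer H, mul_comm, Subgroup.card_mul_index, h432]
  have hmemq : ∀ r ∈ orbReps, MulAction.orbit H (c.1 • qset r.1) ⊆ quartets d := by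
    rintro r hr _ ⟨h, rfl⟩
    have := smul_quartets h.1.2 (smul_quartets c.2 (orbRep_quartet hr))
    rwa [hcd, show h.1.1 • d = d from h.2.1] at this
  have hne : ∀ i < 5, ∀ j < 5, i ≠ j → Disjoint
      (MulAction.orbit H (c.1 • qset (orbReps.getD i ([], 0, 0)).1))
      (MulAction.orbit H (c.1 • qset (orbReps.getD j ([], 0, 0)).1)) := by
    intro i hi j hj hij
    rw [Set.disjoint_left]
    rintro _ ⟨a, rfl⟩ ⟨b, hb⟩
    have hall := hdis
    simp only [List.all_eq_true, List.mem_range, Bool.or_eq_true, beq_iff_eq, Bool.not_eq_true']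
      at hall
    have := (hall i hi j hj).resolve_left hij _ (hcov _ (b⁻¹ * a).2)
    apply Bool.false_ne_true
    refine this.symm.trans ?_
    rw [encC, into_iff (tab_unpack_enc _), hact]
    have e : (b⁻¹ * a) • (c.1 • qset (orbReps.getD i ([], 0, 0)).1) =
        c.1 • qset (orbReps.getD j ([], 0, 0)).1 := by
      simp only at hb
      rw [mul_smul, ← hb]; exact inv_smul_smul b _
    rw [show (b⁻¹ * a).1.1 • c.1 • qset (orbReps.getD i ([], 0, 0)).1 =
      c.1 • qset (orbReps.getD j ([], 0, 0)).1 from e, inv_smul_smul]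
  let X : ℕ → Finset (Finset GolayPt) := fun i => c.1 • qset (orbReps.getD i ([], 0, 0)).1
  have hm : ∀ i < 5, orbReps.getD i ([], 0, 0) ∈ orbReps := fun i hi => by
    rw [List.getD_eq_getElem _ _ (by simpa [orbReps] using hi)]; exact List.getElem_mem _
  have hq : ∀ i < 5, X i ∈ quartets d := fun i hi => hmemq _ (hm i hi) (MulAction.mem_orbit_self _)
  have s : ∀ i < 5, (MulAction.orbit H (X i)).ncard = (orbReps.getD i ([], 0, 0)).2.1 := by
    intro i hi
    have := hsize _ (hm i hi)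
    interval_cases i <;> simp only [X, orbReps, List.getD_cons_zero, List.getD_cons_succ] at this ⊢ <;>
      omega
  refine ⟨X 1, hq 1 (by norm_num), X 2, hq 2 (by norm_num), X 3, hq 3 (by norm_num), X 4,
    hq 4 (by norm_num), s 1 (by norm_num), s 2 (by norm_num), s 3 (by norm_num), s 4 (by norm_num), ?_⟩
  have hQ0 : MulAction.orbit H (X 0) = {Q} := by
    ext Y
    have e0 : X 0 = Q := hcQ
    rw [e0]
    constructor
    · rintro ⟨h, rfl⟩
      exact h.2.2
    · rintro rfl
      exact MulAction.mem_orbit_self _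
  rw [← hQ0]
  refine (Set.eq_of_subset_of_ncard_le ?_ ?_ (Set.toFinite _)).symm
  · simp only [Set.union_subset_iff]
    exact ⟨⟨⟨⟨hmemq _ (hm 0 (by norm_num)), hmemq _ (hm 1 (by norm_num))⟩, hmemq _ (hm 2 (by norm_num))⟩,
      hmemq _ (hm 3 (by norm_num))⟩, hmemq _ (hm 4 (by norm_num))⟩
  · have dj : ∀ i j, i < 5 → j < 5 → i ≠ j →
        Disjoint (MulAction.orbit H (X i)) (MulAction.orbit H (X j)) :=
      fun i j hi hj hij => hne i hi j hj hij
    rw [Set.ncard_union_eq, Set.ncard_union_eq, Set.ncard_union_eq, Set.ncard_union_eq,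
      s 0 (by norm_num), s 1 (by norm_num), s 2 (by norm_num), s 3 (by norm_num), s 4 (by norm_num),
      (quartets_count hd).1]
    · simp [orbReps]
    all_goals first
      | exact Set.toFinite _
      | (simp only [Set.disjoint_union_left]
         repeat' apply And.intro
         all_goals exact dj _ _ (by norm_num) (by norm_num) (by norm_num))
      | exact dj _ _ (by norm_num) (by norm_num) (by norm_num)
      | (repeat' apply And.intro
         all_goals exact dj _ _ (by norm_num) (by norm_num) (by norm_num))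

end Cfsg.Agent.SporStructure.TableGroup
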