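import Cfsg.Agent.SporStructure.GolayEngine

/-!
The dodecad stabiliser on points: three-fold transitivity, and the three point stabiliser on the
complement.
-/

set_option autoImplicit false

namespace Cfsg.Agent.SporStructure.Engine

open Cfsg Cfsg.Agent.Golay

/-- All bits of `S` are reached. -/
def ptsOk (S : ℕ) (L : List ℕ) : Bool :=
  (List.range 24).all fun i => !Nat.testBit S i || L.contains (2 ^ i)

def tri0Gens : List (List ℕ) :=
  [[0, 5, 14, 20, 23, 11, 17, 9, 1, 7, 4, 8, 16, 10, 3, 21, 15, 6, 18, 19, 2, 12, 22, 13],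
    [12, 8, 0, 20, 23, 6, 1, 10, 11, 5, 4, 9, 22, 7, 18, 16, 19, 13, 21, 14, 2, 15, 3, 17]]

def tri0Walk : List (ℕ × ℕ) := [
  (1, 4096), (0, 65536), (0, 32768), (0, 2097152), (17, 524288), (1, 16384), (0, 8), (0, 1048576), (0, 4), (25, 262144), (33, 4194304)]

def tri1Gens : List (List ℕ) :=
  [[0, 13, 22, 20, 23, 11, 10, 9, 5, 6, 17, 7, 3, 4, 15, 21, 16, 8, 19, 12, 14, 18, 2, 1],
    [0, 23, 3, 12, 5, 11, 17, 13, 1, 8, 4, 7, 18, 6, 14, 21, 15, 10, 16, 22, 2, 20, 19, 9]]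

def tri1Walk : List (ℕ × ℕ) := [
  (0, 4194304), (1, 524288), (0, 4096), (0, 8), (0, 1048576), (0, 16384), (0, 32768), (0, 2097152), (0, 262144), (1, 65536)]

def tri2Gens : List (List ℕ) :=
  [[0, 6, 2, 15, 7, 1, 17, 4, 11, 23, 9, 8, 16, 10, 12, 18, 20, 5, 21, 19, 14, 3, 22, 13],
    [0, 17, 2, 21, 23, 5, 4, 13, 7, 1, 10, 11, 12, 8, 20, 16, 22, 9, 14, 3, 18, 19, 15, 6]]

def tri2Walk : List (ℕ × ℕ) := [
  (0, 32768), (0, 262144), (0, 2097152), (1, 524288), (17, 16384), (0, 4096), (0, 65536), (0, 1048576), (9, 4194304)]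

def tri3Gens : List (List ℕ) :=
  [[0, 9, 2, 3, 6, 23, 5, 1, 17, 13, 11, 10, 22, 7, 21, 12, 15, 8, 14, 18, 20, 19, 16, 4],
    [0, 4, 2, 3, 13, 8, 7, 6, 5, 10, 17, 1, 19, 11, 21, 22, 20, 23, 18, 15, 14, 16, 12, 9]]

def tri3Walk : List (ℕ × ℕ) := [
  (0, 512), (0, 8192), (0, 128), (1, 64), (0, 32), (0, 8388608), (0, 16), (17, 256), (0, 131072), (41, 2048), (0, 1024)]

set_option maxRecDepth 40000 in
theorem tri_facts : (gensOk [8245261] tri0Gens = true ∧ walkOk tri0Gens [1] tri0Walk = true ∧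
      ptsOk 8245261 (1 :: tri0Walk.map Prod.snd) = true) ∧
    (gensOk [1, 8245261] tri1Gens = true ∧ walkOk tri1Gens [4] tri1Walk = true ∧
      ptsOk 8245260 (4 :: tri1Walk.map Prod.snd) = true) ∧
    (gensOk [1, 4, 8245261] tri2Gens = true ∧ walkOk tri2Gens [8] tri2Walk = true ∧
      ptsOk 8245256 (8 :: tri2Walk.map Prod.snd) = true) ∧
    (gensOk [1, 4, 8, 8245261] tri3Gens = true ∧ walkOk tri3Gens [2] tri3Walk = true ∧
      ptsOk 8531954 (2 :: tri3Walk.map Prod.snd) = true) := by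
  decide +kernel

end Cfsg.Agent.SporStructure.Engine
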