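import Cfsg.Agent.SporStructure.GolaySuborbits
import Cfsg.Agent.SporStructure.CertDodecadTriple

/-!
The dodecad stabiliser is three-fold transitive on the dodecad; its three point stabilisers have
order 72 and are transitive on the complementary dodecad.
-/

set_option autoImplicit false

namespace Cfsg.Agent.SporStructure.Engine

open Cfsg Cfsg.Agent.Golay
open scoped Pointwise

theorem pts_transitive {as : List ℕ} {gens : List (List ℕ)} {S d0 : ℕ} {L : List (ℕ × ℕ)}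
    (hg : gensOk as gens = true) (ht : walkOk gens [d0] L = true)
    (hcov : ptsOk S (d0 :: L.map Prod.snd) = true) {c : Equiv.Perm GolayPt} (hc : c ∈ Cfsg.M24)
    {x y : GolayPt} (hx : x ∈ c • toSet S) (hy : y ∈ c • toSet S) :
    ∃ g ∈ Cfsg.M24, (∀ a ∈ as, g • c • toSet a = c • toSet a) ∧ g x = y := by
  simp only [ptsOk, List.all_eq_true, List.mem_range, Bool.or_eq_true, Bool.not_eq_true',
    List.contains_iff_mem] at hcov
  have key : ∀ z ∈ c • toSet S, ∃ g, Fix as g ∧ c • g • toSet d0 = {z} := by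
    intro z hz
    rw [← Finset.inv_smul_mem_iff, Equiv.Perm.smul_def, mem_toSet] at hz
    have hm := (hcov _ (idx_lt (c⁻¹ z))).resolve_left (by rw [hz]; exact fun h => Bool.noConfusion h)
    obtain ⟨g, hgF, hgx⟩ := transitive_list hg ht hm
    refine ⟨g, hgF, ?_⟩
    have e : toSet (2 ^ idx (c⁻¹ z)) = {c⁻¹ z} := by
      have := toSet_pow ⟨idx (c⁻¹ z), idx_lt _⟩
      rwa [pt_idx] at this
    rw [hgx, e, Finset.smul_finset_singleton, Equiv.Perm.smul_def, Equiv.Perm.coe_inv,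
      Equiv.apply_symm_apply]
  obtain ⟨g, hgF, hgx⟩ := key x hx
  obtain ⟨g', hgF', hgy⟩ := key y hy
  refine ⟨c * (g' * g⁻¹) * c⁻¹,
    Cfsg.M24.mul_mem (Cfsg.M24.mul_mem hc (hgF'.mul hgF.inv).1) (Cfsg.M24.inv_mem hc), ?_, ?_⟩
  · intro a ha
    rw [mul_smul, mul_smul, inv_smul_smul, (hgF'.mul hgF.inv).2 a ha]
  · have : (c * (g' * g⁻¹) * c⁻¹) • ({x} : Finset GolayPt) = {y} := by
      rw [← hgx, mul_smul, mul_smul, inv_smul_smul, mul_smul, inv_smul_smul, hgy]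
    rw [Finset.smul_finset_singleton] at this
    exact Finset.singleton_injective this

theorem triple_facts : toSet 4 = {pt 2} ∧ toSet 8 = {pt 3} ∧
    toSet 8245260 = (toSet 8245261).erase (some 0) ∧
    toSet 8245256 = ((toSet 8245261).erase (some 0)).erase (pt 2) ∧
    toSet 8531954 = (toSet 8245261)ᶜ := by decide +kernel

variable {d : Finset GolayPt} {p q r : GolayPt}

/-- Configuration: a dodecad with three of its points, as translates of the base one. -/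
theorem exists_base_triple (hd : d ∈ dodecads) (hp : p ∈ d) (hq : q ∈ d) (hr : r ∈ d)
    (hpq : p ≠ q) (hpr : p ≠ r) (hqr : q ≠ r) :
    ∃ c ∈ Cfsg.M24, c • toSet 8245261 = d ∧ c (some 0) = p ∧ c (pt 2) = q ∧ c (pt 3) = r := by
  obtain ⟨h2, h3, e1, e2, -⟩ := triple_facts
  obtain ⟨-, ⟨g1, w1, p1⟩, ⟨g2, w2, p2⟩, -⟩ := tri_facts
  have h1 := single_facts.2.2.1
  obtain ⟨c, hc, hcd, hcp⟩ := exists_base_dodecad_point hd hp
  have hm2 : pt 2 ∈ toSet 8245260 := by decide +kernel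
  obtain ⟨g, hg, hfix, hgq⟩ := pts_transitive g1 w1 p1 hc (x := c (pt 2)) (y := q)
    (Finset.smul_mem_smul_finset hm2)
    (by
      rw [e1, ← Finset.inv_smul_mem_iff, Finset.mem_erase, Finset.inv_smul_mem_iff, hcd]
      refine ⟨fun h => hpq ?_, hq⟩
      rw [Equiv.Perm.smul_def] at h
      rw [← hcp, ← h, Equiv.Perm.coe_inv, Equiv.apply_symm_apply])
  have hgp : g (c (some 0)) = c (some 0) := fix_point h1 (hfix _ (by simp))
  have hgd : g • c • toSet 8245261 = c • toSet 8245261 := hfix _ (by simp)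
  have hc' := Cfsg.M24.mul_mem hg hc
  have hd' : (g * c) • toSet 8245261 = d := by rw [mul_smul, hgd, hcd]
  have hp' : (g * c) (some 0) = p := by rw [Equiv.Perm.mul_apply, hgp, hcp]
  have hq' : (g * c) (pt 2) = q := by rw [Equiv.Perm.mul_apply, hgq]
  have hm3 : pt 3 ∈ toSet 8245256 := by decide +kernel
  obtain ⟨k, hk, hkfix, hkr⟩ := pts_transitive g2 w2 p2 hc' (x := (g * c) (pt 3)) (y := r)
    (Finset.smul_mem_smul_finset hm3)
    (by
      rw [e2, ← Finset.inv_smul_mem_iff, Finset.mem_erase, Finset.mem_erase,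
        Finset.inv_smul_mem_iff, hd']
      refine ⟨fun h => hqr ?_, fun h => hpr ?_, hr⟩
      · rw [Equiv.Perm.smul_def] at h
        rw [← hq', ← h, Equiv.Perm.coe_inv, Equiv.apply_symm_apply]
      · rw [Equiv.Perm.smul_def] at h
        rw [← hp', ← h, Equiv.Perm.coe_inv, Equiv.apply_symm_apply])
  refine ⟨k * (g * c), Cfsg.M24.mul_mem hk hc', ?_, ?_, ?_, ?_⟩
  · rw [mul_smul, hkfix _ (by simp), hd']
  · rw [Equiv.Perm.mul_apply, fix_point h1 (hkfix _ (by simp)), hp']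
  · rw [Equiv.Perm.mul_apply, fix_point h2 (hkfix _ (by simp)), hq']
  · rw [Equiv.Perm.mul_apply, hkr]

theorem card_step (K : Subgroup Cfsg.M24) (p : GolayPt) (O : Finset GolayPt)
    (h1 : ∀ k ∈ K, k • p ∈ O) (h2 : ∀ x ∈ O, ∃ k ∈ K, k • p = x) :
    Nat.card ↥(K ⊓ MulAction.stabilizer Cfsg.M24 p) * O.card = Nat.card K := by
  have e : MulAction.orbit K p = (O : Set GolayPt) := by
    ext x
    exact ⟨fun ⟨k, hk⟩ => hk ▸ h1 k.1 k.2, fun hx => let ⟨k, hk, h⟩ := h2 x hx; ⟨⟨k, hk⟩, h⟩⟩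
  have he : Nat.card (MulAction.stabilizer K p) = Nat.card ↥(K ⊓ MulAction.stabilizer Cfsg.M24 p) :=
    Nat.card_congr
      { toFun := fun k => ⟨k.1.1, k.1.2, k.2⟩
        invFun := fun k => ⟨⟨k.1, k.2.1⟩, k.2.2⟩
        left_inv := fun _ => rfl
        right_inv := fun _ => rfl }
  have := MulAction.index_stabilizer K p
  rw [e, Set.ncard_coe_finset] at this
  rw [← he, ← this, mul_comm, Subgroup.index_mul_card]

theorem card_dodecad_stabilizer (hd : d ∈ dodecads) :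
    Nat.card (MulAction.stabilizer Cfsg.M24 d) = 95040 := by
  have e : MulAction.orbit Cfsg.M24 d = dodecads := by
    ext x
    exact ⟨fun ⟨g, hg⟩ => hg ▸ smul_mem_dodecads g.2 hd, fun hx =>
      let ⟨g, hg, h⟩ := dodecad_transitive hd hx; ⟨⟨g, hg⟩, h⟩⟩
  have h1 := MulAction.index_stabilizer Cfsg.M24 d
  rw [e, ncard_dodecads] at h1
  have h2 := Subgroup.index_mul_card (MulAction.stabilizer Cfsg.M24 d)
  rw [h1, card_M24] at h2
  omega

theorem three_points (hd : d ∈ dodecads) (hp : p ∈ d) (hq : q ∈ d) (hr : r ∈ d)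
    (hpq : p ≠ q) (hpr : p ≠ r) (hqr : q ≠ r) :
    Nat.card ↥(MulAction.stabilizer Cfsg.M24 d ⊓ MulAction.stabilizer Cfsg.M24 p ⊓
      MulAction.stabilizer Cfsg.M24 q ⊓ MulAction.stabilizer Cfsg.M24 r) = 72 ∧
    ∀ x ∉ d, ∀ y ∉ d, ∃ g ∈ (MulAction.stabilizer Cfsg.M24 d ⊓ MulAction.stabilizer Cfsg.M24 p ⊓
      MulAction.stabilizer Cfsg.M24 q ⊓ MulAction.stabilizer Cfsg.M24 r),
      ((g : ↥Cfsg.M24) : Equiv.Perm GolayPt) x = y := by
  obtain ⟨h2, h3, e1, e2, e3⟩ := triple_facts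
  obtain ⟨c, hc, hcd, hcp, hcq, hcr⟩ := exists_base_triple hd hp hq hr hpq hpr hqr
  obtain ⟨⟨g0, w0, p0⟩, ⟨g1, w1, p1⟩, ⟨g2, w2, p2⟩, ⟨g3, w3, p3⟩⟩ := tri_facts
  have hfix : ∀ (z : GolayPt) (k : Cfsg.M24), k ∈ MulAction.stabilizer Cfsg.M24 z ↔ k.1 z = z :=
    fun _ _ => Iff.rfl
  have hset : ∀ k : Cfsg.M24, k ∈ MulAction.stabilizer Cfsg.M24 d ↔ k.1 • d = d := fun _ => Iff.rfl
  have hmem : ∀ (k : Cfsg.M24) (z : GolayPt), k.1 • d = d → z ∈ d → k.1 z ∈ d := fun k z h hz =>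
    h ▸ Finset.smul_mem_smul_finset hz
  have s1 := single_facts.2.2.1
  have c1 := point_in s1 hcp
  have c2 := point_in h2 hcq
  have c3 := point_in h3 hcr
  have hS1 : c • toSet 8245260 = d.erase p := by
    ext z
    rw [e1, ← Finset.inv_smul_mem_iff, Finset.mem_erase, Finset.inv_smul_mem_iff, hcd,
      Finset.mem_erase, ne_eq, inv_smul_eq_iff, Equiv.Perm.smul_def, hcp]
  have hS2 : c • toSet 8245256 = (d.erase p).erase q := by
    ext z
    rw [e2, ← Finset.inv_smul_mem_iff, Finset.mem_erase, Finset.mem_erase,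
      Finset.inv_smul_mem_iff, hcd, Finset.mem_erase, Finset.mem_erase, ne_eq, ne_eq,
      inv_smul_eq_iff, inv_smul_eq_iff, Equiv.Perm.smul_def, Equiv.Perm.smul_def, hcp, hcq]
  constructor
  · have dc := card_of_mem_dodecads hd
    have k1 := card_step (MulAction.stabilizer Cfsg.M24 d) p d
      (fun k hk => hmem k p ((hset k).1 hk) hp)
      (fun x hx => by
        obtain ⟨g, hg, hf, hgx⟩ := pts_transitive g0 w0 p0 hc (hcd.symm ▸ hp) (hcd.symm ▸ hx)
        exact ⟨⟨g, hg⟩, hcd ▸ hf _ (by simp), hgx⟩)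
    have k2 := card_step (MulAction.stabilizer Cfsg.M24 d ⊓ MulAction.stabilizer Cfsg.M24 p) q
      (d.erase p)
      (fun k hk => Finset.mem_erase.2 ⟨fun h => hpq.symm (k.1.injective (h.trans hk.2.symm)),
        hmem k q hk.1 hq⟩)
      (fun x hx => by
        obtain ⟨g, hg, hf, hgx⟩ := pts_transitive g1 w1 p1 hc
          (hS1.symm ▸ Finset.mem_erase.2 ⟨hpq.symm, hq⟩) (hS1.symm ▸ hx)
        exact ⟨⟨g, hg⟩, ⟨hcd ▸ hf _ (by simp), hcp ▸ fix_point s1 (hf _ (by simp))⟩, hgx⟩)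
    have k3 := card_step (MulAction.stabilizer Cfsg.M24 d ⊓ MulAction.stabilizer Cfsg.M24 p ⊓
      MulAction.stabilizer Cfsg.M24 q) r ((d.erase p).erase q)
      (fun k hk => Finset.mem_erase.2 ⟨fun h => hqr.symm (k.1.injective (h.trans hk.2.symm)),
        Finset.mem_erase.2 ⟨fun h => hpr.symm (k.1.injective (h.trans hk.1.2.symm)),
          hmem k r hk.1.1 hr⟩⟩)
      (fun x hx => by
        obtain ⟨g, hg, hf, hgx⟩ := pts_transitive g2 w2 p2 hc
          (hS2.symm ▸ Finset.mem_erase.2 ⟨hqr.symm, Finset.mem_erase.2 ⟨hpr.symm, hr⟩⟩)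
          (hS2.symm ▸ hx)
        exact ⟨⟨g, hg⟩, ⟨⟨hcd ▸ hf _ (by simp), hcp ▸ fix_point s1 (hf _ (by simp))⟩,
          hcq ▸ fix_point h2 (hf _ (by simp))⟩, hgx⟩)
    rw [card_dodecad_stabilizer hd, dc] at k1
    rw [Finset.card_erase_of_mem hp, dc] at k2
    rw [Finset.card_erase_of_mem (Finset.mem_erase.2 ⟨hpq.symm, hq⟩), Finset.card_erase_of_mem hp,
      dc] at k3
    omega
  · intro x hx y hy
    have hS : c • toSet 8531954 = dᶜ := by
      ext z
      rw [e3, ← Finset.inv_smul_mem_iff, Finset.mem_compl, Finset.inv_smul_mem_iff, hcd,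
        Finset.mem_compl]
    obtain ⟨g, hg, hf, hgx⟩ := pts_transitive g3 w3 p3 hc (x := x) (y := y)
      (hS.symm ▸ Finset.mem_compl.2 hx) (hS.symm ▸ Finset.mem_compl.2 hy)
    exact ⟨⟨g, hg⟩, ⟨⟨⟨hcd ▸ hf _ (by simp), hcp ▸ fix_point s1 (hf _ (by simp))⟩,
      hcq ▸ fix_point h2 (hf _ (by simp))⟩, hcr ▸ fix_point h3 (hf _ (by simp))⟩, hgx⟩

end Cfsg.Agent.SporStructure.Engine
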