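import Cfsg.Agent.SporStructure.DodecadBase
import Cfsg.Agent.SporStructure.CertGroupL211
import Cfsg.Agent.Lib.LinearGroup.Card

/-!
The stabiliser of a dodecad, a point of it and a point outside: `PSL(2, 11)`.
-/

set_option autoImplicit false

namespace Cfsg.Agent.SporStructure.TableGroup

open Cfsg Cfsg.Agent.Golay
open Cfsg.Agent.SporStructure.Engine
open scoped Pointwise

attribute [local irreducible] enc pack compN idN app elems look

variable {d : Finset GolayPt} {p q q' : GolayPt}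

/-- Product of two packed matrices modulo 11. -/
def mulP (x y : ℕ) : ℕ :=
  (x / 1331 % 11 * (y / 1331 % 11) + x / 121 % 11 * (y / 11 % 11)) % 11 * 1331 +
  (x / 1331 % 11 * (y / 121 % 11) + x / 121 % 11 * (y % 11)) % 11 * 121 +
  (x / 11 % 11 * (y / 1331 % 11) + x % 11 * (y / 11 % 11)) % 11 * 11 +
  (x / 11 % 11 * (y / 121 % 11) + x % 11 * (y % 11)) % 11

def negP (x : ℕ) : ℕ :=
  (10 * (x / 1331 % 11)) % 11 * 1331 + (10 * (x / 121 % 11)) % 11 * 121 +
  (10 * (x / 11 % 11)) % 11 * 11 + (10 * (x % 11)) % 11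

/-- A packed matrix. -/
def mat11 (x : ℕ) : Matrix (Fin 2) (Fin 2) (ZMod 11) :=
  !![((x / 1331 % 11 : ℕ) : ZMod 11), ((x / 121 % 11 : ℕ) : ZMod 11);
    ((x / 11 % 11 : ℕ) : ZMod 11), ((x % 11 : ℕ) : ZMod 11)]

theorem unpack4 {a b c e : ℕ} (hb : b < 11) (hc : c < 11) (he : e < 11) (ha : a < 11) :
    (a * 1331 + b * 121 + c * 11 + e) / 1331 % 11 = a ∧
    (a * 1331 + b * 121 + c * 11 + e) / 121 % 11 = b ∧
    (a * 1331 + b * 121 + c * 11 + e) / 11 % 11 = c ∧
    (a * 1331 + b * 121 + c * 11 + e) % 11 = e := by omega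

theorem mat11_mul (x y : ℕ) : mat11 (mulP x y) = mat11 x * mat11 y := by
  rw [mat11, mulP]
  obtain ⟨h1, h2, h3, h4⟩ := unpack4 (Nat.mod_lt (x / 1331 % 11 * (y / 121 % 11) + x / 121 % 11 * (y % 11)) (by norm_num : 11 > 0))
    (Nat.mod_lt (x / 11 % 11 * (y / 1331 % 11) + x % 11 * (y / 11 % 11)) (by norm_num : 11 > 0))
    (Nat.mod_lt (x / 11 % 11 * (y / 121 % 11) + x % 11 * (y % 11)) (by norm_num : 11 > 0))
    (Nat.mod_lt (x / 1331 % 11 * (y / 1331 % 11) + x / 121 % 11 * (y / 11 % 11)) (by norm_num : 11 > 0))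
  rw [h1, h2, h3, h4, mat11, mat11, Matrix.mul_fin_two]
  simp only [ZMod.natCast_mod, Nat.cast_add, Nat.cast_mul]

theorem mat11_neg (x : ℕ) : mat11 (negP x) = -mat11 x := by
  rw [mat11, negP]
  obtain ⟨h1, h2, h3, h4⟩ := unpack4 (Nat.mod_lt (10 * (x / 121 % 11)) (by norm_num : 11 > 0))
    (Nat.mod_lt (10 * (x / 11 % 11)) (by norm_num : 11 > 0))
    (Nat.mod_lt (10 * (x % 11)) (by norm_num : 11 > 0))
    (Nat.mod_lt (10 * (x / 1331 % 11)) (by norm_num : 11 > 0))
  rw [h1, h2, h3, h4, mat11]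
  have h10 : ((10 : ℕ) : ZMod 11) = -1 := by decide
  simp only [ZMod.natCast_mod, Nat.cast_mul, h10, neg_one_mul]
  ext i j
  fin_cases i <;> fin_cases j <;> simp

open Matrix in
/-- A packed matrix in the special linear group. -/
def toSL (x : ℕ) : SpecialLinearGroup (Fin 2) (ZMod 11) :=
  if h : (mat11 x).det = 1 then ⟨mat11 x, h⟩ else 1

def detOk (x : ℕ) : Bool :=
  (x / 1331 % 11 * (x % 11) + 10 * (x / 121 % 11 * (x / 11 % 11))) % 11 == 1

theorem coe_toSL {x : ℕ} (h : detOk x = true) : (toSL x).1 = mat11 x := by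
  have hd : (mat11 x).det = 1 := by
    rw [detOk, beq_iff_eq] at h
    have h' := congrArg (Nat.cast : ℕ → ZMod 11) h
    have h10 : ((10 : ℕ) : ZMod 11) = -1 := by decide
    rw [ZMod.natCast_mod, Nat.cast_add, Nat.cast_mul, Nat.cast_mul, Nat.cast_mul, h10,
      Nat.cast_one] at h'
    rw [mat11, Matrix.det_fin_two_of]
    linear_combination h'
  rw [show toSL x = ⟨mat11 x, hd⟩ from dif_pos hd]

set_option maxRecDepth 40000 in
theorem hom_factsL211 : (elems walkL211).all (fun x => detOk (look imgL211 x) &&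
      gensL211.all (fun g =>
        look imgL211 (compN x g) == mulP (look imgL211 x) (look imgL211 g) ||
        look imgL211 (compN x g) == negP (mulP (look imgL211 x) (look imgL211 g))) &&
      (!(look imgL211 x / 121 % 11 == 0 && look imgL211 x / 11 % 11 == 0 &&
        look imgL211 x / 1331 % 11 == look imgL211 x % 11) || x == idN)) = true ∧
    gensL211.all (fun g => detOk (look imgL211 g)) = true ∧
    look imgL211 idN = 1332 := by
  decide +kernel

open Matrix in
theorem mk_eq_mk {A B : SpecialLinearGroup (Fin 2) (ZMod 11)} (h : A.1 = B.1 ∨ A.1 = -B.1) :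
    (QuotientGroup.mk A : ProjectiveSpecialLinearGroup (Fin 2) (ZMod 11)) = QuotientGroup.mk B := by
  rw [QuotientGroup.eq]
  rcases h with h | h
  · rw [show A = B from Subtype.ext h, inv_mul_cancel]; exact one_mem _
  · have e : A = -B := Subtype.ext (by rw [h]; rfl)
    rw [e, Matrix.SpecialLinearGroup.mem_center_iff]
    refine ⟨-1, by simp, ?_⟩
    have hB : (-B)⁻¹ * B = (-1 : SpecialLinearGroup (Fin 2) (ZMod 11)) := by
      rw [inv_mul_eq_iff_eq_mul]; simp
    rw [hB, Matrix.SpecialLinearGroup.coe_neg, Matrix.SpecialLinearGroup.coe_one, map_neg, map_one]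

theorem iso_L211 (hd : d ∈ dodecads) (hp : p ∈ d) (hq : q ∉ d) :
    Nonempty (↥(MulAction.stabilizer Cfsg.M24 d ⊓ MulAction.stabilizer Cfsg.M24 p ⊓
      MulAction.stabilizer Cfsg.M24 q) ≃* Matrix.ProjectiveSpecialLinearGroup (Fin 2) (ZMod 11)) := by
  classical
  obtain ⟨c, hc, hcd, hcp, hcq⟩ := exists_base_pq hd hp hq
  set H := MulAction.stabilizer Cfsg.M24 d ⊓ MulAction.stabilizer Cfsg.M24 p ⊓
      MulAction.stabilizer Cfsg.M24 q
  obtain ⟨hgo, hw, hlen⟩ := group_factsL211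
  obtain ⟨hall, hgd, hid⟩ := hom_factsL211
  simp only [List.all_eq_true, Bool.and_eq_true, Bool.or_eq_true, Bool.not_eq_true', beq_iff_eq]
    at hall hgd
  simp only [List.all_eq_true] at hgo
  have hgen : ∀ t ∈ gensL211, ∃ h ∈ H, encC ⟨c, hc⟩ h = t := fun t ht => by
    obtain ⟨k, hk, hf, -⟩ := conj_gen (hgo t ht) ⟨c, hc⟩
    exact ⟨k, ⟨⟨hcd ▸ hf _ (by simp), hcp ▸ fix_point single_facts.2.2.1 (hf _ (by simp))⟩,
      hcq ▸ fix_point compl_facts.1 (hf _ (by simp))⟩, hk⟩
  have hcard : Nat.card H = (elems walkL211).length := by rw [hlen]; exact card_L211 hd hp hq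
  let f : ℕ → Matrix.ProjectiveSpecialLinearGroup (Fin 2) (ZMod 11) :=
    fun e => QuotientGroup.mk (toSL (look imgL211 e))
  obtain ⟨hcov, hex, -⟩ := cover hgen hw nodupL211 hcard
  have hid' : f idN = 1 := by
    have : toSL 1332 = 1 := Subtype.ext (by rw [coe_toSL (by decide +kernel)]; decide +kernel)
    show QuotientGroup.mk (toSL (look imgL211 idN)) = 1
    rw [hid, this]; rfl
  obtain ⟨φ, hφ⟩ := exists_hom hgen hw nodupL211 hcard f hid' (fun x hx g hg => by
    show QuotientGroup.mk _ = QuotientGroup.mk _ * QuotientGroup.mk _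
    rw [← QuotientGroup.mk_mul]
    refine mk_eq_mk ?_
    have hxg : compN x g ∈ elems walkL211 := by
      obtain ⟨a, ha, rfl⟩ := hex x hx
      obtain ⟨b, hb, rfl⟩ := hgen g hg
      rw [← encC_mul]
      exact hcov _ (H.mul_mem ha hb)
    rw [coe_toSL (hall _ hxg).1.1, Matrix.SpecialLinearGroup.coe_mul, coe_toSL (hall x hx).1.1,
      coe_toSL (hgd g hg)]
    rcases (hall x hx).1.2 g hg with e | e <;> rw [e]
    · exact Or.inl (mat11_mul _ _)
    · exact Or.inr (by rw [mat11_neg, mat11_mul]))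
  have hinj : Function.Injective φ := by
    rw [injective_iff_map_eq_one]
    intro h hh
    rw [hφ, QuotientGroup.eq_one_iff, Matrix.SpecialLinearGroup.mem_center_iff] at hh
    obtain ⟨r, -, hr⟩ := hh
    have hm := hcov h.1 h.2
    rw [coe_toSL (hall _ hm).1.1] at hr
    set m := look imgL211 (encC ⟨c, hc⟩ h.1)
    have e00 := congrFun (congrFun hr 0) 0
    have e01 := congrFun (congrFun hr 0) 1
    have e10 := congrFun (congrFun hr 1) 0
    have e11 := congrFun (congrFun hr 1) 1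
    simp [mat11, Matrix.scalar_apply] at e00 e01 e10 e11
    have inj : ∀ a b : ℕ, ((a % 11 : ℕ) : ZMod 11) = ((b % 11 : ℕ) : ZMod 11) → a % 11 = b % 11 :=
      fun a b hab => by
        rwa [ZMod.natCast_mod, ZMod.natCast_mod, ZMod.natCast_eq_natCast_iff'] at hab
    have z01 : m / 121 % 11 = 0 := inj (m / 121) 0 (by simpa using e01.symm)
    have z10 : m / 11 % 11 = 0 := inj (m / 11) 0 (by simpa using e10.symm)
    have zd : m / 1331 % 11 = m % 11 := inj (m / 1331) m (by simpa using e00.symm.trans e11)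
    refine Subtype.ext (encC_injective ⟨c, hc⟩ ?_)
    rw [OneMemClass.coe_one, encC_one]
    refine (hall _ hm).2.resolve_left ?_
    simp only [Bool.and_eq_false_iff, beq_eq_false_iff_ne, not_or, not_not, ne_eq]
    exact ⟨⟨z01, z10⟩, zd⟩
  have hcardP : Nat.card (Matrix.ProjectiveSpecialLinearGroup (Fin 2) (ZMod 11)) = 660 := by
    haveI : Fact (Nat.Prime 11) := ⟨by norm_num⟩
    have := Cfsg.Agent.LinearGroup.gcd_mul_card_PSL_two (F := ZMod 11)
    rw [Nat.card_zmod] at this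
    rw [show Nat.gcd 2 (11 - 1) = 2 from rfl, show 11 * (11 ^ 2 - 1) = 2 * 660 from rfl] at this
    omega
  exact ⟨MulEquiv.ofBijective φ ((Nat.bijective_iff_injective_and_card φ).2
    ⟨hinj, by rw [hcard, hlen, hcardP]⟩)⟩

end Cfsg.Agent.SporStructure.TableGroup
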