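import Cfsg.Agent.SporStructure.GolayEngine

/-!
Orbit certificates `dodPts`.
-/

set_option autoImplicit false

namespace Cfsg.Agent.SporStructure.Engine

open Cfsg Cfsg.Agent.Golay

def dodPtsGens : List (List ℕ) :=
  [[0, 13, 15, 14, 1, 5, 8, 9, 11, 6, 4, 7, 3, 17, 22, 21, 18, 10, 2, 12, 20, 16, 19, 23],
    [16, 1, 3, 2, 13, 11, 9, 7, 8, 17, 6, 4, 14, 5, 21, 19, 15, 10, 12, 0, 22, 18, 20, 23]]

def dodPtsWalk0_0 : List (ℕ × ℕ) := [
  (1, 65536), (0, 262144), (0, 4), (0, 32768), (0, 2097152), (9, 524288), (0, 4096), (0, 8), (0, 16384), (0, 4194304), (1, 1048576)]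

def dodPtsWalk0 : List (ℕ × ℕ) :=
  dodPtsWalk0_0

set_option maxRecDepth 40000 in
theorem dodPts_facts : gensOk [8245261] dodPtsGens = true ∧
    walkOk dodPtsGens [1] dodPtsWalk0 = true ∧
    (List.range 24).all (fun i => !Nat.testBit 8245261 i || ((1 :: dodPtsWalk0.map Prod.snd).contains (2 ^ i))) = true := by
  decide +kernel

end Cfsg.Agent.SporStructure.Engine
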