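import Cfsg.Agent.SporStructure.GolayEngine

/-!
Orbit certificates `pqIn`.
-/

set_option autoImplicit false

namespace Cfsg.Agent.SporStructure.Engine

open Cfsg Cfsg.Agent.Golay

def pqInGens : List (List ℕ) :=
  [[0, 3, 5, 17, 9, 2, 12, 4, 8, 10, 7, 22, 11, 19, 1, 21, 15, 14, 16, 13, 20, 18, 6, 23],
    [0, 5, 17, 1, 22, 14, 12, 15, 10, 7, 16, 18, 9, 19, 3, 13, 4, 2, 8, 20, 6, 11, 21, 23]]

def pqInWalk2_0 : List (ℕ × ℕ) := [
  (0, 12325377), (0, 9776129), (0, 14254209), (9, 9240913), (0, 8499969), (0, 11046145), (0, 14950785), (17, 8922769), (17, 13636881), (0, 9440193), (1, 8688833), (0, 10557585), (0, 12880401), (0, 14747201), (73, 13121601)]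

def pqInWalk2 : List (ℕ × ℕ) :=
  pqInWalk2_0

def pqInWalk4_0 : List (ℕ × ℕ) := [
  (0, 8505411), (0, 14716939), (0, 10881097), (1, 8657159), (0, 12650793), (0, 12747077), (0, 10506593), (1, 8412681), (0, 12717187), (0, 12599513), (0, 8524371), (1, 12587685), (0, 8391797), (9, 10666625), (0, 10765331), (0, 8716939), (0, 8619033), (1, 12656663), (0, 8946281), (0, 10630149), (0, 9193633), (1, 9748745), (0, 11731203), (9, 8398155), (0, 9048457), (0, 8546577), (0, 13124355), (1, 11535529), (0, 9830549), (0, 9519665), (0, 9471495), (1, 8593633), (0, 8966165), (0, 10496547), (0, 13370381), (17, 13771273), (0, 10110017), (0, 9465987), (0, 9963547), (1, 13893731)]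

def pqInWalk4_1 : List (ℕ × ℕ) := [
  (0, 9506893), (0, 9607201), (0, 15747077), (9, 8675909), (0, 8983587), (0, 8431757), (0, 15335473), (9, 9347075), (0, 11100169), (9, 9969957), (89, 11010247), (0, 8663097), (0, 9112069), (0, 12641313), (169, 8421811), (0, 10486557), (0, 8783649), (0, 8471941), (81, 10846245)]

def pqInWalk4 : List (ℕ × ℕ) :=
  pqInWalk4_0 ++ pqInWalk4_1

set_option maxRecDepth 40000 in
theorem pqIn_facts : gensOk [8388608, 1, 8536111] pqInGens = true ∧
    walkOk pqInGens [11575377] pqInWalk2 = true ∧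
    coverOk 8 [(8388608, 1), (1, 1), (8536111, 2)] (11575377 :: pqInWalk2.map Prod.snd) = true ∧
    (classMasks 8 [(8388608, 1), (1, 1), (8536111, 2)]).length = 16 ∧
    walkOk pqInGens [13062145] pqInWalk4 = true ∧
    coverOk 8 [(8388608, 1), (1, 1), (8536111, 4)] (13062145 :: pqInWalk4.map Prod.snd) = true ∧
    (classMasks 8 [(8388608, 1), (1, 1), (8536111, 4)]).length = 60 ∧
    valuesOk 8 [(8388608, 1), (1, 1)] 8536111 [2, 4, 8] = true ∧
    (classMasks 8 [(8388608, 1), (1, 1)]).length = 77 := by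
  decide +kernel

end Cfsg.Agent.SporStructure.Engine
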