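import Cfsg.Agent.SporStruct.M24Sets
import Cfsg.Agent.SporStructure.CertXIn
import Cfsg.Agent.SporStructure.CertXOut
import Cfsg.Agent.SporStructure.CertPqIn
import Cfsg.Agent.SporStructure.CertPqSplit
import Cfsg.Agent.SporStructure.CertXDod
import Cfsg.Agent.SporStructure.CertDodPts

/-!
Suborbits on octads and dodecads of point stabilisers and two point stabilisers in `Cfsg.M24`.
-/

set_option autoImplicit false

namespace Cfsg.Agent.SporStructure.Engine

open Cfsg Cfsg.Agent.Golay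
open Cfsg.Agent.SporStruct.M24 (getD_inj exists_map_five_out apply_mem_smul)
open scoped Pointwise

theorem single_facts : toSet 8388608 = {none} ∧ toSet 16 = {bp 6} ∧ toSet 1 = {some 0} ∧
    bp 0 = none ∧ bp 1 = some 0 ∧ octadO = 8536111 := by decide +kernel

theorem toSet_pow (i : Fin 24) : toSet (2 ^ i.val) = {pt i.val} := by
  ext p
  rw [mem_toSet, Finset.mem_singleton, Nat.testBit_two_pow, decide_eq_true_eq]
  exact ⟨fun h => by rw [h, pt_idx], fun h => by rw [h, idx_pt i.isLt]⟩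

theorem card_single_one {x : GolayPt} {s : Finset GolayPt} : ({x} ∩ s).card = 1 ↔ x ∈ s := by
  by_cases h : x ∈ s <;> simp [h]

theorem card_single_zero {x : GolayPt} {s : Finset GolayPt} : ({x} ∩ s).card = 0 ↔ x ∉ s := by
  by_cases h : x ∈ s <;> simp [h]

theorem single_inter_empty {x : GolayPt} {s : Finset GolayPt} : {x} ∩ s = ∅ ↔ x ∉ s := by
  rw [← Finset.card_eq_zero, card_single_zero]

theorem eq_of_inter_card {a b : Finset GolayPt} {n : ℕ} (ha : a.card = n) (hb : b.card = n)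
    (h : (a ∩ b).card = n) : a = b :=
  (Finset.eq_of_subset_of_card_le Finset.inter_subset_left (by omega)).symm.trans
    (Finset.eq_of_subset_of_card_le Finset.inter_subset_right (by omega))

/-- Up to five given points of an octad and a point outside it come from the base configuration. -/
theorem exists_base {o : Finset GolayPt} (ho : o ∈ octads) {L : List GolayPt} (hL : L.Nodup)
    (hlen : L.length ≤ 5) (hLo : ∀ a ∈ L, a ∈ o) {p : GolayPt} (hp : p ∉ o) :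
    ∃ g ∈ Cfsg.M24, g • toSet 8536111 = o ∧ (∀ j < L.length, g (bp j) = L.getD j none) ∧
      g (bp 6) = p := by
  let L' := L ++ (o \ L.toFinset).toList
  have hnd : L'.Nodup := List.nodup_append.2 ⟨hL, Finset.nodup_toList _, fun a ha b hb e => by
    rw [Finset.mem_toList, Finset.mem_sdiff, List.mem_toFinset] at hb
    exact hb.2 (e ▸ ha)⟩
  have hin : ∀ a ∈ L', a ∈ o := fun a ha => by
    rcases List.mem_append.1 ha with h | h
    · exact hLo a h
    · rw [Finset.mem_toList, Finset.mem_sdiff] at h; exact h.1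
  have hl : L'.length = 8 := by
    have hsub : L.toFinset ⊆ o := fun a ha => hLo a (List.mem_toFinset.1 ha)
    rw [List.length_append, Finset.length_toList, Finset.card_sdiff_of_subset hsub,
      List.toFinset_card_of_nodup hL, card_of_mem_octads ho]
    omega
  obtain ⟨g, hg, hgo, hgj, hg6⟩ := exists_map_five_out (fun j => L'.getD j none)
    (fun j k hj hk => getD_inj hnd none (by omega) (by omega)) ho
    (fun j hj => by
      show L'.getD j none ∈ o
      rw [List.getD_eq_getElem _ _ (by omega : j < L'.length)]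
      exact hin _ (List.getElem_mem _)) hp
  refine ⟨g, hg, single_facts.2.2.2.2.2 ▸ hgo, fun j hj => ?_, hg6⟩
  rw [hgj j (by omega)]
  exact List.getD_append _ _ _ _ hj

theorem exists_notMem {o : Finset GolayPt} (ho : o ∈ octads) : ∃ p, p ∉ o := by
  by_contra h
  push_neg at h
  have := Finset.eq_univ_iff_forall.2 h
  have h8 := card_of_mem_octads ho
  rw [this, Finset.card_univ, card_golayPt] at h8
  exact absurd h8 (by norm_num)

theorem fix_point {c g : Equiv.Perm GolayPt} {a : ℕ} {y : GolayPt} (ha : toSet a = {y})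
    (h : g • c • toSet a = c • toSet a) : g (c y) = c y := by
  rw [ha, Finset.smul_finset_singleton, Finset.smul_finset_singleton] at h
  exact Finset.singleton_injective h

theorem point_in {c : Equiv.Perm GolayPt} {a : ℕ} {y x : GolayPt} (ha : toSet a = {y})
    (hc : c y = x) : c • toSet a = {x} := by
  rw [ha, Finset.smul_finset_singleton, Equiv.Perm.smul_def, hc]

/-- Suborbits at a point of an octad. -/
theorem heptads (x : GolayPt) (o : Finset GolayPt) (ho : o ∈ octads) (hx : x ∈ o) :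
    {o' : Finset GolayPt | o' ∈ octads ∧ x ∈ o' ∧ (o ∩ o').card = 2}.ncard = 112 ∧
    {o' : Finset GolayPt | o' ∈ octads ∧ x ∈ o' ∧ (o ∩ o').card = 4}.ncard = 140 ∧
    ∀ o' o'' : Finset GolayPt, o' ∈ octads → o'' ∈ octads → x ∈ o' → x ∈ o'' →
      (o ∩ o').card = (o ∩ o'').card → ∃ g : Equiv.Perm GolayPt, g ∈ Cfsg.M24 ∧ g x = x ∧
        g • o = o ∧ g • o' = o'' := by
  obtain ⟨p, hp⟩ := exists_notMem ho
  obtain ⟨c, hc, hco, hcj, -⟩ := exists_base ho (List.nodup_singleton x) (by simp)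
    (by simpa using hx) hp
  have hcx : c none = x := by simpa [single_facts.2.2.2.1] using hcj 0 (by simp)
  have hpt := point_in single_facts.1 hcx
  have hC : ∀ k s, Cond c [(8388608, 1), (8536111, k)] s ↔ x ∈ s ∧ (o ∩ s).card = k := by
    intro k s
    simp [Cond, hco, hpt, card_single_one]
  obtain ⟨hg, hw2, hc2, hn2, hw4, hc4, hn4, hv, -⟩ := xIn_facts
  refine ⟨?_, ?_, fun o' o'' ho' ho'' hx' hx'' he => ?_⟩
  · rw [← ncard_class (w := 8) hc hn2]; simp [hC]; rfl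
  · rw [← ncard_class (w := 8) hc hn4]; simp [hC]; rfl
  have hval := values hv hc ho' (by simpa [Cond, hpt, card_single_one] using hx')
  rw [hco] at hval
  have done_ : ∀ g ∈ Cfsg.M24, (∀ a ∈ [8388608, 8536111], g • c • toSet a = c • toSet a) →
      g • o' = o'' → ∃ g : Equiv.Perm GolayPt, g ∈ Cfsg.M24 ∧ g x = x ∧ g • o = o ∧ g • o' = o'' :=
    fun g hgM hfix h => ⟨g, hgM, hcx ▸ fix_point single_facts.1 (hfix _ (by simp)),
      hco ▸ hfix _ (by simp), h⟩
  simp only [List.mem_cons, List.not_mem_nil, or_false] at hval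
  rcases hval with h | h | h
  · obtain ⟨g, h1, h2, h3⟩ := transitive hg hw2 hc2 hc ho' ho'' ((hC 2 _).2 ⟨hx', h⟩)
      ((hC 2 _).2 ⟨hx'', he ▸ h⟩)
    exact done_ g h1 h2 h3
  · obtain ⟨g, h1, h2, h3⟩ := transitive hg hw4 hc4 hc ho' ho'' ((hC 4 _).2 ⟨hx', h⟩)
      ((hC 4 _).2 ⟨hx'', he ▸ h⟩)
    exact done_ g h1 h2 h3
  · refine ⟨1, one_mem _, rfl, one_smul _ _, ?_⟩
    rw [one_smul, ← eq_of_inter_card (card_of_mem_octads ho) (card_of_mem_octads ho') h,
      eq_of_inter_card (card_of_mem_octads ho) (card_of_mem_octads ho'') (he ▸ h)]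

/-- Suborbits at a point outside an octad. -/
theorem avoiding (x : GolayPt) (o : Finset GolayPt) (ho : o ∈ octads) (hx : x ∉ o) :
    {o' : Finset GolayPt | o' ∈ octads ∧ x ∉ o' ∧ (o ∩ o').card = 0}.ncard = 15 ∧
    {o' : Finset GolayPt | o' ∈ octads ∧ x ∉ o' ∧ (o ∩ o').card = 4}.ncard = 210 ∧
    {o' : Finset GolayPt | o' ∈ octads ∧ x ∉ o' ∧ (o ∩ o').card = 2}.ncard = 280 ∧
    ∀ o' o'' : Finset GolayPt, o' ∈ octads → o'' ∈ octads → x ∉ o' → x ∉ o'' →
      (o ∩ o').card = (o ∩ o'').card → ∃ g : Equiv.Perm GolayPt, g ∈ Cfsg.M24 ∧ g x = x ∧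
        g • o = o ∧ g • o' = o'' := by
  obtain ⟨c, hc, hco, -, hcx⟩ := exists_base ho List.nodup_nil (by simp) (by simp) hx
  have hpt := point_in single_facts.2.1 hcx
  have hC : ∀ k s, Cond c [(16, 0), (8536111, k)] s ↔ x ∉ s ∧ (o ∩ s).card = k := by
    intro k s
    simp [Cond, hco, hpt, single_inter_empty]
  obtain ⟨hg, hw0, hc0, hn0, hw2, hc2, hn2, hw4, hc4, hn4, hv, -⟩ := xOut_facts
  refine ⟨?_, ?_, ?_, fun o' o'' ho' ho'' hx' hx'' he => ?_⟩
  · rw [← ncard_class (w := 8) hc hn0]; simp [hC]; rfl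
  · rw [← ncard_class (w := 8) hc hn4]; simp [hC]; rfl
  · rw [← ncard_class (w := 8) hc hn2]; simp [hC]; rfl
  have hval := values hv hc ho' (by simpa [Cond, hpt, single_inter_empty] using hx')
  rw [hco] at hval
  have done_ : ∀ g ∈ Cfsg.M24, (∀ a ∈ [16, 8536111], g • c • toSet a = c • toSet a) →
      g • o' = o'' → ∃ g : Equiv.Perm GolayPt, g ∈ Cfsg.M24 ∧ g x = x ∧ g • o = o ∧ g • o' = o'' :=
    fun g hgM hfix h => ⟨g, hgM, hcx ▸ fix_point single_facts.2.1 (hfix _ (by simp)),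
      hco ▸ hfix _ (by simp), h⟩
  simp only [List.mem_cons, List.not_mem_nil, or_false] at hval
  rcases hval with h | h | h | h
  · obtain ⟨g, h1, h2, h3⟩ := transitive hg hw0 hc0 hc ho' ho'' ((hC 0 _).2 ⟨hx', h⟩)
      ((hC 0 _).2 ⟨hx'', he ▸ h⟩)
    exact done_ g h1 h2 h3
  · obtain ⟨g, h1, h2, h3⟩ := transitive hg hw2 hc2 hc ho' ho'' ((hC 2 _).2 ⟨hx', h⟩)
      ((hC 2 _).2 ⟨hx'', he ▸ h⟩)
    exact done_ g h1 h2 h3
  · obtain ⟨g, h1, h2, h3⟩ := transitive hg hw4 hc4 hc ho' ho'' ((hC 4 _).2 ⟨hx', h⟩)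
      ((hC 4 _).2 ⟨hx'', he ▸ h⟩)
    exact done_ g h1 h2 h3
  · refine ⟨1, one_mem _, rfl, one_smul _ _, ?_⟩
    rw [one_smul, ← eq_of_inter_card (card_of_mem_octads ho) (card_of_mem_octads ho') h,
      eq_of_inter_card (card_of_mem_octads ho) (card_of_mem_octads ho'') (he ▸ h)]

/-- Suborbits of a two point stabiliser on hexads. -/
theorem hexads (p q : GolayPt) (hpq : p ≠ q) (o o' o'' : Finset GolayPt) (ho : o ∈ octads)
    (ho' : o' ∈ octads) (ho'' : o'' ∈ octads) (hp : p ∈ o ∧ p ∈ o' ∧ p ∈ o'')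
    (hq : q ∈ o ∧ q ∈ o' ∧ q ∈ o'') (he : (o ∩ o').card = (o ∩ o'').card) :
    {x : Finset GolayPt | x ∈ octads ∧ p ∈ x ∧ q ∈ x ∧ (o ∩ x).card = 2}.ncard = 16 ∧
    {x : Finset GolayPt | x ∈ octads ∧ p ∈ x ∧ q ∈ x ∧ (o ∩ x).card = 4}.ncard = 60 ∧
    ∃ g : Equiv.Perm GolayPt, g ∈ Cfsg.M24 ∧ g p = p ∧ g q = q ∧ g • o = o ∧ g • o' = o'' := by
  obtain ⟨z, hz⟩ := exists_notMem ho
  obtain ⟨c, hc, hco, hcj, -⟩ := exists_base ho (L := [p, q]) (by simp [hpq]) (by simp)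
    (by simp [hp.1, hq.1]) hz
  have hcp : c none = p := by simpa [single_facts.2.2.2.1] using hcj 0 (by simp)
  have hcq : c (some 0) = q := by simpa [single_facts.2.2.2.2.1] using hcj 1 (by simp)
  have hptp := point_in single_facts.1 hcp
  have hptq := point_in single_facts.2.2.1 hcq
  have hC : ∀ k s, Cond c [(8388608, 1), (1, 1), (8536111, k)] s ↔
      p ∈ s ∧ q ∈ s ∧ (o ∩ s).card = k := by
    intro k s
    simp [Cond, hco, hptp, hptq, card_single_one]
  obtain ⟨hg, hw2, hc2, hn2, hw4, hc4, hn4, hv, -⟩ := pqIn_facts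
  refine ⟨?_, ?_, ?_⟩
  · rw [← ncard_class (w := 8) hc hn2]; simp [hC]; rfl
  · rw [← ncard_class (w := 8) hc hn4]; simp [hC]; rfl
  have hval := values hv hc ho' (by simpa [Cond, hptp, hptq, card_single_one] using ⟨hp.2.1, hq.2.1⟩)
  rw [hco] at hval
  have done_ : ∀ g ∈ Cfsg.M24, (∀ a ∈ [8388608, 1, 8536111], g • c • toSet a = c • toSet a) →
      g • o' = o'' → ∃ g : Equiv.Perm GolayPt, g ∈ Cfsg.M24 ∧ g p = p ∧ g q = q ∧ g • o = o ∧
        g • o' = o'' :=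
    fun g hgM hfix h => ⟨g, hgM, hcp ▸ fix_point single_facts.1 (hfix _ (by simp)),
      hcq ▸ fix_point single_facts.2.2.1 (hfix _ (by simp)), hco ▸ hfix _ (by simp), h⟩
  simp only [List.mem_cons, List.not_mem_nil, or_false] at hval
  rcases hval with h | h | h
  · obtain ⟨g, h1, h2, h3⟩ := transitive hg hw2 hc2 hc ho' ho''
      ((hC 2 _).2 ⟨hp.2.1, hq.2.1, h⟩) ((hC 2 _).2 ⟨hp.2.2, hq.2.2, he ▸ h⟩)
    exact done_ g h1 h2 h3
  · obtain ⟨g, h1, h2, h3⟩ := transitive hg hw4 hc4 hc ho' ho''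
      ((hC 4 _).2 ⟨hp.2.1, hq.2.1, h⟩) ((hC 4 _).2 ⟨hp.2.2, hq.2.2, he ▸ h⟩)
    exact done_ g h1 h2 h3
  · refine ⟨1, one_mem _, rfl, rfl, one_smul _ _, ?_⟩
    rw [one_smul, ← eq_of_inter_card (card_of_mem_octads ho) (card_of_mem_octads ho') h,
      eq_of_inter_card (card_of_mem_octads ho) (card_of_mem_octads ho'') (he ▸ h)]

/-- Octads through a point avoiding a second one. -/
theorem split (p q : GolayPt) (hpq : p ≠ q) :
    {x : Finset GolayPt | (x ∈ octads ∧ p ∈ x ∧ q ∉ x)}.ncard = 176 ∧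
    (∀ o o' : Finset GolayPt, (o ∈ octads ∧ p ∈ o ∧ q ∉ o) → (o' ∈ octads ∧ p ∈ o' ∧ q ∉ o') →
      ∃ g : Equiv.Perm GolayPt, g ∈ Cfsg.M24 ∧ g p = p ∧ g q = q ∧ g • o = o') ∧
    ∀ o : Finset GolayPt, (o ∈ octads ∧ p ∈ o ∧ q ∉ o) →
      {x : Finset GolayPt | (x ∈ octads ∧ p ∈ x ∧ q ∉ x) ∧ (o ∩ x).card = 2}.ncard = 70 ∧
      {x : Finset GolayPt | (x ∈ octads ∧ p ∈ x ∧ q ∉ x) ∧ (o ∩ x).card = 4}.ncard = 105 ∧
      ∀ o' o'' : Finset GolayPt, (o' ∈ octads ∧ p ∈ o' ∧ q ∉ o') →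
        (o'' ∈ octads ∧ p ∈ o'' ∧ q ∉ o'') → (o ∩ o').card = (o ∩ o'').card →
        ∃ g : Equiv.Perm GolayPt, g ∈ Cfsg.M24 ∧ g p = p ∧ g q = q ∧ g • o = o ∧ g • o' = o'' := by
  obtain ⟨hg, hw2, hc2, hn2, hw4, hc4, hn4, hv, hn⟩ := pqSplit_facts
  have base : ∀ o : Finset GolayPt, o ∈ octads ∧ p ∈ o ∧ q ∉ o → ∃ c ∈ Cfsg.M24,
      c • toSet 8536111 = o ∧ c none = p ∧ c (bp 6) = q := by
    rintro o ⟨ho, hp, hq⟩
    obtain ⟨c, hc, hco, hcj, hc6⟩ := exists_base ho (List.nodup_singleton p) (by simp)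
      (by simpa using hp) hq
    exact ⟨c, hc, hco, by simpa [single_facts.2.2.2.1] using hcj 0 (by simp), hc6⟩
  refine ⟨?_, fun o o' hoc ho'c => ?_, fun o hoc => ?_⟩
  · obtain ⟨c, hc, h⟩ := Cfsg.Agent.SporStruct.M24.exists_map_list (A := [none, bp 6]) (A' := [p, q])
      (by decide +kernel) (by simp [hpq]) rfl (by simp)
    simp only [List.map_cons, List.map_nil, List.cons.injEq, and_true] at h
    have hC : ∀ s, Cond c [(8388608, 1), (16, 0)] s ↔ p ∈ s ∧ q ∉ s := by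
      intro s
      simp [Cond, point_in single_facts.1 h.1, point_in single_facts.2.1 h.2, card_single_one,
        single_inter_empty]
    rw [← ncard_class (w := 8) hc hn]; simp [hC]; rfl
  · obtain ⟨c, hc, hco, hcp, hcq⟩ := base o hoc
    obtain ⟨c', hc', hco', hcp', hcq'⟩ := base o' ho'c
    refine ⟨c' * c⁻¹, Cfsg.M24.mul_mem hc' (Cfsg.M24.inv_mem hc), ?_, ?_, ?_⟩
    · rw [Equiv.Perm.mul_apply, ← hcp, Equiv.Perm.coe_inv, Equiv.symm_apply_apply, hcp', hcp]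
    · rw [Equiv.Perm.mul_apply, ← hcq, Equiv.Perm.coe_inv, Equiv.symm_apply_apply, hcq', hcq]
    · rw [← hco, mul_smul, inv_smul_smul, hco']
  · obtain ⟨c, hc, hco, hcp, hcq⟩ := base o hoc
    have hptp := point_in single_facts.1 hcp
    have hptq := point_in single_facts.2.1 hcq
    have hC : ∀ k s, Cond c [(8388608, 1), (16, 0), (8536111, k)] s ↔
        p ∈ s ∧ q ∉ s ∧ (o ∩ s).card = k := by
      intro k s
      simp [Cond, hco, hptp, hptq, card_single_one, single_inter_empty]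
    refine ⟨?_, ?_, fun o' o'' h' h'' he => ?_⟩
    · rw [← ncard_class (w := 8) hc hn2]; simp [hC, and_assoc]; rfl
    · rw [← ncard_class (w := 8) hc hn4]; simp [hC, and_assoc]; rfl
    have hval := values hv hc h'.1
      (by simpa [Cond, hptp, hptq, card_single_one, single_inter_empty] using h'.2)
    rw [hco] at hval
    have done_ : ∀ g ∈ Cfsg.M24, (∀ a ∈ [8388608, 16, 8536111], g • c • toSet a = c • toSet a) →
        g • o' = o'' → ∃ g : Equiv.Perm GolayPt, g ∈ Cfsg.M24 ∧ g p = p ∧ g q = q ∧ g • o = o ∧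
          g • o' = o'' :=
      fun g hgM hfix h => ⟨g, hgM, hcp ▸ fix_point single_facts.1 (hfix _ (by simp)),
        hcq ▸ fix_point single_facts.2.1 (hfix _ (by simp)), hco ▸ hfix _ (by simp), h⟩
    simp only [List.mem_cons, List.not_mem_nil, or_false] at hval
    rcases hval with h | h | h
    · obtain ⟨g, h1, h2, h3⟩ := transitive hg hw2 hc2 hc h'.1 h''.1
        ((hC 2 _).2 ⟨h'.2.1, h'.2.2, h⟩) ((hC 2 _).2 ⟨h''.2.1, h''.2.2, he ▸ h⟩)
      exact done_ g h1 h2 h3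
    · obtain ⟨g, h1, h2, h3⟩ := transitive hg hw4 hc4 hc h'.1 h''.1
        ((hC 4 _).2 ⟨h'.2.1, h'.2.2, h⟩) ((hC 4 _).2 ⟨h''.2.1, h''.2.2, he ▸ h⟩)
      exact done_ g h1 h2 h3
    · refine ⟨1, one_mem _, rfl, rfl, one_smul _ _, ?_⟩
      rw [one_smul, ← eq_of_inter_card (card_of_mem_octads hoc.1) (card_of_mem_octads h'.1) h,
        eq_of_inter_card (card_of_mem_octads hoc.1) (card_of_mem_octads h''.1) (he ▸ h)]

theorem dodecad0_mem : toSet 8245261 ∈ dodecads :=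
  dodecad_mem_iff.2 ⟨8245261, by decide +kernel, by decide +kernel, rfl⟩

theorem exists_base_dodecad_point {d : Finset GolayPt} (hd : d ∈ dodecads) {x : GolayPt}
    (hx : x ∈ d) : ∃ c ∈ Cfsg.M24, c • toSet 8245261 = d ∧ c (some 0) = x := by
  obtain ⟨c, hc, rfl⟩ := dodecad_transitive dodecad0_mem hd
  rw [← Finset.inv_smul_mem_iff, Equiv.Perm.smul_def, mem_toSet] at hx
  obtain ⟨hg, ht, hcov⟩ := dodPts_facts
  simp only [List.all_eq_true, List.mem_range, Bool.or_eq_true, Bool.not_eq_true',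
    List.contains_iff_mem] at hcov
  have hm := (hcov _ (idx_lt (c⁻¹ x))).resolve_left (by rw [hx]; exact fun h => Bool.noConfusion h)
  obtain ⟨g, hgF, hgx⟩ := transitive_list hg ht hm
  have e : toSet (2 ^ idx (c⁻¹ x)) = {c⁻¹ x} := by
    have := toSet_pow ⟨idx (c⁻¹ x), idx_lt _⟩
    rwa [pt_idx] at this
  rw [single_facts.2.2.1, e, Finset.smul_finset_singleton] at hgx
  refine ⟨c * g, Cfsg.M24.mul_mem hc hgF.1, by rw [mul_smul, hgF.2 _ (by simp)], ?_⟩
  rw [Equiv.Perm.mul_apply, show g (some 0) = c⁻¹ x from Finset.singleton_injective hgx,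
    Equiv.Perm.coe_inv, Equiv.apply_symm_apply]

/-- Suborbits at a point of a dodecad. -/
theorem dodecadsThrough (x : GolayPt) (d : Finset GolayPt) (hd : d ∈ dodecads) (hx : x ∈ d) :
    {d' : Finset GolayPt | d' ∈ dodecads ∧ x ∈ d' ∧ (d ∩ d').card = 4}.ncard = 165 ∧
    {d' : Finset GolayPt | d' ∈ dodecads ∧ x ∈ d' ∧ (d ∩ d').card = 8}.ncard = 330 ∧
    {d' : Finset GolayPt | d' ∈ dodecads ∧ x ∈ d' ∧ (d ∩ d').card = 6}.ncard = 792 ∧
    ∀ d' d'' : Finset GolayPt, d' ∈ dodecads → d'' ∈ dodecads → x ∈ d' → x ∈ d'' →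
      (d ∩ d').card = (d ∩ d'').card → ∃ g : Equiv.Perm GolayPt, g ∈ Cfsg.M24 ∧ g x = x ∧
        g • d = d ∧ g • d' = d'' := by
  obtain ⟨c, hc, hcd, hcx⟩ := exists_base_dodecad_point hd hx
  have hpt := point_in single_facts.2.2.1 hcx
  have hC : ∀ k s, Cond c [(1, 1), (8245261, k)] s ↔ x ∈ s ∧ (d ∩ s).card = k := by
    intro k s
    simp [Cond, hcd, hpt, card_single_one]
  obtain ⟨hg, hw4, hc4, hn4, hw6, hc6, hn6, hw8, hc8, hn8, hv, -⟩ := xDod_facts
  refine ⟨?_, ?_, ?_, fun d' d'' hd' hd'' hx' hx'' he => ?_⟩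
  · rw [← ncard_class (w := 12) hc hn4]; simp [hC]; rfl
  · rw [← ncard_class (w := 12) hc hn8]; simp [hC]; rfl
  · rw [← ncard_class (w := 12) hc hn6]; simp [hC]; rfl
  have hval := values hv hc hd' (by simpa [Cond, hpt, card_single_one] using hx')
  rw [hcd] at hval
  have done_ : ∀ g ∈ Cfsg.M24, (∀ a ∈ [1, 8245261], g • c • toSet a = c • toSet a) →
      g • d' = d'' → ∃ g : Equiv.Perm GolayPt, g ∈ Cfsg.M24 ∧ g x = x ∧ g • d = d ∧ g • d' = d'' :=
    fun g hgM hfix h => ⟨g, hgM, hcx ▸ fix_point single_facts.2.2.1 (hfix _ (by simp)),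
      hcd ▸ hfix _ (by simp), h⟩
  simp only [List.mem_cons, List.not_mem_nil, or_false] at hval
  rcases hval with h | h | h | h
  · obtain ⟨g, h1, h2, h3⟩ := transitive hg hw4 hc4 hc hd' hd'' ((hC 4 _).2 ⟨hx', h⟩)
      ((hC 4 _).2 ⟨hx'', he ▸ h⟩)
    exact done_ g h1 h2 h3
  · obtain ⟨g, h1, h2, h3⟩ := transitive hg hw6 hc6 hc hd' hd'' ((hC 6 _).2 ⟨hx', h⟩)
      ((hC 6 _).2 ⟨hx'', he ▸ h⟩)
    exact done_ g h1 h2 h3
  · obtain ⟨g, h1, h2, h3⟩ := transitive hg hw8 hc8 hc hd' hd'' ((hC 8 _).2 ⟨hx', h⟩)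
      ((hC 8 _).2 ⟨hx'', he ▸ h⟩)
    exact done_ g h1 h2 h3
  · refine ⟨1, one_mem _, rfl, one_smul _ _, ?_⟩
    rw [one_smul, ← eq_of_inter_card (card_of_mem_dodecads hd) (card_of_mem_dodecads hd') h,
      eq_of_inter_card (card_of_mem_dodecads hd) (card_of_mem_dodecads hd'') (he ▸ h)]

end Cfsg.Agent.SporStructure.Engine
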