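import Cfsg.Agent.Lib.Golay.Transitive

/-!
Orbit certificates for subgroups of `Cfsg.M24` fixing several point sets.
-/

set_option autoImplicit false

namespace Cfsg.Agent.SporStructure.Engine

open Cfsg Cfsg.Agent.Golay
open scoped Pointwise

/-- The tables describe elements of `M24` fixing every mask in `as`. -/
def gensOk (as : List ℕ) (gens : List (List ℕ)) : Bool :=
  gens.all fun l => isPermTab l && checkAut l && as.all fun a => maps l a a

/-- The element fixes every set in `as`. -/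
def Fix (as : List ℕ) (g : Equiv.Perm GolayPt) : Prop :=
  g ∈ Cfsg.M24 ∧ ∀ a ∈ as, g • toSet a = toSet a

theorem Fix.one (as : List ℕ) : Fix as 1 := ⟨one_mem _, fun _ _ => one_smul _ _⟩

theorem Fix.mul {as : List ℕ} {g h : Equiv.Perm GolayPt} (hg : Fix as g) (hh : Fix as h) :
    Fix as (g * h) :=
  ⟨Cfsg.M24.mul_mem hg.1 hh.1, fun a ha => by rw [mul_smul, hh.2 a ha, hg.2 a ha]⟩

theorem Fix.inv {as : List ℕ} {g : Equiv.Perm GolayPt} (hg : Fix as g) : Fix as g⁻¹ :=
  ⟨Cfsg.M24.inv_mem hg.1, fun a ha => by rw [inv_smul_eq_iff, hg.2 a ha]⟩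

/-- Depth first search certificate: a step is (how far to backtrack and the generator, new mask). -/
def walkOk (gens : List (List ℕ)) : List ℕ → List (ℕ × ℕ) → Bool
  | _, [] => true
  | stack, (k, e) :: r =>
    match stack.drop (k / 8) with
    | [] => false
    | d :: rest => maps (gens.getD (k % 8) idTab) d e && walkOk gens (e :: d :: rest) r

/-- The orbit of `toSet d0`. -/
def InOrbit (as : List ℕ) (d0 n : ℕ) : Prop := ∃ g, Fix as g ∧ g • toSet d0 = toSet n

theorem walk_sound {as : List ℕ} {d0 : ℕ} {gens : List (List ℕ)} (hg : gensOk as gens = true) :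
    ∀ (L : List (ℕ × ℕ)) (stack : List ℕ), walkOk gens stack L = true →
      (∀ d ∈ stack, InOrbit as d0 d) → ∀ p ∈ L, InOrbit as d0 p.2
  | [], _, _, _ => fun p hp => absurd hp List.not_mem_nil
  | (k, e) :: r, stack, hc, hs => by
    rw [walkOk] at hc
    split at hc
    · exact absurd hc Bool.false_ne_true
    rename_i d rest heq
    rw [Bool.and_eq_true] at hc
    have hmem : ∀ x ∈ d :: rest, InOrbit as d0 x := fun x hx =>
      hs x (List.mem_of_mem_drop (heq ▸ hx))
    have hnew : InOrbit as d0 e := by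
      obtain ⟨g, hgF, hgd⟩ := hmem d List.mem_cons_self
      obtain ⟨σ, hσ, hσt⟩ : ∃ σ, Fix as σ ∧ Tab σ (gens.getD (k % 8) idTab) := by
        rcases lt_or_ge (k % 8) gens.length with h | h
        · rw [List.getD_eq_getElem _ _ h]
          have := List.all_eq_true.1 hg _ (List.getElem_mem h)
          simp only [Bool.and_eq_true, List.all_eq_true] at this
          obtain ⟨⟨h1, h2⟩, h3⟩ := this
          exact ⟨permOf _ h1, ⟨(tab_permOf h1).mem_M24 h2, fun a ha =>
            (tab_permOf h1).smul_toSet (h3 a ha)⟩, tab_permOf h1⟩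
        · rw [List.getD_eq_default _ _ h]
          exact ⟨1, Fix.one as, tab_one⟩
      exact ⟨σ * g, hσ.mul hgF, by rw [mul_smul, hgd]; exact hσt.smul_toSet hc.1⟩
    intro p hp
    rcases List.mem_cons.1 hp with rfl | hp
    · exact hnew
    · refine walk_sound hg r _ hc.2 ?_ p hp
      intro y hy
      rcases List.mem_cons.1 hy with rfl | hy
      · exact hnew
      · exact hmem y hy

/-- The masks satisfy the intersection conditions. -/
def condB (cs : List (ℕ × ℕ)) (n : ℕ) : Bool := cs.all fun c => popc (n &&& c.1) == c.2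

/-- The sets satisfy the intersection conditions, after a translation. -/
def Cond (c : Equiv.Perm GolayPt) (cs : List (ℕ × ℕ)) (s : Finset GolayPt) : Prop :=
  ∀ x ∈ cs, (c • toSet x.1 ∩ s).card = x.2

theorem condB_iff (cs : List (ℕ × ℕ)) (n : ℕ) : condB cs n = true ↔ Cond 1 cs (toSet n) := by
  simp [condB, Cond, toSet_inter, card_toSet, Nat.land_comm]

theorem cond_smul {c : Equiv.Perm GolayPt} {cs : List (ℕ × ℕ)} {s : Finset GolayPt} :
    Cond c cs s ↔ Cond 1 cs (c⁻¹ • s) := by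
  refine forall₂_congr fun x _ => ?_
  rw [one_smul, ← Finset.card_smul_finset c (toSet x.1 ∩ c⁻¹ • s), Finset.smul_finset_inter,
    smul_inv_smul]

/-- Code words of weight `w` with the conditions. -/
def classMasks (w : ℕ) (cs : List (ℕ × ℕ)) : List ℕ :=
  ((List.range 4096).map comb).filter fun n => popc n == w && condB cs n

theorem ncard_class {w : ℕ} {cs : List (ℕ × ℕ)} {c : Equiv.Perm GolayPt} (hc : c ∈ Cfsg.M24)
    {N : ℕ} (h : (classMasks w cs).length = N) :
    {s : Finset GolayPt | s ∈ wordsOfWeight (golayCode : Set (GolayPt → ZMod 2)) w ∧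
      Cond c cs s}.ncard = N := by
  set L := classMasks w cs with hL
  have hlt : ∀ n ∈ L, n < 2 ^ 24 := by
    intro n hn
    obtain ⟨m, hm, rfl⟩ := List.mem_map.1 (List.mem_filter.1 hn).1
    exact comb_lt (List.mem_range.1 hm)
  have hnd : L.Nodup := by
    refine (List.Nodup.map_on ?_ List.nodup_range).filter _
    intro x hx y hy hxy
    rw [← comb_mod (List.mem_range.1 hx), hxy, comb_mod (List.mem_range.1 hy)]
  have e : {s : Finset GolayPt | s ∈ wordsOfWeight (golayCode : Set (GolayPt → ZMod 2)) w ∧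
      Cond c cs s} = (L.toFinset.image fun n => c • toSet n : Finset (Finset GolayPt)) := by
    ext s
    simp only [Set.mem_ofPred_eq, Finset.coe_image, Set.mem_image, Finset.mem_coe, List.mem_toFinset]
    constructor
    · rintro ⟨hw, hcs⟩
      obtain ⟨n, hn, hpn, hns⟩ := mem_wordsOfWeight_iff.1
        (smul_mem_wordsOfWeight (Cfsg.M24.inv_mem hc) hw)
      refine ⟨n, List.mem_filter.2 ⟨List.mem_map.2 ⟨n % 4096, ?_, beq_iff_eq.1 hn⟩, ?_⟩,
        by rw [hns, smul_inv_smul]⟩
      · exact List.mem_range.2 (Nat.mod_lt _ (by norm_num))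
      · rw [Bool.and_eq_true, condB_iff, hns, ← cond_smul]
        exact ⟨by simp [hpn], hcs⟩
    · rintro ⟨n, hn, rfl⟩
      obtain ⟨hn1, hn2⟩ := List.mem_filter.1 hn
      obtain ⟨m, hm, rfl⟩ := List.mem_map.1 hn1
      rw [Bool.and_eq_true, condB_iff, beq_iff_eq] at hn2
      exact ⟨smul_mem_wordsOfWeight hc
        (mem_wordsOfWeight_iff.2 ⟨_, inCode_comb (List.mem_range.1 hm), hn2.1, rfl⟩),
        by rw [cond_smul, inv_smul_smul]; exact hn2.2⟩
  rw [e, Set.ncard_coe_finset, Finset.card_image_of_injOn, List.toFinset_card_of_nodup hnd, h]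
  intro x hx y hy hxy
  exact toSet_injOn (hlt x (by simpa using hx)) (hlt y (by simpa using hy))
    (smul_left_cancel c hxy)

/-- The information bits of the masks. -/
def keys (L : List ℕ) : ℕ := L.foldl (fun a k => a ||| 2 ^ (k % 4096)) 0

/-- Every word of the class is reached. -/
def coverOk (w : ℕ) (cs : List (ℕ × ℕ)) (L : List ℕ) : Bool :=
  L.all (fun e => inCode e) && (classMasks w cs).all fun n => (keys L).testBit (n % 4096)

theorem mem_classMasks {w : ℕ} {cs : List (ℕ × ℕ)} {c : Equiv.Perm GolayPt} (hc : c ∈ Cfsg.M24)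
    {s : Finset GolayPt} (hs : s ∈ wordsOfWeight (golayCode : Set (GolayPt → ZMod 2)) w)
    (hcs : Cond c cs s) : ∃ n ∈ classMasks w cs, inCode n = true ∧ c • toSet n = s := by
  obtain ⟨n, hn, hpn, hns⟩ := mem_wordsOfWeight_iff.1
    (smul_mem_wordsOfWeight (Cfsg.M24.inv_mem hc) hs)
  refine ⟨n, List.mem_filter.2 ⟨List.mem_map.2 ⟨n % 4096,
    List.mem_range.2 (Nat.mod_lt _ (by norm_num)), beq_iff_eq.1 hn⟩, ?_⟩, hn,
    by rw [hns, smul_inv_smul]⟩
  rw [Bool.and_eq_true, condB_iff, hns, ← cond_smul]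
  exact ⟨by simp [hpn], hcs⟩

theorem transitive₁ {as : List ℕ} {gens : List (List ℕ)} {w : ℕ} {cs : List (ℕ × ℕ)} {d0 : ℕ}
    {L : List (ℕ × ℕ)} (hg : gensOk as gens = true) (ht : walkOk gens [d0] L = true)
    (hcov : coverOk w cs (d0 :: L.map Prod.snd) = true) {c : Equiv.Perm GolayPt}
    (hc : c ∈ Cfsg.M24) {s : Finset GolayPt}
    (hs : s ∈ wordsOfWeight (golayCode : Set (GolayPt → ZMod 2)) w) (hcs : Cond c cs s) :
    ∃ g, Fix as g ∧ c • g • toSet d0 = s := by
  obtain ⟨n, hnm, hn, rfl⟩ := mem_classMasks hc hs hcs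
  simp only [coverOk, Bool.and_eq_true, List.all_eq_true] at hcov
  obtain ⟨hin, hall⟩ := hcov
  obtain h | ⟨x, hx, e⟩ := testBit_foldl _ _ _ (hall n hnm)
  · simp at h
  have hxn : x = n := by
    rw [← (beq_iff_eq.1 (hin x hx) : comb (x % 4096) = x), e]
    exact beq_iff_eq.1 hn
  subst hxn
  have horb : InOrbit as d0 x := by
    rcases List.mem_cons.1 hx with rfl | hx
    · exact ⟨1, Fix.one as, one_smul _ _⟩
    · obtain ⟨p, hp, rfl⟩ := List.mem_map.1 hx
      exact walk_sound hg L [d0] ht (fun d hd => by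
        rw [List.mem_singleton] at hd
        exact ⟨1, Fix.one as, by rw [hd, one_smul]⟩) p hp
  obtain ⟨g, hgF, hgd⟩ := horb
  exact ⟨g, hgF, by rw [hgd]⟩

/-- Two members of a class are in one orbit of the stabiliser of the translated sets. -/
theorem transitive {as : List ℕ} {gens : List (List ℕ)} {w : ℕ} {cs : List (ℕ × ℕ)} {d0 : ℕ}
    {L : List (ℕ × ℕ)} (hg : gensOk as gens = true) (ht : walkOk gens [d0] L = true)
    (hcov : coverOk w cs (d0 :: L.map Prod.snd) = true) {c : Equiv.Perm GolayPt}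
    (hc : c ∈ Cfsg.M24) {s s' : Finset GolayPt}
    (hs : s ∈ wordsOfWeight (golayCode : Set (GolayPt → ZMod 2)) w)
    (hs' : s' ∈ wordsOfWeight (golayCode : Set (GolayPt → ZMod 2)) w) (hcs : Cond c cs s)
    (hcs' : Cond c cs s') :
    ∃ g ∈ Cfsg.M24, (∀ a ∈ as, g • c • toSet a = c • toSet a) ∧ g • s = s' := by
  obtain ⟨g, hgF, hgs⟩ := transitive₁ hg ht hcov hc hs hcs
  obtain ⟨g', hgF', hgs'⟩ := transitive₁ hg ht hcov hc hs' hcs'
  refine ⟨c * (g' * g⁻¹) * c⁻¹,
    Cfsg.M24.mul_mem (Cfsg.M24.mul_mem hc (hgF'.mul hgF.inv).1) (Cfsg.M24.inv_mem hc), ?_, ?_⟩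
  · intro a ha
    rw [mul_smul, mul_smul, inv_smul_smul, (hgF'.mul hgF.inv).2 a ha]
  · rw [← hgs, mul_smul, mul_smul, inv_smul_smul, mul_smul, inv_smul_smul, hgs']

/-- The intersections that occur. -/
def valuesOk (w : ℕ) (cs : List (ℕ × ℕ)) (a : ℕ) (ks : List ℕ) : Bool :=
  (classMasks w cs).all fun n => ks.any fun k => popc (n &&& a) == k

theorem values {w : ℕ} {cs : List (ℕ × ℕ)} {a : ℕ} {ks : List ℕ} (h : valuesOk w cs a ks = true)
    {c : Equiv.Perm GolayPt} (hc : c ∈ Cfsg.M24) {s : Finset GolayPt}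
    (hs : s ∈ wordsOfWeight (golayCode : Set (GolayPt → ZMod 2)) w) (hcs : Cond c cs s) :
    (c • toSet a ∩ s).card ∈ ks := by
  obtain ⟨n, hn, -, rfl⟩ := mem_classMasks hc hs hcs
  simp only [valuesOk, List.all_eq_true, List.any_eq_true, beq_iff_eq] at h
  obtain ⟨k, hk, e⟩ := h n hn
  rw [← Finset.smul_finset_inter, Finset.card_smul_finset, toSet_inter, card_toSet, Nat.land_comm, e]
  exact hk

theorem transitive_list {as : List ℕ} {gens : List (List ℕ)} {d0 : ℕ} {L : List (ℕ × ℕ)}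
    (hg : gensOk as gens = true) (ht : walkOk gens [d0] L = true) {n : ℕ}
    (hn : n ∈ d0 :: L.map Prod.snd) : InOrbit as d0 n := by
  rcases List.mem_cons.1 hn with rfl | hn
  · exact ⟨1, Fix.one as, one_smul _ _⟩
  · obtain ⟨p, hp, rfl⟩ := List.mem_map.1 hn
    exact walk_sound hg L [d0] ht (fun d hd => by
      rw [List.mem_singleton] at hd
      exact ⟨1, Fix.one as, by rw [hd, one_smul]⟩) p hp

end Cfsg.Agent.SporStructure.Engine
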