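import Cfsg.Agent.SporStructure.HexadNormalizer
import Cfsg.Agent.SporStructure.GolayEngine

/-!
The two point stabiliser in `Cfsg.M24` has no subgroup of index 56 or 210.

A subgroup of either order contains the element of order 11, and Sylow's theorem with the bound on
the normaliser leaves order 7920 with a normaliser of order 55. The element of order 5 then limits
the orbits on the 77 octads through the two points, and a subgroup of order 9 fixing one of them
is seen to have an element fixing nine points.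
-/

set_option autoImplicit false

namespace Cfsg.Agent.SporStructure.Index56

open Cfsg Cfsg.Agent.Golay
open scoped Pointwise

/-- A class of octads as sets. -/
def cls (k : ℕ) : Finset (Finset GolayPt) := ((classes.getD k []).map toSet).toFinset

theorem mem_cls {k : ℕ} {o : Finset GolayPt} :
    o ∈ cls k ↔ ∃ a ∈ classes.getD k [], toSet a = o := by simp [cls]

set_option maxRecDepth 40000 in
theorem classOf_facts : (List.range 7).all (fun k => (classes.getD k []).all fun a =>
    classOf a == k) = true := by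
  decide +kernel

theorem index_lt {k a : ℕ} (h : a ∈ classes.getD k []) : k < 7 := by
  by_contra hk
  rw [List.getD_eq_default _ _ (by rw [class_facts.1]; omega)] at h
  simp at h

theorem classOf_eq {k a : ℕ} (h : a ∈ classes.getD k []) : classOf a = k := by
  have := classOf_facts
  simp only [List.all_eq_true, List.mem_range, beq_iff_eq] at this
  exact this k (index_lt h) a h

theorem mem_flat {k a : ℕ} (h : a ∈ classes.getD k []) : a ∈ classes.flatMap id := by
  have hk : k < classes.length := class_facts.1 ▸ index_lt h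
  rw [List.getD_eq_getElem _ _ hk] at h
  exact List.mem_flatMap.2 ⟨_, List.getElem_mem hk, h⟩

theorem exists_class {a : ℕ} (h : a ∈ classes.flatMap id) :
    ∃ k < 7, a ∈ classes.getD k [] := by
  obtain ⟨o, ho, ha⟩ := List.mem_flatMap.1 h
  obtain ⟨k, hk, rfl⟩ := List.mem_iff_getElem.1 ho
  exact ⟨k, class_facts.1 ▸ hk, by rw [List.getD_eq_getElem _ _ hk]; exact ha⟩

theorem mask_facts {k a : ℕ} (h : a ∈ classes.getD k []) :
    a < 2 ^ 24 ∧ a &&& 8388609 = 8388609 := by
  have := class_facts.2.2.2.2.2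
  simp only [List.all_eq_true, Bool.and_eq_true, decide_eq_true_eq, beq_iff_eq] at this
  exact ⟨(this a (mem_flat h)).1.1.1, (this a (mem_flat h)).2⟩

theorem toSet_two : toSet 8388609 = {pt 0, pt 23} := by decide +kernel

theorem cls_cover {o : Finset GolayPt} (ho : o ∈ octads) (h0 : pt 0 ∈ o) (h23 : pt 23 ∈ o) :
    ∃ k < 7, o ∈ cls k := by
  have hc : Engine.Cond 1 [(1, 1), (8388608, 1)] o := by
    intro x hx
    simp only [List.mem_cons, List.not_mem_nil, or_false] at hx
    rw [one_smul]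
    rcases hx with rfl | rfl
    · rw [show toSet 1 = {pt 0} by decide +kernel, Finset.singleton_inter_of_mem h0,
        Finset.card_singleton]
    · rw [show toSet 8388608 = {pt 23} by decide +kernel, Finset.singleton_inter_of_mem h23,
        Finset.card_singleton]
  obtain ⟨n, hn, -, rfl⟩ := Engine.mem_classMasks (one_mem _) (show o ∈ wordsOfWeight _ 8 from ho) hc
  have := List.all_eq_true.1 class_facts.2.2.2.2.1 n hn
  obtain ⟨k, hk, hk'⟩ := exists_class (List.contains_iff_mem.1 this)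
  exact ⟨k, hk, mem_cls.2 ⟨n, hk', (one_smul _ _).symm⟩⟩

theorem cls_eq {k l : ℕ} {o : Finset GolayPt} (hk : o ∈ cls k) (hl : o ∈ cls l) : k = l := by
  obtain ⟨a, ha, rfl⟩ := mem_cls.1 hk
  obtain ⟨b, hb, e⟩ := mem_cls.1 hl
  rw [← classOf_eq ha, ← classOf_eq hb, toSet_injOn (mask_facts hb).1 (mask_facts ha).1 e]

theorem cls_list {k : ℕ} (hk : k < 7) :
    (classes.getD k []).length = 11 ∧ (classes.getD k []).Nodup ∧
      ∀ i < 11, maps xTab ((classes.getD k []).getD i 0)
        ((classes.getD k []).getD ((i + 1) % 11) 0) = true := by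
  have hk' : k < classes.length := class_facts.1.symm ▸ hk
  have := class_facts.2.1
  simp only [List.all_eq_true, Bool.and_eq_true, beq_iff_eq, decide_eq_true_eq, List.mem_range]
    at this
  rw [List.getD_eq_getElem _ _ hk']
  obtain ⟨⟨h1, h2⟩, h3⟩ := this _ (List.getElem_mem hk')
  exact ⟨h1, h2, h3⟩

theorem card_cls {k : ℕ} (hk : k < 7) : (cls k).card = 11 := by
  obtain ⟨h1, h2, -⟩ := cls_list hk
  rw [cls, List.toFinset_card_of_nodup (h2.map_on fun a ha b hb e =>
    toSet_injOn (mask_facts ha).1 (mask_facts hb).1 e), List.length_map, h1]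

theorem card_union : (cls 0 ∪ cls 1).card = 22 := by
  rw [Finset.card_union_of_disjoint (Finset.disjoint_left.2 fun o h h' =>
    absurd (cls_eq h h') (by norm_num)), card_cls (by norm_num), card_cls (by norm_num)]

theorem card_all : ((Finset.range 7).biUnion cls).card = 77 := by
  rw [Finset.card_biUnion fun k _ l _ hkl => Finset.disjoint_left.2 fun o h h' =>
    hkl (cls_eq h h'), Finset.sum_congr rfl fun k hk => card_cls (Finset.mem_range.1 hk)]
  simp

theorem smul_eq_of_fixed {g : Equiv.Perm GolayPt} {s : Finset GolayPt}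
    (h : ∀ p ∈ s, g p = p) : g • s = s := by
  rw [Finset.smul_finset_def]
  exact (Finset.image_congr fun p hp => h p hp).trans Finset.image_id

theorem smul_two {g : Equiv.Perm GolayPt} (hg : g ∈ fixUpTo Cfsg.M24 2) :
    g • toSet 8388609 = toSet 8388609 := by
  refine smul_eq_of_fixed fun p hp => ?_
  rw [toSet_two, Finset.mem_insert, Finset.mem_singleton] at hp
  rcases hp with rfl | rfl
  exacts [(fix_two hg).1, (fix_two hg).2]

theorem mem_cls_props {k : ℕ} {o : Finset GolayPt} (h : o ∈ cls k) :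
    o ∈ octads ∧ pt 0 ∈ o ∧ pt 23 ∈ o := by
  obtain ⟨a, ha, rfl⟩ := mem_cls.1 h
  have := class_facts.2.2.2.2.2
  simp only [List.all_eq_true, Bool.and_eq_true, decide_eq_true_eq, beq_iff_eq] at this
  obtain ⟨⟨⟨-, h2⟩, h3⟩, h4⟩ := this a (mem_flat ha)
  have hsub : toSet 8388609 ⊆ toSet a := by
    rw [← h4, ← toSet_inter]
    exact Finset.inter_subset_left
  exact ⟨mem_wordsOfWeight_iff.2 ⟨a, h2, h3, rfl⟩,
    hsub (by rw [toSet_two]; simp), hsub (by rw [toSet_two]; simp)⟩

/-- The orbit of a set. -/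
noncomputable def orbS (K : Subgroup (Equiv.Perm GolayPt)) (o : Finset GolayPt) :
    Finset (Finset GolayPt) :=
  (Set.toFinite (MulAction.orbit K o)).toFinset

theorem mem_orbS {K : Subgroup (Equiv.Perm GolayPt)} {o o' : Finset GolayPt} :
    o' ∈ orbS K o ↔ ∃ g ∈ K, g • o = o' := by
  rw [orbS, Set.Finite.mem_toFinset, MulAction.mem_orbit_iff]
  exact ⟨fun ⟨⟨g, hg⟩, h⟩ => ⟨g, hg, h⟩, fun ⟨g, hg, h⟩ => ⟨⟨g, hg⟩, h⟩⟩

theorem self_mem_orbS (K : Subgroup (Equiv.Perm GolayPt)) (o : Finset GolayPt) : o ∈ orbS K o :=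
  mem_orbS.2 ⟨1, K.one_mem, one_smul _ _⟩

theorem smul_mem_orbS {K : Subgroup (Equiv.Perm GolayPt)} {g : Equiv.Perm GolayPt} (hg : g ∈ K)
    {o o' : Finset GolayPt} (h : o' ∈ orbS K o) : g • o' ∈ orbS K o := by
  obtain ⟨x, hx, rfl⟩ := mem_orbS.1 h
  exact mem_orbS.2 ⟨g * x, K.mul_mem hg hx, mul_smul _ _ _⟩

theorem card_orbS_mul (K : Subgroup (Equiv.Perm GolayPt)) (o : Finset GolayPt) :
    Nat.card K = (orbS K o).card * Nat.card (MulAction.stabilizer K o) := by
  rw [orbS, ← Set.ncard_eq_toFinset_card _, ← Nat.card_coe_set_eq, ← Nat.card_prod,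
    Nat.card_congr (MulAction.orbitProdStabilizerEquivGroup K o)]

theorem orbS_cover {K : Subgroup (Equiv.Perm GolayPt)} (hK : K ≤ fixUpTo Cfsg.M24 2)
    {k : ℕ} {o o' : Finset GolayPt} (ho : o ∈ cls k) (h : o' ∈ orbS K o) :
    ∃ l < 7, o' ∈ cls l := by
  obtain ⟨g, hg, rfl⟩ := mem_orbS.1 h
  obtain ⟨h1, h2, h3⟩ := mem_cls_props ho
  refine cls_cover (smul_mem_wordsOfWeight (fixUpTo_le _ 2 (hK hg)) h1) ?_ ?_
  · rw [← (fix_two (hK hg)).1, ← Equiv.Perm.smul_def]
    exact Finset.smul_mem_smul_finset h2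
  · rw [← (fix_two (hK hg)).2, ← Equiv.Perm.smul_def]
    exact Finset.smul_mem_smul_finset h3

variable {X : Equiv.Perm GolayPt}

/-- A class meeting an invariant orbit lies in it. -/
theorem cls_subset (hT : Tab X xTab) {K : Subgroup (Equiv.Perm GolayPt)} (hXK : X ∈ K)
    {o : Finset GolayPt} {k : ℕ} {o' : Finset GolayPt} (hk : o' ∈ cls k) (h : o' ∈ orbS K o) :
    cls k ⊆ orbS K o := by
  obtain ⟨a, ha, rfl⟩ := mem_cls.1 hk
  obtain ⟨hlen, -, hstep⟩ := cls_list (index_lt ha)
  set L := classes.getD k [] with hL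
  have hpow : ∀ j i, i < 11 → X ^ j • toSet (L.getD i 0) = toSet (L.getD ((i + j) % 11) 0) := by
    intro j
    induction j with
    | zero => intro i hi; rw [pow_zero, one_smul, add_zero, Nat.mod_eq_of_lt hi]
    | succ j ih =>
      intro i hi
      rw [pow_succ', mul_smul, ih i hi, hT.smul_toSet (hstep _ (Nat.mod_lt _ (by norm_num)))]
      congr 2
      omega
  obtain ⟨i, hi, rfl⟩ := List.mem_iff_getElem.1 ha
  intro x hx
  obtain ⟨b, hb, rfl⟩ := mem_cls.1 hx
  obtain ⟨i', hi', rfl⟩ := List.mem_iff_getElem.1 hb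
  have hi11 : i < 11 := lt_of_lt_of_eq hi hlen
  have hi11' : i' < 11 := lt_of_lt_of_eq hi' hlen
  have := hpow (i' + 11 - i) i hi11
  rw [show (i + (i' + 11 - i)) % 11 = i' by omega, List.getD_eq_getElem _ _ hi,
    List.getD_eq_getElem _ _ hi'] at this
  rw [← this]
  exact smul_mem_orbS (K.pow_mem hXK _) h

/-- An orbit inside the two fixed classes. -/
theorem exists_small_orbit (hT : Tab X xTab) {K : Subgroup (Equiv.Perm GolayPt)}
    (hK : K ≤ fixUpTo Cfsg.M24 2) (hXK : X ∈ K) (hcard : Nat.card K = 7920)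
    {h : Equiv.Perm GolayPt} (hh : h ∈ K) {v : ℕ × ℕ × ℕ} (hv : v ∈ validList) (hv1 : v.1 ≠ 1)
    (hTh : Tab h (cand v.1 v.2.1 v.2.2)) :
    ∃ k < 2, ∃ a ∈ classes.getD k [],
      cls k ⊆ orbS K (toSet a) ∧ orbS K (toSet a) ⊆ cls 0 ∪ cls 1 := by
  set c := cand v.1 v.2.1 v.2.2 with hc
  obtain ⟨-, -, -, hmove, hcyc, -⟩ := valid_facts
  simp only [List.all_eq_true, List.any_eq_true, List.mem_range, Bool.or_eq_true, beq_iff_eq]
    at hmove hcyc
  have meets : ∀ (o : Finset GolayPt) (l : ℕ), (∃ o' ∈ cls l, o' ∈ orbS K o) →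
      ∃ o' ∈ cls (moveClass c l), o' ∈ orbS K o := by
    rintro o l ⟨o', hl, ho⟩
    obtain ⟨a, ha, rfl⟩ := mem_cls.1 hl
    obtain ⟨b, hb, hab⟩ := hmove v hv l (index_lt ha) a ha
    refine ⟨toSet b, mem_cls.2 ⟨b, hb, rfl⟩, ?_⟩
    rw [← hTh.smul_toSet hab]
    exact smul_mem_orbS hh ho
  have iter : ∀ (o : Finset GolayPt) (l : ℕ), (∃ o' ∈ cls l, o' ∈ orbS K o) → ∀ t,
      ∃ o' ∈ cls ((List.range t).foldl (fun r _ => moveClass c r) l), o' ∈ orbS K o := by
    intro o l hl t
    induction t with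
    | zero => exact hl
    | succ t ih =>
      rw [List.range_succ, List.foldl_append, List.foldl_cons, List.foldl_nil]
      exact meets o _ ih
  by_contra hcon
  push_neg at hcon
  have head : ∀ k < 7, ∃ a, a ∈ classes.getD k [] := by
    intro k hk
    have := (cls_list hk).1
    exact ⟨_, List.getElem_mem (show 0 < (classes.getD k []).length by omega)⟩
  have long : ∀ k < 2, ∀ a ∈ classes.getD k [], ∀ l, 2 ≤ l → l < 7 →
      cls l ⊆ orbS K (toSet a) := by
    intro k hk a ha l hl2 hl7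
    have hmem : toSet a ∈ cls k := mem_cls.2 ⟨a, ha, rfl⟩
    have := hcon k hk a ha (cls_subset hT hXK hmem (self_mem_orbS K _))
    rw [Finset.not_subset] at this
    obtain ⟨o', ho', hno⟩ := this
    obtain ⟨l₀, hl₀, hl₀'⟩ := orbS_cover hK hmem ho'
    have h2 : 2 ≤ l₀ := by
      by_contra h2
      apply hno
      rw [Finset.mem_union]
      interval_cases l₀
      exacts [Or.inl hl₀', Or.inr hl₀']
    obtain ⟨t, -, ht⟩ := (hcyc v hv).resolve_left hv1 (l₀ - 2) (by omega) l (by simp; omega)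
    rw [Nat.sub_add_cancel h2] at ht
    obtain ⟨x, hx, hx'⟩ := iter _ l₀ ⟨o', hl₀', ho'⟩ t
    rw [ht] at hx
    exact cls_subset hT hXK hx hx'
  obtain ⟨a, ha⟩ := head 0 (by norm_num)
  obtain ⟨b, hb⟩ := head 1 (by norm_num)
  obtain ⟨d, hd⟩ := head 2 (by norm_num)
  have hd' : toSet d ∈ cls 2 := mem_cls.2 ⟨d, hd, rfl⟩
  obtain ⟨g, hg, hgd⟩ := mem_orbS.1 (long 1 (by norm_num) b hb 2 le_rfl (by norm_num) hd')
  have hb' : toSet b ∈ orbS K (toSet a) := by
    rw [show toSet b = g⁻¹ • toSet d by rw [← hgd, inv_smul_smul]]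
    exact smul_mem_orbS (K.inv_mem hg) (long 0 (by norm_num) a ha 2 le_rfl (by norm_num) hd')
  have hall : orbS K (toSet a) = (Finset.range 7).biUnion cls := by
    refine Finset.Subset.antisymm ?_ ?_
    · intro o' ho'
      obtain ⟨l, hl, hl'⟩ := orbS_cover hK (mem_cls.2 ⟨a, ha, rfl⟩) ho'
      exact Finset.mem_biUnion.2 ⟨l, Finset.mem_range.2 hl, hl'⟩
    · rw [Finset.biUnion_subset]
      intro l hl
      rw [Finset.mem_range] at hl
      rcases Nat.lt_or_ge l 2 with h2 | h2
      · interval_cases l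
        · exact cls_subset hT hXK (mem_cls.2 ⟨a, ha, rfl⟩) (self_mem_orbS K _)
        · exact cls_subset hT hXK (mem_cls.2 ⟨b, hb, rfl⟩) hb'
      · exact long 0 (by norm_num) a ha l h2 hl
  have := card_orbS_mul K (toSet a)
  rw [hcard, hall, card_all] at this
  omega

theorem foldl_or_subset {S : Finset GolayPt} (f : ℕ → ℕ) : ∀ (L : List ℕ) (r : ℕ),
    toSet r ⊆ S → (∀ c ∈ L, toSet (f c) ⊆ S) → toSet (L.foldl (fun r c => r ||| f c) r) ⊆ S
  | [], _, hr, _ => hr
  | c :: L, r, hr, hL => foldl_or_subset f L _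
      (by rw [← toSet_union]; exact Finset.union_subset hr (hL c List.mem_cons_self))
      fun d hd => hL d (List.mem_cons_of_mem _ hd)

theorem mem_toSet_iff {n : ℕ} {p : GolayPt} : p ∈ toSet n ↔ n.testBit (idx p) = true := by
  simp [toSet]

theorem toSet_pow {u : ℕ} (hu : u < 24) : toSet (2 ^ u) = {pt u} := by
  ext p
  rw [mem_toSet_iff, Nat.testBit_two_pow, decide_eq_true_eq, Finset.mem_singleton]
  constructor
  · intro h; rw [h, pt_idx]
  · rintro rfl; rw [idx_pt hu]

theorem mem_rest {a b u : ℕ} (hu : u < 24) {p : GolayPt} :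
    p ∈ toSet (restMask a b u) ↔
      ¬ ((p ∈ toSet a ∧ p ∈ toSet b) ↔ p ∈ ({pt 0, pt 23} ∪ {pt u} : Finset GolayPt)) := by
  rw [← toSet_two, ← toSet_pow hu, toSet_union, ← Finset.mem_inter, toSet_inter, mem_toSet_iff,
    mem_toSet_iff, mem_toSet_iff, restMask, Nat.testBit_xor]
  cases (a &&& b).testBit (idx p) <;> cases (8388609 ||| 2 ^ u).testBit (idx p) <;> simp

/-- The single further common point is fixed. -/
theorem fixed_rest {g : Equiv.Perm GolayPt} (hg : g ∈ fixUpTo Cfsg.M24 2) {a b u : ℕ} (hu : u < 24)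
    (hga : g • toSet a = toSet a) (hgb : g • toSet b = toSet b) (hgu : g (pt u) = pt u)
    (h1 : popc (restMask a b u) = 1) : ∀ p ∈ toSet (restMask a b u), g p = p := by
  rw [← card_toSet] at h1
  obtain ⟨w, hw⟩ := Finset.card_eq_one.1 h1
  have inv : ∀ p, g p ∈ toSet (restMask a b u) ↔ p ∈ toSet (restMask a b u) := by
    intro p
    have hfix : ∀ {q}, g q = q → (g p = q ↔ p = q) := fun {q} hq => by
      conv_lhs => rw [← hq]
      exact g.injective.eq_iff
    have ha' : g p ∈ toSet a ↔ p ∈ toSet a := by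
      conv_lhs => rw [← hga, ← Equiv.Perm.smul_def]
      exact Finset.smul_mem_smul_finset_iff g
    have hb' : g p ∈ toSet b ↔ p ∈ toSet b := by
      conv_lhs => rw [← hgb, ← Equiv.Perm.smul_def]
      exact Finset.smul_mem_smul_finset_iff g
    rw [mem_rest hu, mem_rest hu, ha', hb']
    simp only [Finset.mem_union, Finset.mem_insert, Finset.mem_singleton, hfix (fix_two hg).1,
      hfix (fix_two hg).2, hfix hgu]
  intro p hp
  have hgp := (inv p).2 hp
  rw [hw, Finset.mem_singleton] at hp hgp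
  rw [hgp, hp]

/-- A group of order 9 cannot fix two octads of one short class. -/
theorem no_nine {k : ℕ} (hk : k < 2) {a b : ℕ} (ha : a ∈ classes.getD k [])
    (hb : b ∈ classes.getD k []) (hab : a ≠ b) (P : Subgroup (Equiv.Perm GolayPt))
    (hP : P ≤ fixUpTo Cfsg.M24 2) (hcard : Nat.card P = 9)
    (hC : ∀ g ∈ P, ∀ o ∈ cls k, g • o ∈ cls k) (hPa : ∀ g ∈ P, g • toSet a = toSet a)
    (hPb : ∀ g ∈ P, g • toSet b = toSet b) : False := by
  classical
  have hf := five_facts
  simp only [List.all_eq_true, List.any_eq_true, List.mem_range, Bool.or_eq_true, Bool.and_eq_true,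
    beq_iff_eq, bne_iff_ne, decide_eq_true_eq] at hf
  have hmem : classes.getD k [] ∈ [classes.getD 0 [], classes.getD 1 []] := by
    interval_cases k <;> simp
  obtain ⟨u, hu, ⟨⟨⟨⟨⟨⟨hu0, hu23⟩, hua⟩, hub⟩, hpop⟩, hlen⟩, hfive⟩, hnine⟩ :=
    (hf _ hmem a ha b hb).resolve_left hab
  have hua' : pt u ∈ toSet a := mem_toSet_iff.2 (by rw [idx_pt hu]; exact hua)
  have hub' : pt u ∈ toSet b := mem_toSet_iff.2 (by rw [idx_pt hu]; exact hub)
  have hne0 : pt u ≠ pt 0 := fun e => hu0 (by
    have := congrArg idx e; rwa [idx_pt hu, idx_pt (by norm_num)] at this)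
  have hne23 : pt u ≠ pt 23 := fun e => hu23 (by
    have := congrArg idx e; rwa [idx_pt hu, idx_pt (by norm_num)] at this)
  -- the point `u` is fixed
  obtain ⟨w, hw⟩ := Finset.card_eq_one.1 ((card_toSet _).trans hpop)
  have hwmem := (mem_rest hu).1 (by rw [hw]; exact Finset.mem_singleton_self w)
  have hmem2 : ∀ p, p ∈ toSet a → p ∈ toSet b → p ≠ pt 0 → p ≠ pt 23 → p = pt u ∨ p = w := by
    intro p h1 h2 h0 h23
    by_contra hcon
    push_neg at hcon
    refine hcon.2 (Finset.mem_singleton.1 (hw ▸ (mem_rest hu).2 ?_))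
    simp [h1, h2, h0, h23, hcon.1]
  have hwu : w ≠ pt u := by
    rintro rfl
    simp [hua', hub'] at hwmem
  have h9 : ∀ g ∈ P, g ^ 9 = 1 := fun g hg => by
    rw [← hcard]
    exact congrArg Subtype.val (pow_card_eq_one' (x := (⟨g, hg⟩ : P)))
  have hfixu : ∀ g ∈ P, g (pt u) = pt u := by
    intro g hg
    have hg' : ∀ p, p ∈ toSet a → p ∈ toSet b → g p ∈ toSet a ∧ g p ∈ toSet b := by
      intro p h1 h2
      constructor
      · rw [← hPa g hg]; exact Finset.smul_mem_smul_finset h1
      · rw [← hPb g hg]; exact Finset.smul_mem_smul_finset h2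
    have hout : ∀ p, p ≠ pt 0 → p ≠ pt 23 → g p ≠ pt 0 ∧ g p ≠ pt 23 := fun p h0 h23 =>
      ⟨fun e => h0 (g.injective (e.trans (fix_two (hP hg)).1.symm)),
        fun e => h23 (g.injective (e.trans (fix_two (hP hg)).2.symm))⟩
    rcases hmem2 (g (pt u)) (hg' _ hua' hub').1 (hg' _ hua' hub').2 (hout _ hne0 hne23).1
      (hout _ hne0 hne23).2 with h | h
    · exact h
    exfalso
    have hw0 : w ≠ pt 0 ∧ w ≠ pt 23 := ⟨h ▸ (hout _ hne0 hne23).1, h ▸ (hout _ hne0 hne23).2⟩
    have hwab := hg' _ (h ▸ (hg' _ hua' hub').1) (h ▸ (hg' _ hua' hub').2)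
    have hgw : g w = pt u := by
      rcases hmem2 (g w) hwab.1 hwab.2 (hout _ hw0.1 hw0.2).1 (hout _ hw0.1 hw0.2).2 with h' | h'
      · exact h'
      · exact absurd (g.injective (h.trans h'.symm)) (Ne.symm hwu)
    have key := congrArg (fun σ : Equiv.Perm GolayPt => σ (pt u)) (h9 g hg)
    simp [pow_succ, h, hgw] at key
    exact hwu key
  -- the kernel on the five octads through `u`
  set L := (classes.getD k []).filter fun c => c.testBit u
  set F := (L.map toSet).toFinset with hF
  have hFmem : ∀ o, o ∈ F ↔ o ∈ cls k ∧ pt u ∈ o := by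
    intro o
    simp only [hF, L, List.mem_toFinset, List.mem_map, List.mem_filter, mem_cls]
    constructor
    · rintro ⟨c, ⟨hc, hcu⟩, rfl⟩
      exact ⟨⟨c, hc, rfl⟩, mem_toSet_iff.2 (by rw [idx_pt hu]; exact hcu)⟩
    · rintro ⟨⟨c, hc, rfl⟩, hcu⟩
      rw [mem_toSet_iff, idx_pt hu] at hcu
      exact ⟨c, ⟨hc, hcu⟩, rfl⟩
  have hFinv : ∀ g ∈ P, ∀ o ∈ F, g • o ∈ F := by
    intro g hg o ho
    rw [hFmem] at ho ⊢
    refine ⟨hC g hg o ho.1, ?_⟩
    rw [← hfixu g hg]
    exact Finset.smul_mem_smul_finset ho.2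
  let φ : P →* Equiv.Perm {o // o ∈ F} :=
    { toFun := fun g =>
        { toFun := fun o => ⟨g.1 • o.1, hFinv g.1 g.2 o.1 o.2⟩
          invFun := fun o => ⟨g.1⁻¹ • o.1, hFinv _ (P.inv_mem g.2) o.1 o.2⟩
          left_inv := fun o => Subtype.ext (inv_smul_smul _ _)
          right_inv := fun o => Subtype.ext (smul_inv_smul _ _) }
      map_one' := Equiv.ext fun o => Subtype.ext (one_smul _ _)
      map_mul' := fun g g' => Equiv.ext fun o => Subtype.ext (mul_smul _ _ _) }
  have hnotinj : ¬ Function.Injective φ := fun hinj => by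
    have hd := Subgroup.card_dvd_of_injective φ hinj
    rw [hcard, Nat.card_perm, Nat.card_eq_fintype_card, Fintype.card_coe] at hd
    have hle : F.card ≤ 5 := (List.toFinset_card_le _).trans (by rw [List.length_map, hlen])
    have : (Nat.factorial F.card) ∣ Nat.factorial 5 := Nat.factorial_dvd_factorial hle
    exact absurd (hd.trans this) (by decide)
  rw [injective_iff_map_eq_one] at hnotinj
  push_neg at hnotinj
  obtain ⟨g, hg, hg1⟩ := hnotinj
  have hfixF : ∀ c ∈ L, g.1 • toSet c = toSet c := fun c hc =>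
    congrArg Subtype.val (Equiv.ext_iff.1 hg ⟨toSet c, List.mem_toFinset.2 (List.mem_map_of_mem hc)⟩)
  have hnine' := hnine.trans_eq (card_toSet _).symm
  refine hg1 (Subtype.ext (eq_one_of_fixed (fixUpTo_le _ 2 (hP g.2)) hnine' fun p hp => ?_))
  refine mem_fixedPts.1
    ((foldl_or_subset _ L _ ?_ fun c hc => foldl_or_subset _ _ _ ?_ fun c' hc' => ?_) hp)
  · rw [← toSet_union, toSet_two, toSet_pow hu]
    intro q hq
    simp only [Finset.mem_union, Finset.mem_insert, Finset.mem_singleton] at hq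
    rw [mem_fixedPts]
    rcases hq with (rfl | rfl) | rfl
    exacts [(fix_two (hP g.2)).1, (fix_two (hP g.2)).2, hfixu g.1 g.2]
  · intro q hq
    simp [mem_toSet_iff] at hq
  · rw [List.mem_filter, Bool.and_eq_true, bne_iff_ne] at hc'
    have hcL : c' ∈ L := List.mem_filter.2 ⟨hc'.1, hc'.2.1⟩
    intro q hq
    exact mem_fixedPts.2 (fixed_rest (hP g.2) hu (hfixF c hc) (hfixF c' hcL) (hfixu g.1 g.2)
      ((hfive c hc c' hcL).resolve_left (Ne.symm hc'.2.2)) q hq)

/-- A subgroup of order 7920 with the normalising element of order 5 is impossible. -/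
theorem no_7920 (hT : Tab X xTab) {K : Subgroup (Equiv.Perm GolayPt)}
    (hK : K ≤ fixUpTo Cfsg.M24 2) (hXK : X ∈ K) (hcard : Nat.card K = 7920)
    {h : Equiv.Perm GolayPt} (hh : h ∈ K) {v : ℕ × ℕ × ℕ} (hv : v ∈ validList) (hv1 : v.1 ≠ 1)
    (hTh : Tab h (cand v.1 v.2.1 v.2.2)) : False := by
  classical
  obtain ⟨k, hk, a, ha, hsub, hsub'⟩ := exists_small_orbit hT hK hXK hcard hh hv hv1 hTh
  set o := toSet a
  set H := MulAction.stabilizer K o
  have hother : ∀ o' ∈ cls (1 - k), o' ∈ orbS K o → orbS K o = cls 0 ∪ cls 1 := by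
    intro o' ho' ho''
    refine Finset.Subset.antisymm hsub' (Finset.union_subset ?_ ?_)
    all_goals
      interval_cases k
      all_goals first | exact hsub | exact cls_subset hT hXK ho' ho''
  have horb : orbS K o = cls k ∨ orbS K o = cls 0 ∪ cls 1 := by
    by_cases h' : ∃ o' ∈ cls (1 - k), o' ∈ orbS K o
    · obtain ⟨o', h1, h2⟩ := h'
      exact Or.inr (hother o' h1 h2)
    · refine Or.inl (Finset.Subset.antisymm (fun x hx => ?_) hsub)
      rcases Finset.mem_union.1 (hsub' hx) with h0 | h1 <;> interval_cases k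
      all_goals first | assumption | exact absurd ⟨x, ‹x ∈ cls _›, hx⟩ h'
  have h9 : 3 ^ 2 ∣ Nat.card H := by
    have := card_orbS_mul K o
    rcases horb with e | e
    · rw [hcard, e, card_cls (by omega)] at this
      change _ = _ * Nat.card H at this
      exact ⟨80, by omega⟩
    · rw [hcard, e, card_union] at this
      change _ = _ * Nat.card H at this
      exact ⟨40, by omega⟩
  -- the stabiliser keeps the class of `a`
  have hside : ∀ g ∈ K, g • o = o → ∀ x ∈ cls k, g • x ∈ cls k := by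
    intro g hg hgo x hx
    rcases horb with e | e
    · rw [← e]; exact smul_mem_orbS hg (hsub hx)
    · obtain ⟨b, hb, rfl⟩ := mem_cls.1 hx
      have hs := side_facts
      simp only [List.all_eq_true, List.mem_append, beq_iff_eq] at hs
      have ha01 : a ∈ classes.getD 0 [] ∨ a ∈ classes.getD 1 [] := by
        interval_cases k
        exacts [Or.inl ha, Or.inr ha]
      have hb01 : b ∈ classes.getD 0 [] ∨ b ∈ classes.getD 1 [] := by
        interval_cases k
        exacts [Or.inl hb, Or.inr hb]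
      have h1 := hs a ha01 b hb01
      have hb0 : (classes.getD 0 []).contains a = (classes.getD 0 []).contains b := by
        rw [Bool.eq_iff_iff, List.contains_iff_mem, List.contains_iff_mem]
        constructor <;> intro h0
        · exact (classOf_eq ha).symm.trans (classOf_eq h0) ▸ hb
        · exact (classOf_eq hb).symm.trans (classOf_eq h0) ▸ ha
      rw [hb0, beq_self_eq_true, List.any_eq_true] at h1
      obtain ⟨m, hm, hm'⟩ := h1
      simp only [Bool.and_eq_true, beq_iff_eq] at hm'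
      have hmO : toSet m ∈ orbS K o := by
        rw [e, Finset.mem_union, mem_cls, mem_cls]
        rcases List.mem_append.1 hm with h | h
        exacts [Or.inl ⟨m, h, rfl⟩, Or.inr ⟨m, h, rfl⟩]
      have himg : ∀ y, y ∈ orbS K o →
          ∃ n, (n ∈ classes.getD 0 [] ∨ n ∈ classes.getD 1 []) ∧ toSet n = g • y := by
        intro y hy
        have := smul_mem_orbS hg hy
        rw [e, Finset.mem_union, mem_cls, mem_cls] at this
        rcases this with ⟨n, h, e'⟩ | ⟨n, h, e'⟩
        exacts [⟨n, Or.inl h, e'⟩, ⟨n, Or.inr h, e'⟩]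
      obtain ⟨m', hm1, hm2⟩ := himg _ hmO
      obtain ⟨b', hb1, hb2⟩ := himg _ (hsub hx)
      have hlt : ∀ {n}, n ∈ classes.getD 0 [] ∨ n ∈ classes.getD 1 [] → n < 2 ^ 24 :=
        fun h => h.elim (fun h => (mask_facts h).1) fun h => (mask_facts h).1
      have two : ∀ n n', n < 2 ^ 24 → toSet n ∩ toSet n' = toSet 8388609 →
          n &&& n' = 8388609 := fun n n' hn hh => toSet_injOn
        (lt_of_le_of_lt Nat.and_le_left hn) (by norm_num) (by rw [← toSet_inter, hh])
      have e1 : a &&& m' = 8388609 := two a m' (mask_facts ha).1 (by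
        rw [hm2, show toSet a = g • toSet a from hgo.symm, ← Finset.smul_finset_inter, toSet_inter,
          hm'.1, smul_two (hK hg)])
      have e2 : b' &&& m' = 8388609 := two b' m' (hlt hb1) (by
        rw [hm2, hb2, ← Finset.smul_finset_inter, toSet_inter, hm'.2, smul_two (hK hg)])
      have h2 := hs a ha01 b' hb1
      rw [List.any_eq_true.2 ⟨m', List.mem_append.2 hm1, by simp [e1, e2]⟩, eq_comm, beq_iff_eq,
        Bool.eq_iff_iff, List.contains_iff_mem, List.contains_iff_mem] at h2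
      rw [← hb2, mem_cls]
      refine ⟨b', ?_, rfl⟩
      interval_cases k
      · exact h2.1 ha
      · refine hb1.resolve_left fun h0 => ?_
        exact absurd ((classOf_eq ha).symm.trans (classOf_eq (h2.2 h0))) (by norm_num)
  haveI : Fact (Nat.Prime 3) := ⟨Nat.prime_three⟩
  obtain ⟨Q, hQ⟩ := Sylow.exists_subgroup_card_pow_prime 3 h9
  set P : Subgroup (Equiv.Perm GolayPt) := (Q.map H.subtype).map K.subtype
  have hPcard : Nat.card P = 9 := by
    rw [Subgroup.card_map_of_injective K.subtype_injective,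
      Subgroup.card_map_of_injective H.subtype_injective, hQ]
    norm_num
  have hPK : P ≤ K := Subgroup.map_subtype_le _
  have hPo : ∀ g ∈ P, g • o = o := by
    rintro _ ⟨y, ⟨x, -, rfl⟩, rfl⟩
    exact x.2
  have hPC : ∀ g ∈ P, ∀ x ∈ cls k, g • x ∈ cls k := fun g hg => hside g (hPK hg) (hPo g hg)
  -- a second fixed octad in the class
  let act : MulAction P {x // x ∈ cls k} :=
    { smul := fun g x => ⟨g.1 • x.1, hPC g.1 g.2 x.1 x.2⟩
      one_smul := fun x => Subtype.ext (one_smul _ _)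
      mul_smul := fun g g' x => Subtype.ext (mul_smul _ _ _) }
  have hpg : IsPGroup 3 P := IsPGroup.of_card (n := 2) hPcard
  have hmod := hpg.card_modEq_card_fixedPoints {x // x ∈ cls k}
  have h11 : Nat.card {x // x ∈ cls k} = 11 := by
    rw [Nat.card_eq_fintype_card, Fintype.card_coe, card_cls (by omega)]
  rw [h11] at hmod
  have hfa : (⟨o, mem_cls.2 ⟨a, ha, rfl⟩⟩ : {x // x ∈ cls k}) ∈
      MulAction.fixedPoints P {x // x ∈ cls k} := fun g => Subtype.ext (hPo g.1 g.2)
  obtain ⟨x, hx, hxne⟩ : ∃ x ∈ MulAction.fixedPoints P {x // x ∈ cls k},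
      x ≠ ⟨o, mem_cls.2 ⟨a, ha, rfl⟩⟩ := by
    by_contra hcon
    push_neg at hcon
    haveI : Subsingleton (MulAction.fixedPoints P {x // x ∈ cls k}) :=
      ⟨fun x y => Subtype.ext ((hcon x.1 x.2).trans (hcon y.1 y.2).symm)⟩
    haveI : Nonempty (MulAction.fixedPoints P {x // x ∈ cls k}) := ⟨⟨_, hfa⟩⟩
    rw [Nat.card_of_subsingleton (⟨_, hfa⟩ : MulAction.fixedPoints P {x // x ∈ cls k})] at hmod
    exact absurd hmod (by decide)
  obtain ⟨b, hb, hbx⟩ := mem_cls.1 x.2
  refine no_nine hk ha hb ?_ P (hPK.trans hK) hPcard hPC hPo fun g hg => ?_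
  · rintro rfl
    exact hxne (Subtype.ext hbx.symm)
  · rw [hbx]
    exact congrArg Subtype.val (hx ⟨g, hg⟩)

/-- No subgroup has order 7920 or 2112. -/
theorem no_subgroup {K : Subgroup (Equiv.Perm GolayPt)} (hK : K ≤ fixUpTo Cfsg.M24 2)
    (hcard : Nat.card K = 7920 ∨ Nat.card K = 2112) : False := by
  classical
  haveI : Fact (Nat.Prime 11) := ⟨by norm_num⟩
  obtain ⟨X, hX, hX11, hpow⟩ := exists_x
  have hT : Tab X xTab := by
    have := hpow 1
    rwa [pow_one, show powTab 1 = xTab by decide +kernel] at this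
  have h11 : 11 ∣ Nat.card K := by rcases hcard with h | h <;> rw [h] <;> norm_num
  obtain ⟨⟨y, hy⟩, hyo⟩ := exists_prime_orderOf_dvd_card' 11 h11
  rw [Subgroup.orderOf_mk] at hyo
  have hM2 : ¬ 11 ^ 2 ∣ Nat.card (fixUpTo Cfsg.M24 2) := by rw [card_fix_two]; norm_num
  obtain ⟨Q, hQ⟩ := zpowers_sylow hM2 (y := (⟨y, hK hy⟩ : fixUpTo Cfsg.M24 2))
    (by rw [Subgroup.orderOf_mk, hyo])
  obtain ⟨R, hR⟩ := zpowers_sylow hM2 (y := (⟨X, hX⟩ : fixUpTo Cfsg.M24 2))
    (by rw [Subgroup.orderOf_mk, hX11])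
  obtain ⟨g, hg⟩ := MulAction.exists_smul_eq (fixUpTo Cfsg.M24 2) Q R
  have hXmem : (⟨X, hX⟩ : fixUpTo Cfsg.M24 2) ∈ ((g • Q : Sylow 11 _) : Subgroup _) := by
    rw [hg, hR]
    exact Subgroup.mem_zpowers _
  rw [Sylow.smul_def, Sylow.pointwise_smul_def, hQ, Subgroup.mem_smul_pointwise_iff_exists] at hXmem
  obtain ⟨s, hs, hsX⟩ := hXmem
  obtain ⟨i, rfl⟩ := Subgroup.mem_zpowers_iff.1 hs
  set K' : Subgroup (Equiv.Perm GolayPt) := K.map (MulAut.conj g.1).toMonoidHom
  have hK' : K' ≤ fixUpTo Cfsg.M24 2 := by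
    rintro _ ⟨z, hz, rfl⟩
    exact mul_mem (mul_mem g.2 (hK hz)) (inv_mem g.2)
  have hXK : X ∈ K' := by
    refine ⟨y ^ i, K.zpow_mem hy i, ?_⟩
    exact congrArg Subtype.val hsX
  have hcard' : Nat.card K' = Nat.card K :=
    Subgroup.card_map_of_injective (MulAut.conj g.1).injective
  -- the normaliser
  obtain ⟨S, hS⟩ := zpowers_sylow (p := 11) (G := K')
    (by rw [hcard']; rcases hcard with h | h <;> rw [h] <;> norm_num)
    (y := (⟨X, hXK⟩ : K')) (by rw [Subgroup.orderOf_mk, hX11])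
  set N := Subgroup.normalizer ((S : Subgroup K') : Set K') with hN
  have hNle : Nat.card N ≤ 55 := by
    rw [← Subgroup.card_map_of_injective (f := K'.subtype) K'.subtype_injective]
    refine card_normal_le hX hX11 hpow _ ((Subgroup.map_subtype_le N).trans hK') ?_
    rintro _ ⟨n, hn, rfl⟩
    have : n * ⟨X, hXK⟩ * n⁻¹ ∈ (S : Subgroup K') := by
      refine (Subgroup.mem_normalizer_iff.1 hn _).1 ?_
      rw [hS]
      exact Subgroup.mem_zpowers _
    rw [hS, Subgroup.mem_zpowers_iff] at this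
    obtain ⟨j, hj⟩ := this
    exact Subgroup.mem_zpowers_iff.2 ⟨j, congrArg Subtype.val hj⟩
  have hmul := Subgroup.card_mul_index N
  rw [show N.index = Nat.card (Sylow 11 K') from (Sylow.card_eq_index_normalizer S).symm, hcard']
    at hmul
  have hmod : Nat.card (Sylow 11 K') % 11 = 1 := card_sylow_modEq_one 11 K'
  have h11N : 11 ∣ Nat.card N := by
    have hle : (S : Subgroup K') ≤ N := Subgroup.le_normalizer
    have := Subgroup.card_dvd_of_le hle
    rwa [hS, Nat.card_zpowers, Subgroup.orderOf_mk, hX11] at this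
  obtain ⟨d, hd⟩ := h11N
  rw [hd] at hNle hmul
  have hd5 : d ≤ 5 := by omega
  have hd55 : d = 5 ∧ Nat.card K = 7920 := by
    rcases hcard with h | h <;> rw [h] at hmul <;> interval_cases d <;> omega
  rw [hd55.1] at hd
  haveI : Fact (Nat.Prime 5) := ⟨by norm_num⟩
  obtain ⟨f, hf⟩ := exists_prime_orderOf_dvd_card' (G := N) 5 (by rw [hd]; norm_num)
  have hfn : f.1.1 * X * f.1.1⁻¹ ∈ Subgroup.zpowers X := by
    have : f.1 * ⟨X, hXK⟩ * f.1⁻¹ ∈ (S : Subgroup K') := by
      refine (Subgroup.mem_normalizer_iff.1 f.2 _).1 ?_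
      rw [hS]
      exact Subgroup.mem_zpowers _
    rw [hS, Subgroup.mem_zpowers_iff] at this
    obtain ⟨j, hj⟩ := this
    exact Subgroup.mem_zpowers_iff.2 ⟨j, congrArg Subtype.val hj⟩
  obtain ⟨m, -, v, hv, hTv, -⟩ := normal_form hX hX11 hpow (hK' f.1.2) hfn
  by_cases hv1 : v.1 = 1
  · have hvid : cand v.1 v.2.1 v.2.2 = idTab := by
      have hlist : v = (1, rep0, rep1) := by
        revert hv1
        simp only [validList, List.mem_cons, List.not_mem_nil, or_false] at hv
        rcases hv with rfl | rfl | rfl | rfl | rfl <;> decide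
      rw [hlist]
      exact valid_facts.2.2.1
    have h1 := tab_unique (hvid ▸ hTv) tab_one
    have hfX : f.1.1 = (X ^ m)⁻¹ := eq_inv_of_mul_eq_one_right h1
    have ho : orderOf f.1.1 = 5 := by rw [Subgroup.orderOf_coe, Subgroup.orderOf_coe, hf]
    have hdvd : orderOf f.1.1 ∣ 11 := by
      rw [hfX, orderOf_inv, ← hX11]
      exact orderOf_pow_dvd m
    rw [ho] at hdvd
    norm_num at hdvd
  · exact no_7920 hT hK' hXK (hcard'.trans hd55.2) (mul_mem (pow_mem hXK m) f.1.2) hv hv1 hTv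

/-- The statement about an arbitrary pair of points. -/
theorem index_ne (p q : GolayPt) (hpq : p ≠ q)
    (H : Subgroup ↥(MulAction.stabilizer Cfsg.M24 p ⊓ MulAction.stabilizer Cfsg.M24 q)) :
    H.index ≠ 56 ∧ H.index ≠ 210 := by
  obtain ⟨e⟩ := nonempty_stabilizer_equiv_M22 p q hpq
  set K := (H.map e.toMonoidHom).map Spor.M22.subtype
  have hK : K ≤ fixUpTo Cfsg.M24 2 := (Subgroup.map_subtype_le _).trans M22_eq.le
  have hc : Nat.card K = Nat.card H := by
    rw [Subgroup.card_map_of_injective Spor.M22.subtype_injective,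
      Subgroup.card_map_of_injective e.injective]
  have h := Subgroup.card_mul_index H
  rw [card_stabilizer_two p q hpq] at h
  constructor <;> intro hi <;> rw [hi] at h
  · exact no_subgroup hK (Or.inl (by omega))
  · exact no_subgroup hK (Or.inr (by omega))

end Cfsg.Agent.SporStructure.Index56
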