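import Cfsg.Agent.Lib.Golay.Subgroups
import Cfsg.Agent.Lib.Golay.Involutions
import Cfsg.Agent.SporStructure.GolaySuborbits

/-!
Subgroups of index 253 of a point stabiliser in `Cfsg.M24`.
-/

set_option autoImplicit false

namespace Cfsg.Agent.SporStructure.Index253

open Cfsg Cfsg.Agent.Golay
open Cfsg.Agent.SporStruct.M24 (exists_map_list)
open scoped Pointwise

variable {K : Subgroup (Equiv.Perm GolayPt)}

theorem orbit_dvd (K : Subgroup (Equiv.Perm GolayPt)) (q : GolayPt) :
    (orbF K q).card ∣ Nat.card K := Dvd.intro _ (card_eq_orbF_mul K q).symm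

/-- The restriction to an invariant set. -/
def restrictHom (K : Subgroup (Equiv.Perm GolayPt)) (S : Finset GolayPt)
    (hS : ∀ g ∈ K, ∀ q, g q ∈ S ↔ q ∈ S) : K →* Equiv.Perm {q // q ∈ S} where
  toFun g := g.1.subtypePerm (hS g.1 g.2)
  map_one' := Equiv.ext fun _ => Subtype.ext rfl
  map_mul' _ _ := Equiv.ext fun _ => Subtype.ext rfl

theorem restrict_eq_one {S : Finset GolayPt} {hS : ∀ g ∈ K, ∀ q, g q ∈ S ↔ q ∈ S} {g : K}
    (h : restrictHom K S hS g = 1) {q : GolayPt} (hq : q ∈ S) : g.1 q = q :=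
  congrArg Subtype.val (Equiv.ext_iff.1 h ⟨q, hq⟩)

theorem card_le_factorial (hM : K ≤ Cfsg.M24) {x : GolayPt} (hx : ∀ g ∈ K, g x = x)
    {S : Finset GolayPt} (hS : ∀ g ∈ K, ∀ q, g q ∈ S ↔ q ∈ S) (hxS : x ∉ S) (h8 : 8 ≤ S.card) :
    Function.Injective (restrictHom K S hS) := by
  rw [injective_iff_map_eq_one]
  intro g hg
  refine Subtype.ext (eq_one_of_fixed (hM g.2) (s := insert x S) ?_ fun p hp => ?_)
  · rw [Finset.card_insert_of_notMem hxS]; omega
  · rcases Finset.mem_insert.1 hp with rfl | hp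
    · exact hx g.1 g.2
    · exact restrict_eq_one hg hp

theorem card_le_of_seven (hM : K ≤ Cfsg.M24) {x a : GolayPt} (hx : ∀ g ∈ K, g x = x)
    (ha : ∀ g ∈ K, g a = a) {S : Finset GolayPt} (hS : ∀ g ∈ K, ∀ q, g q ∈ S ↔ q ∈ S) (hxS : x ∉ S)
    (haS : a ∉ S) (hxa : x ≠ a) (h7 : S.card = 7) : Nat.card K ≤ 5040 := by
  have hinj : Function.Injective (restrictHom K S hS) := by
    rw [injective_iff_map_eq_one]
    intro g hg
    refine Subtype.ext (eq_one_of_fixed (hM g.2) (s := insert x (insert a S)) ?_ fun p hp => ?_)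
    · rw [Finset.card_insert_of_notMem (by simp [hxS, hxa]), Finset.card_insert_of_notMem haS]
      omega
    · simp only [Finset.mem_insert] at hp
      rcases hp with rfl | rfl | hp
      · exact hx g.1 g.2
      · exact ha g.1 g.2
      · exact restrict_eq_one hg hp
  refine (Nat.card_le_card_of_injective _ hinj).trans (le_of_eq ?_)
  rw [Nat.card_perm, Nat.card_eq_fintype_card, Fintype.card_coe, h7]
  rfl

theorem card_fix_three : Nat.card (fixUpTo Cfsg.M24 3) = 20160 := by
  rw [card_fixUpTo_succ (by norm_num : 3 < 7), card_fixUpTo_succ (by norm_num : 4 < 7),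
    card_fixUpTo_succ (by norm_num : 5 < 7), card_fixUpTo_succ (by norm_num : 6 < 7), card_fix_seven]
  simp [orbN]

/-- No symmetric group of degree eight inside a point stabiliser. -/
theorem no_orbit_eight (hM : K ≤ Cfsg.M24) {x : GolayPt} (hx : ∀ g ∈ K, g x = x)
    {S : Finset GolayPt} (hS : ∀ g ∈ K, ∀ q, g q ∈ S ↔ q ∈ S) (hxS : x ∉ S) (h8 : S.card = 8) :
    Nat.card K ≠ 40320 := by
  classical
  intro hK
  have hbij : Function.Bijective (restrictHom K S hS) :=
    (Nat.bijective_iff_injective_and_card _).2 ⟨card_le_factorial hM hx hS hxS h8.ge, by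
      rw [hK, Nat.card_perm, Nat.card_eq_fintype_card, Fintype.card_coe, h8]; rfl⟩
  have key : ∀ p q : {q // q ∈ S}, p ≠ q → ∃ o ∈ octads, x ∈ o ∧ ∀ r : {q // q ∈ S}, r ≠ p → r ≠ q → r.1 ∈ o := by
    intro p q hpq
    obtain ⟨z, hz⟩ := hbij.2 (Equiv.swap p q)
    have ho : orderOf z = 2 := by
      refine orderOf_eq_prime (hp := ⟨Nat.prime_two⟩) (hbij.1 ?_) fun e => ?_
      · rw [map_pow, hz, map_one, pow_two, Equiv.swap_mul_self]
      · rw [e, map_one] at hz
        exact hpq (Equiv.swap_eq_one_iff.1 hz.symm)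
    rcases involution_classes.1 z.1 (hM z.2) (by rw [Subgroup.orderOf_coe, ho]) with h | h
    · refine ⟨_, h, Finset.mem_filter.2 ⟨Finset.mem_univ _, hx z.1 z.2⟩, fun r hrp hrq => ?_⟩
      refine Finset.mem_filter.2 ⟨Finset.mem_univ _, ?_⟩
      have := congrArg Subtype.val (Equiv.ext_iff.1 hz r)
      rwa [Equiv.swap_apply_of_ne_of_ne hrp hrq] at this
    · exact absurd (hx z.1 z.2) (h x)
  obtain ⟨p, q, r, hpq, hpr, hqr⟩ : ∃ p q r : {q // q ∈ S}, p ≠ q ∧ p ≠ r ∧ q ≠ r := by
    obtain ⟨p, q, r, hp, hq, hr, h1, h2, h3⟩ := Finset.two_lt_card_iff.1 (show 2 < S.card by omega)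
    exact ⟨⟨p, hp⟩, ⟨q, hq⟩, ⟨r, hr⟩, fun e => h1 (congrArg Subtype.val e),
      fun e => h2 (congrArg Subtype.val e), fun e => h3 (congrArg Subtype.val e)⟩
  obtain ⟨o, ho, hxo, hor⟩ := key p q hpq
  obtain ⟨o', ho', hxo', hor'⟩ := key p r hpr
  obtain ⟨o'', ho'', hxo'', hor''⟩ := key q r hqr
  have same : ∀ o o' : Finset GolayPt, o ∈ octads → o' ∈ octads → x ∈ o → x ∈ o' →
      (∀ u : {q // q ∈ S}, u ≠ p → u ≠ q → u ≠ r → u.1 ∈ o ∧ u.1 ∈ o') → o = o' := by
    intro o o' ho ho' hxo hxo' hu
    set T := ((S.erase p.1).erase q.1).erase r.1 with hT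
    have hc : T.card = 5 := by
      rw [hT, Finset.card_erase_of_mem, Finset.card_erase_of_mem, Finset.card_erase_of_mem p.2, h8]
      · exact Finset.mem_erase.2 ⟨fun e => hpq (Subtype.ext e.symm), q.2⟩
      · exact Finset.mem_erase.2 ⟨fun e => hqr (Subtype.ext e.symm),
          Finset.mem_erase.2 ⟨fun e => hpr (Subtype.ext e.symm), r.2⟩⟩
    have hmem : ∀ u ∈ T, u ∈ o ∧ u ∈ o' := by
      intro u hu'
      simp only [hT, Finset.mem_erase] at hu'
      exact hu ⟨u, hu'.2.2.2⟩ (fun e => hu'.2.2.1 (congrArg Subtype.val e))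
        (fun e => hu'.2.1 (congrArg Subtype.val e)) (fun e => hu'.1 (congrArg Subtype.val e))
    exact octad_unique ho ho' hc.ge (fun u h => (hmem u h).1) (fun u h => (hmem u h).2)
  have e1 := same o o' ho ho' hxo hxo' fun u h1 h2 h3 => ⟨hor u h1 h2, hor' u h1 h3⟩
  have e2 := same o o'' ho ho'' hxo hxo'' fun u h1 h2 h3 => ⟨hor u h1 h2, hor'' u h2 h3⟩
  have hsub : insert x S ⊆ o := by
    intro u hu
    rcases Finset.mem_insert.1 hu with rfl | hu
    · exact hxo
    by_cases h1 : (⟨u, hu⟩ : {q // q ∈ S}) = p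
    · exact e2 ▸ hor'' ⟨u, hu⟩ (h1 ▸ hpq) (h1 ▸ hpr)
    by_cases h2 : (⟨u, hu⟩ : {q // q ∈ S}) = q
    · exact e1 ▸ hor' ⟨u, hu⟩ h1 (h2 ▸ hqr)
    exact hor ⟨u, hu⟩ h1 h2
  have := Finset.card_le_card hsub
  rw [Finset.card_insert_of_notMem hxS, h8, card_of_mem_octads ho] at this
  omega

/-- The invariant pair or octad. -/
theorem invariant_set (hM : K ≤ Cfsg.M24) {x : GolayPt} (hx : ∀ g ∈ K, g x = x)
    (hK : Nat.card K = 40320) :
    (∃ s : Finset GolayPt, s.card = 2 ∧ x ∉ s ∧ ∀ g ∈ K, g • s = s) ∨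
      ∃ o ∈ octads, x ∈ o ∧ ∀ g ∈ K, g • o = o := by
  classical
  haveI : Fact (Nat.Prime 7) := ⟨by norm_num⟩
  obtain ⟨⟨g, hg⟩, hgo⟩ := exists_prime_orderOf_dvd_card' (G := K) 7 (by rw [hK]; norm_num)
  rw [Subgroup.orderOf_mk] at hgo
  have hF : (fixedPts g).card = 3 := card_fixedPts_seven (hM hg) hgo
  have hxF : x ∈ fixedPts g := mem_fixedPts.2 (hx g hg)
  obtain ⟨a, b, hab, hF2⟩ := Finset.card_eq_two.1
    (show ((fixedPts g).erase x).card = 2 by rw [Finset.card_erase_of_mem hxF, hF])
  have hfix : ∀ q, g q = q ↔ q = x ∨ q = a ∨ q = b := by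
    intro q
    rw [← mem_fixedPts, ← Finset.insert_erase hxF, hF2]
    simp
  have hax : a ≠ x := (Finset.mem_erase.1 (show a ∈ (fixedPts g).erase x by rw [hF2]; simp)).1
  have hbx : b ≠ x := (Finset.mem_erase.1 (show b ∈ (fixedPts g).erase x by rw [hF2]; simp)).1
  have hxO : ∀ q, q ≠ x → x ∉ orbF K q := by
    intro q hq h
    obtain ⟨h', hh, e⟩ := mem_orbF.1 h
    exact hq (h'.injective (e.trans (hx h' hh).symm))
  have hmod : ∀ q, (orbF K q).card % 7 = ((orbF K q).filter fun r => g r = r).card % 7 := fun q =>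
    card_modEq_fixed (p := 7) (by rw [← hgo, pow_orderOf_eq_one]) (orbF_invariant hg)
  have hdvd : ∀ q, (orbF K q).card ∣ 40320 := fun q => hK ▸ orbit_dvd K q
  have hle : ∀ q, q ≠ x → (orbF K q).card ≤ 23 := by
    intro q hq
    have := Finset.card_le_card (show orbF K q ⊆ Finset.univ.erase x from
      fun r hr => Finset.mem_erase.2 ⟨fun e => hxO q hq (e ▸ hr), Finset.mem_univ _⟩)
    rwa [Finset.card_erase_of_mem (Finset.mem_univ x), Finset.card_univ, card_golayPt] at this
  have hinv : ∀ q, ∀ h ∈ K, ∀ r, h r ∈ orbF K q ↔ r ∈ orbF K q :=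
    fun q h hh r => orbF_invariant hh r
  -- orbits without fixed points of `g`
  have hfree : ∀ q, q ≠ x → a ∉ orbF K q → b ∉ orbF K q → 7 ≤ (orbF K q).card := by
    intro q hq ha hb
    have := hmod q
    rw [show ((orbF K q).filter fun r => g r = r) = ∅ from Finset.filter_eq_empty_iff.2 fun r hr e => by
      rcases (hfix r).1 e with rfl | rfl | rfl
      · exact hxO q hq hr
      · exact ha hr
      · exact hb hr, Finset.card_empty] at this
    have hpos : 0 < (orbF K q).card := Finset.card_pos.2 ⟨q, self_mem_orbF K q⟩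
    omega
  -- a seven point orbit is left when all but seven points are covered
  have hseven : ∀ T : Finset GolayPt, T.card = 17 → x ∈ T → a ∈ T → b ∈ T →
      (∀ h ∈ K, ∀ r, h r ∈ T ↔ r ∈ T) →
      ∃ q, q ≠ x ∧ (orbF K q).card = 7 ∧ ∀ r ∈ orbF K q, r ∉ T := by
    intro T hT hxT haT hbT hTinv
    obtain ⟨q, -, hq⟩ := Finset.exists_mem_notMem_of_card_lt_card
      (show T.card < (Finset.univ : Finset GolayPt).card by rw [Finset.card_univ, card_golayPt]; omega)
    have hout : ∀ r ∈ orbF K q, r ∉ T := by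
      intro r hr hrT
      obtain ⟨h, hh, rfl⟩ := mem_orbF.1 hr
      exact hq ((hTinv h hh q).1 hrT)
    have hqx : q ≠ x := fun e => hq (e ▸ hxT)
    have h7 := hfree q hqx (fun h => hout a h haT) (fun h => hout b h hbT)
    have hle7 := Finset.card_le_card (show orbF K q ⊆ Finset.univ \ T from
      fun r hr => Finset.mem_sdiff.2 ⟨Finset.mem_univ _, hout r hr⟩)
    rw [Finset.card_sdiff_of_subset (Finset.subset_univ _), Finset.card_univ, card_golayPt, hT] at hle7
    exact ⟨q, hqx, by omega, hout⟩
  by_cases hbA : b ∈ orbF K a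
  · have hm := hmod a
    rw [show ((orbF K a).filter fun r => g r = r) = {a, b} from Finset.ext fun r => by
      rw [Finset.mem_filter, hfix]
      simp only [Finset.mem_insert, Finset.mem_singleton]
      constructor
      · rintro ⟨hr, rfl | h⟩
        · exact absurd hr (hxO a hax)
        · exact h
      · rintro (rfl | rfl)
        · exact ⟨self_mem_orbF K _, Or.inr (Or.inl rfl)⟩
        · exact ⟨hbA, Or.inr (Or.inr rfl)⟩, Finset.card_pair hab] at hm
    have h1 := hle a hax
    have h2 := hdvd a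
    have hcases : (orbF K a).card = 2 ∨ (orbF K a).card = 9 ∨ (orbF K a).card = 16 := by
      generalize (orbF K a).card = m at h1 h2 hm
      interval_cases m <;> first | omega | (norm_num at h2)
    rcases hcases with h | h | h
    · refine Or.inl ⟨orbF K a, h, hxO a hax, fun k hk => ?_⟩
      refine Finset.eq_of_subset_of_card_le ?_ (by rw [Finset.card_smul_finset])
      intro r hr
      obtain ⟨u, hu, rfl⟩ := Finset.mem_smul_finset.1 hr
      exact (hinv a k hk u).2 hu
    · exfalso
      haveI : Fact (Nat.Prime 5) := ⟨by norm_num⟩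
      obtain ⟨⟨f, hf⟩, hfo⟩ := exists_prime_orderOf_dvd_card' (G := K) 5 (by rw [hK]; norm_num)
      rw [Subgroup.orderOf_mk] at hfo
      have hmod5 : (orbF K a).card % 5 = ((orbF K a).filter fun r => f r = r).card % 5 :=
        card_modEq_fixed (p := 5) (by rw [← hfo, pow_orderOf_eq_one]) (orbF_invariant hf)
      have hsub : (orbF K a).filter (fun r => f r = r) ⊆ (fixedPts f).erase x := fun r hr => by
        rw [Finset.mem_filter] at hr
        exact Finset.mem_erase.2 ⟨fun e => hxO a hax (e ▸ hr.1), mem_fixedPts.2 hr.2⟩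
      have := Finset.card_le_card hsub
      rw [Finset.card_erase_of_mem (mem_fixedPts.2 (hx f hf)), card_fixedPts_five (hM hf) hfo] at this
      rw [h] at hmod5
      omega
    · right
      obtain ⟨q, hqx, hq7, hout⟩ := hseven (insert x (orbF K a))
        (by rw [Finset.card_insert_of_notMem (hxO a hax), h]) (Finset.mem_insert_self _ _)
        (Finset.mem_insert_of_mem (self_mem_orbF K a)) (Finset.mem_insert_of_mem hbA)
        (fun k hk r => by
          simp only [Finset.mem_insert, hinv a k hk]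
          constructor <;> rintro (e | e)
          · exact Or.inl (k.injective (e.trans (hx k hk).symm))
          · exact Or.inr e
          · exact Or.inl (e ▸ hx k hk)
          · exact Or.inr e)
      set S := orbF K q
      set ρ := restrictHom K S (hinv q)
      have hker : 1 < Nat.card ρ.ker := by
        have h1 := Subgroup.card_mul_index ρ.ker
        have h2 : ρ.ker.index ≤ 5040 := by
          rw [Subgroup.index_ker]
          refine (Subgroup.card_le_card_group _).trans (le_of_eq ?_)
          rw [Nat.card_perm, Nat.card_eq_fintype_card, Fintype.card_coe, hq7]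
          rfl
        rw [hK] at h1
        nlinarith
      haveI : Fact (Nat.Prime 2) := ⟨Nat.prime_two⟩
      have h2dvd : 2 ∣ Nat.card ρ.ker := by
        have h1 := Subgroup.card_mul_index ρ.ker
        have h3 : ρ.ker.index ∣ 5040 := by
          rw [Subgroup.index_ker]
          refine (Subgroup.card_subgroup_dvd_card _).trans (dvd_of_eq ?_)
          rw [Nat.card_perm, Nat.card_eq_fintype_card, Fintype.card_coe, hq7]
          rfl
        obtain ⟨j, hj⟩ := h3
        rw [hK, show 40320 = 8 * 5040 from rfl, hj, ← mul_assoc] at h1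
        have hpos : 0 < ρ.ker.index := Nat.pos_of_ne_zero Subgroup.index_ne_zero_of_finite
        have : Nat.card ρ.ker = 8 * j := Nat.eq_of_mul_eq_mul_right hpos (by linarith)
        exact ⟨4 * j, by omega⟩
      obtain ⟨z, hzo⟩ := exists_prime_orderOf_dvd_card' (G := ρ.ker) 2 h2dvd
      have hzo' : orderOf z.1.1 = 2 := by rw [Subgroup.orderOf_coe, Subgroup.orderOf_coe, hzo]
      rcases involution_classes.1 z.1.1 (hM z.1.2) hzo' with ho | ho
      · have hfull : insert x S = Finset.univ.filter (fun p => z.1.1 p = p) := by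
          refine Finset.eq_of_subset_of_card_le (fun p hp => ?_) ?_
          · refine Finset.mem_filter.2 ⟨Finset.mem_univ _, ?_⟩
            rcases Finset.mem_insert.1 hp with rfl | hp
            · exact hx _ z.1.2
            · exact restrict_eq_one z.2 hp
          · rw [card_of_mem_octads ho, Finset.card_insert_of_notMem (hxO q hqx), hq7]
        refine ⟨insert x S, hfull ▸ ho, Finset.mem_insert_self _ _, fun k hk => ?_⟩
        refine Finset.eq_of_subset_of_card_le ?_ (by rw [Finset.card_smul_finset])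
        intro r hr
        obtain ⟨u, hu, rfl⟩ := Finset.mem_smul_finset.1 hr
        rcases Finset.mem_insert.1 hu with rfl | hu
        · rw [Equiv.Perm.smul_def, hx k hk]; exact Finset.mem_insert_self _ _
        · exact Finset.mem_insert_of_mem ((hinv q k hk u).2 hu)
      · exact absurd (hx _ z.1.2) (ho x)
  exfalso
  have haB : a ∉ orbF K b := fun h => hbA (by
    obtain ⟨k, hk, rfl⟩ := mem_orbF.1 h
    exact mem_orbF.2 ⟨k⁻¹, K.inv_mem hk, by simp⟩)
  have one : ∀ u v : GolayPt, u ≠ x → v ∉ orbF K u → (∀ r, g r = r ↔ r = x ∨ r = u ∨ r = v) →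
      (orbF K u).card = 1 ∨ (orbF K u).card = 15 := by
    intro u v hux hvu hf
    have hm := hmod u
    rw [show ((orbF K u).filter fun r => g r = r) = {u} from Finset.ext fun r => by
      rw [Finset.mem_filter, hf, Finset.mem_singleton]
      constructor
      · rintro ⟨hr, rfl | rfl | rfl⟩
        · exact absurd hr (hxO u hux)
        · rfl
        · exact absurd hr hvu
      · rintro rfl; exact ⟨self_mem_orbF K _, Or.inr (Or.inl rfl)⟩, Finset.card_singleton] at hm
    have h1 := hle u hux
    have h2 := hdvd u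
    have h8 : (orbF K u).card ≠ 8 := fun e =>
      no_orbit_eight hM hx (hinv u) (hxO u hux) e hK
    generalize (orbF K u).card = m at h1 h2 hm h8
    interval_cases m <;> first | omega | (norm_num at h2)
  have hA := one a b hax hbA hfix
  have hB := one b a hbx haB fun r => (hfix r).trans ⟨fun h => by tauto, fun h => by tauto⟩
  have hdis : Disjoint (orbF K a) (orbF K b) := orbF_disjoint hbA
  have hsum := Finset.card_le_card (show orbF K a ∪ orbF K b ⊆ Finset.univ.erase x from fun r hr =>
    Finset.mem_erase.2 ⟨fun e => (Finset.mem_union.1 hr).elim (fun h => hxO a hax (e ▸ h))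
      (fun h => hxO b hbx (e ▸ h)), Finset.mem_univ _⟩)
  rw [Finset.card_union_of_disjoint hdis, Finset.card_erase_of_mem (Finset.mem_univ x),
    Finset.card_univ, card_golayPt] at hsum
  -- one of them is a fixed point
  have main : ∀ u v : GolayPt, u ≠ x → v ≠ x → u ≠ v → Disjoint (orbF K u) (orbF K v) →
      (∀ r, g r = r ↔ r = x ∨ r = u ∨ r = v) →
      (orbF K u).card = 1 → (orbF K v).card = 1 ∨ (orbF K v).card = 15 → False := by
    intro u v hux hvx huv hd hf h1 hv
    have hu : ∀ k ∈ K, k u = u := fixes_of_card_one h1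
    rcases hv with hv | hv
    · have hvf : ∀ k ∈ K, k v = v := fixes_of_card_one hv
      -- three fixed points
      have hthree : Nat.card K ≤ 20160 := by
        obtain ⟨c, hc, he⟩ := exists_map_list (A := [bp 0, bp 1, bp 2]) (A' := [x, u, v])
          (by decide +kernel) (by simp [hux.symm, hvx.symm, huv]) rfl (by simp)
        simp only [List.map_cons, List.map_nil, List.cons.injEq, and_true] at he
        have hmem : ∀ k : K, c⁻¹ * k.1 * c ∈ fixUpTo Cfsg.M24 3 := by
          intro k
          refine mem_fixUpTo.2 ⟨Cfsg.M24.mul_mem (Cfsg.M24.mul_mem (Cfsg.M24.inv_mem hc) (hM k.2)) hc,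
            fun j hj => ?_⟩
          rw [Equiv.Perm.mul_apply, Equiv.Perm.mul_apply]
          interval_cases j
          · rw [he.1, hx k.1 k.2, ← he.1, Equiv.Perm.coe_inv, Equiv.symm_apply_apply]
          · rw [he.2.1, hu k.1 k.2, ← he.2.1, Equiv.Perm.coe_inv, Equiv.symm_apply_apply]
          · rw [he.2.2, hvf k.1 k.2, ← he.2.2, Equiv.Perm.coe_inv, Equiv.symm_apply_apply]
        refine (Nat.card_le_card_of_injective (fun k : K => (⟨_, hmem k⟩ : fixUpTo Cfsg.M24 3))
          fun k k' h => ?_).trans (le_of_eq card_fix_three)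
        exact Subtype.ext (mul_left_cancel (mul_right_cancel (congrArg Subtype.val h)))
      omega
    · obtain ⟨q, hqx, hq7, hout⟩ := hseven (insert x (orbF K u ∪ orbF K v))
        (by
          rw [Finset.card_insert_of_notMem (fun h => (Finset.mem_union.1 h).elim (hxO u hux) (hxO v hvx)),
            Finset.card_union_of_disjoint hd, h1, hv])
        (Finset.mem_insert_self _ _)
        (by
          rcases (hf a).1 ((hfix a).2 (Or.inr (Or.inl rfl))) with e | e | e
          · exact absurd e hax
          · rw [e]; exact Finset.mem_insert_of_mem (Finset.mem_union_left _ (self_mem_orbF K u))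
          · rw [e]; exact Finset.mem_insert_of_mem (Finset.mem_union_right _ (self_mem_orbF K v)))
        (by
          rcases (hf b).1 ((hfix b).2 (Or.inr (Or.inr rfl))) with e | e | e
          · exact absurd e hbx
          · rw [e]; exact Finset.mem_insert_of_mem (Finset.mem_union_left _ (self_mem_orbF K u))
          · rw [e]; exact Finset.mem_insert_of_mem (Finset.mem_union_right _ (self_mem_orbF K v)))
        (fun k hk r => by
          simp only [Finset.mem_insert, Finset.mem_union, hinv u k hk, hinv v k hk]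
          constructor <;> rintro (e | e)
          · exact Or.inl (k.injective (e.trans (hx k hk).symm))
          · exact Or.inr e
          · exact Or.inl (e ▸ hx k hk)
          · exact Or.inr e)
      have := card_le_of_seven hM hx hu (hinv q) (hxO q hqx)
        (fun h => hout u h (Finset.mem_insert_of_mem (Finset.mem_union_left _ (self_mem_orbF K u))))
        hux.symm hq7
      omega
  rcases hA with h | h
  · exact main a b hax hbx hab hdis hfix h hB
  · rcases hB with h' | h'
    · exact main b a hbx hax hab.symm hdis.symm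
        (fun r => (hfix r).trans ⟨fun h => by tauto, fun h => by tauto⟩) h' (Or.inr h)
    · omega

set_option maxRecDepth 40000 in
theorem heptad_count : (Engine.classMasks 8 [(8388608, 1)]).length = 253 := by decide +kernel

/-- The subgroups of index 253. -/
theorem index_253 (x : GolayPt) (H : Subgroup ↥(MulAction.stabilizer Cfsg.M24 x)) (hH : H.index = 253) :
    (∃ s : Finset GolayPt, s.card = 2 ∧ x ∉ s ∧
      H = (MulAction.stabilizer Cfsg.M24 s).subgroupOf (MulAction.stabilizer Cfsg.M24 x)) ∨
    ∃ o ∈ octads, x ∈ o ∧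
      H = (MulAction.stabilizer Cfsg.M24 o).subgroupOf (MulAction.stabilizer Cfsg.M24 x) := by
  classical
  let e : ↥(MulAction.stabilizer Cfsg.M24 x) →* Equiv.Perm GolayPt := Cfsg.M24.subtype.comp (MulAction.stabilizer Cfsg.M24 x).subtype
  have he : Function.Injective e := Subtype.val_injective.comp Subtype.val_injective
  have hcardH : Nat.card H = 40320 := by
    have := Subgroup.card_mul_index H
    rw [hH, card_stabilizer] at this
    omega
  have hK : Nat.card (H.map e) = 40320 := by
    rw [← Nat.card_congr (H.equivMapOfInjective e he).toEquiv, hcardH]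
  have hM : H.map e ≤ Cfsg.M24 := by rintro _ ⟨h, -, rfl⟩; exact h.1.2
  have hxK : ∀ g ∈ H.map e, g x = x := by rintro _ ⟨h, -, rfl⟩; exact h.2
  -- a containing stabiliser of index at least 253 is equal
  have fin : ∀ s : Finset GolayPt, (∀ g ∈ H.map e, g • s = s) → ∀ O : Set (Finset GolayPt),
      O.ncard = 253 → (∀ t ∈ O, ∃ g : ↥(MulAction.stabilizer Cfsg.M24 x), g.1.1 • s = t) →
      H = (MulAction.stabilizer Cfsg.M24 s).subgroupOf (MulAction.stabilizer Cfsg.M24 x) := by
    intro s hs O hO htr
    have hle : H ≤ (MulAction.stabilizer Cfsg.M24 s).subgroupOf (MulAction.stabilizer Cfsg.M24 x) := fun h hh =>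
      hs _ ⟨h, hh, rfl⟩
    refine le_antisymm hle ?_
    rw [← Subgroup.relIndex_eq_one]
    have h1 := Subgroup.relIndex_mul_index hle
    have h2 : 253 ≤ ((MulAction.stabilizer Cfsg.M24 s).subgroupOf (MulAction.stabilizer Cfsg.M24 x)).index := by
      rw [show (MulAction.stabilizer Cfsg.M24 s).subgroupOf (MulAction.stabilizer Cfsg.M24 x) = MulAction.stabilizer ↥(MulAction.stabilizer Cfsg.M24 x) s from rfl,
        MulAction.index_stabilizer, ← hO]
      exact Set.ncard_le_ncard (fun t ht => let ⟨g, hg⟩ := htr t ht; ⟨g, hg⟩) (Set.toFinite _)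
    rw [hH] at h1
    rcases Nat.lt_or_ge (Subgroup.relIndex H ((MulAction.stabilizer Cfsg.M24 s).subgroupOf (MulAction.stabilizer Cfsg.M24 x))) 2 with h | h
    · interval_cases hr : Subgroup.relIndex H ((MulAction.stabilizer Cfsg.M24 s).subgroupOf (MulAction.stabilizer Cfsg.M24 x))
      · simp at h1
      · rfl
    · nlinarith
  rcases invariant_set hM hxK hK with ⟨s, hs2, hxs, hinv⟩ | ⟨o, ho, hxo, hinv⟩
  · refine Or.inl ⟨s, hs2, hxs, fin s hinv ↑((Finset.univ.erase x).powersetCard 2) ?_ ?_⟩
    · rw [Set.ncard_coe_finset, Finset.card_powersetCard,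
        Finset.card_erase_of_mem (Finset.mem_univ x), Finset.card_univ, card_golayPt]
      rfl
    · intro t ht
      rw [Finset.mem_coe, Finset.mem_powersetCard] at ht
      have hxt : x ∉ t := fun h => (Finset.mem_erase.1 (ht.1 h)).1 rfl
      obtain ⟨g, hg, h1, h2⟩ := SporStruct.M24.exists_map_disjoint (s := {x}) (t := s) (s' := {x})
        (t' := t) (Finset.disjoint_singleton_left.2 hxs) (Finset.disjoint_singleton_left.2 hxt) rfl
        (by rw [hs2, ht.2]) (by simp [hs2])
      rw [Finset.smul_finset_singleton] at h1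
      exact ⟨⟨⟨g, hg⟩, Finset.singleton_injective h1⟩, h2⟩
  · refine Or.inr ⟨o, ho, hxo, fin o hinv {t | t ∈ octads ∧ x ∈ t} ?_ ?_⟩
    · obtain ⟨c, hc, hcx⟩ := exists_map_one x
      rw [← Engine.ncard_class (w := 8) hc heptad_count]
      simp [Engine.Cond, Engine.point_in Engine.single_facts.1 hcx, Engine.card_single_one]
      rfl
    · rintro t ⟨ht, hxt⟩
      obtain ⟨p, hp⟩ := Engine.exists_notMem ho
      obtain ⟨q, hq⟩ := Engine.exists_notMem ht
      obtain ⟨c, hc, hco, hcj, -⟩ := Engine.exists_base ho (List.nodup_singleton x) (by simp)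
        (by simpa using hxo) hp
      obtain ⟨c', hc', hct, hcj', -⟩ := Engine.exists_base ht (List.nodup_singleton x) (by simp)
        (by simpa using hxt) hq
      have e1 : c (bp 0) = x := by simpa using hcj 0 (by simp)
      have e2 : c' (bp 0) = x := by simpa using hcj' 0 (by simp)
      refine ⟨⟨⟨c' * c⁻¹, Cfsg.M24.mul_mem hc' (Cfsg.M24.inv_mem hc)⟩, ?_⟩, ?_⟩
      · show (c' * c⁻¹) x = x
        conv_lhs => rw [← e1]
        rw [Equiv.Perm.mul_apply, Equiv.Perm.coe_inv, Equiv.symm_apply_apply, e2]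
      · show (c' * c⁻¹) • o = t
        rw [← hco, mul_smul, inv_smul_smul, hct]

end Cfsg.Agent.SporStructure.Index253
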