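import Cfsg.Prelude.Def_SporadicCombinatorics

/-!
The hexacode: weights and monomial automorphisms, through a model on `Fin 4`.
-/

set_option autoImplicit false
set_option linter.all false

namespace Cfsg.Agent.SporStructure.Hexacode

/-- Addition in the model. -/
def add4 (a b : Fin 4) : Fin 4 := ⟨(a.val ^^^ b.val) % 4, Nat.mod_lt _ (by norm_num)⟩

/-- Multiplication in the model: 0, 1, ω, ω². -/
def mul4 (a b : Fin 4) : Fin 4 :=
  if a = 0 ∨ b = 0 then 0 else ⟨(a.val - 1 + (b.val - 1)) % 3 + 1, by omega⟩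

/-- Parity checks in the model. -/
def chk (x : Fin 6 → Fin 4) : Bool :=
  x 3 == add4 (add4 (x 0) (x 1)) (x 2) && x 4 == add4 (add4 (mul4 3 (x 0)) (mul4 2 (x 1))) (x 2) &&
    x 5 == add4 (add4 (mul4 2 (x 0)) (mul4 3 (x 1))) (x 2)

/-- The systematic encoder. -/
def enc (a b c : Fin 4) : Fin 6 → Fin 4 :=
  ![a, b, c, add4 (add4 a b) c, add4 (add4 (mul4 3 a) (mul4 2 b)) c,
    add4 (add4 (mul4 2 a) (mul4 3 b)) c]

/-- Weight in the model. -/
def wt (x : Fin 6 → Fin 4) : ℕ := (Finset.univ.filter fun i => x i ≠ 0).card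

theorem wt_cases : ∀ a b c : Fin 4, (wt (enc a b c) = 0 ∧ a = 0 ∧ b = 0 ∧ c = 0) ∨
    wt (enc a b c) = 4 ∨ wt (enc a b c) = 6 := by decide +kernel

theorem wt_counts :
    (Finset.univ.filter fun t : Fin 4 × Fin 4 × Fin 4 => wt (enc t.1 t.2.1 t.2.2) = 4).card = 45 ∧
    (Finset.univ.filter fun t : Fin 4 × Fin 4 × Fin 4 => wt (enc t.1 t.2.1 t.2.2) = 6).card = 18 := by
  decide +kernel

/-- The three generators. -/
def gen : Fin 3 → Fin 6 → Fin 4 := ![![2, 3, 3, 2, 3, 2], ![3, 2, 2, 3, 3, 2], ![3, 2, 3, 2, 2, 3]]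

/-- The monomial map with coefficient exponents `d` fixes the code. -/
def good (σ : Equiv.Perm (Fin 6)) (d : Fin 6 → Fin 3) : Bool :=
  chk (fun i => mul4 (d i).succ (gen 0 (σ.symm i))) &&
    chk (fun i => mul4 (d i).succ (gen 1 (σ.symm i))) &&
    chk (fun i => mul4 (d i).succ (gen 2 (σ.symm i)))

theorem gen_chk : chk (gen 0) = true ∧ chk (gen 1) = true ∧ chk (gen 2) = true := by decide +kernel

theorem diag_model : ∀ a b c d e f : Fin 3, good 1 ![a, b, c, d, e, f] = true →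
    a = b ∧ a = c ∧ a = d ∧ a = e ∧ a = f := by decide +kernel

theorem swap_model : ∀ a b c d e f : Fin 3, good (Equiv.swap 0 1) ![a, b, c, d, e, f] = false := by
  decide +kernel

theorem pair_model : ∀ i j : Fin 6, i < j → ∃ b c d e f : Fin 3,
    good (Equiv.swap i j * Equiv.swap 0 1) ![0, b, c, d, e, f] = true := by decide +kernel

variable {F : Type*} [Field F] (ω : F)

/-- The model as a subset of the field. -/
def phi : Fin 4 → F := ![0, 1, ω, ω + 1]

theorem two_eq_zero [Fintype F] (hF : Fintype.card F = 4) : (2 : F) = 0 := by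
  have h : ((Fintype.card F : ℕ) : F) = 0 := Nat.cast_card_eq_zero F
  rw [hF] at h
  have h2 : (2 : F) * 2 = 0 := by rw [← h]; norm_num
  exact mul_self_eq_zero.1 h2

variable {ω}

theorem phi_hom (h2 : (2 : F) = 0) (hω : ω ^ 2 + ω + 1 = 0) (a b : Fin 4) :
    phi ω (add4 a b) = phi ω a + phi ω b ∧ phi ω (mul4 a b) = phi ω a * phi ω b := by
  fin_cases a <;> fin_cases b <;>
    refine ⟨?_, ?_⟩ <;> simp [phi, add4, mul4] <;>
    first
      | linear_combination (0 : F) * h2
      | linear_combination h2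
      | linear_combination -h2
      | linear_combination ω * h2
      | linear_combination -(ω * h2)
      | linear_combination (ω + 1) * h2
      | linear_combination -((ω + 1) * h2)
      | linear_combination hω
      | linear_combination -hω
      | linear_combination hω - h2
      | linear_combination -hω + h2
      | linear_combination hω - (ω + 1) * h2
      | linear_combination -hω + (ω + 1) * h2
      | linear_combination hω - ω * h2
      | linear_combination -hω + ω * h2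

theorem phi_injective (h2 : (2 : F) = 0) (hω : ω ^ 2 + ω + 1 = 0) :
    Function.Injective (phi ω) := by
  have h0 : ω ≠ 0 := fun e => by rw [e] at hω; simp at hω
  have h1 : ω ≠ 1 := fun e => by
    rw [e] at hω
    exact one_ne_zero (by linear_combination hω - h2)
  intro a b hab
  fin_cases a <;> fin_cases b <;> simp [phi] at hab ⊢ <;>
    first
      | exact h0 hab
      | exact h0 hab.symm
      | exact h1 hab
      | exact h1 hab.symm
      | exact h1 (by linear_combination hab - h2)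
      | exact h1 (by linear_combination -hab - h2)
      | exact h0 (by linear_combination hab)
      | exact h0 (by linear_combination -hab)
      | exact one_ne_zero (by linear_combination hab)
      | exact one_ne_zero (by linear_combination -hab)

section

variable [Fintype F] (hF : Fintype.card F = 4) (hω : ω ^ 2 + ω + 1 = 0)
include hF hω

theorem phi_bijective : Function.Bijective (phi ω) :=
  (Fintype.bijective_iff_injective_and_card _).2
    ⟨phi_injective (two_eq_zero hF) hω, by simp [hF]⟩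

theorem phi_add (a b : Fin 4) : phi ω (add4 a b) = phi ω a + phi ω b :=
  (phi_hom (two_eq_zero hF) hω a b).1

theorem phi_mul (a b : Fin 4) : phi ω (mul4 a b) = phi ω a * phi ω b :=
  (phi_hom (two_eq_zero hF) hω a b).2

theorem phi_eq_zero (a : Fin 4) : phi ω a = 0 ↔ a = 0 :=
  ⟨fun h => (phi_bijective hF hω).1 (by rw [h]; rfl), fun h => by rw [h]; rfl⟩

theorem phi_two_three : phi ω 2 = ω ∧ phi ω 3 = ω ^ 2 := by
  refine ⟨rfl, ?_⟩
  show ω + 1 = ω ^ 2
  linear_combination -hω + (ω + 1) * two_eq_zero hF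

theorem chk_iff (x : Fin 6 → Fin 4) : chk x = true ↔
    phi ω (x 3) = phi ω (x 0) + phi ω (x 1) + phi ω (x 2) ∧
    phi ω (x 4) = ω ^ 2 * phi ω (x 0) + ω * phi ω (x 1) + phi ω (x 2) ∧
    phi ω (x 5) = ω * phi ω (x 0) + ω ^ 2 * phi ω (x 1) + phi ω (x 2) := by
  obtain ⟨e2, e3⟩ := phi_two_three hF hω
  simp only [chk, Bool.and_eq_true, beq_iff_eq, and_assoc, ← (phi_bijective hF hω).1.eq_iff,
    phi_mul hF hω, phi_add hF hω, e2, e3]

/-- Membership in the hexacode. -/
theorem mem_iff (x : Fin 6 → F) : x ∈ Cfsg.hexacode F ω ↔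
    x 3 = x 0 + x 1 + x 2 ∧ x 4 = ω ^ 2 * x 0 + ω * x 1 + x 2 ∧ x 5 = ω * x 0 + ω ^ 2 * x 1 + x 2 := by
  have h2 := two_eq_zero hF
  constructor
  · intro hx
    induction hx using Submodule.span_induction with
    | mem y hy =>
      have e : ∀ k, chk (gen k) = true := fun k => by
        fin_cases k
        · exact gen_chk.1
        · exact gen_chk.2.1
        · exact gen_chk.2.2
      obtain ⟨e2, e3⟩ := phi_two_three hF hω
      simp only [Set.mem_insert_iff, Set.mem_singleton_iff] at hy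
      rcases hy with rfl | rfl | rfl
      · have h := (chk_iff hF hω _).1 (e 0); simpa [gen, e2, e3] using h
      · have h := (chk_iff hF hω _).1 (e 1); simpa [gen, e2, e3] using h
      · have h := (chk_iff hF hω _).1 (e 2); simpa [gen, e2, e3] using h
    | zero => simp
    | add y z _ _ hy hz =>
      simp only [Pi.add_apply, hy.1, hz.1, hy.2.1, hz.2.1, hy.2.2, hz.2.2]
      exact ⟨by ring, by ring, by ring⟩
    | smul a y _ hy =>
      simp only [Pi.smul_apply, smul_eq_mul, hy.1, hy.2.1, hy.2.2]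
      exact ⟨by ring, by ring, by ring⟩
  · rintro ⟨h3, h4, h5⟩
    have : x = (ω * x 0 + ω ^ 2 * x 1) • ![ω, ω ^ 2, ω ^ 2, ω, ω ^ 2, ω] +
        (ω ^ 2 * x 0 + ω ^ 2 * x 1 + x 2) • ![ω ^ 2, ω, ω, ω ^ 2, ω ^ 2, ω] +
        (x 1 + x 2) • ![ω ^ 2, ω, ω ^ 2, ω, ω, ω ^ 2] := by
      obtain ⟨a, ha⟩ := (phi_bijective hF hω).2 (x 0)
      obtain ⟨b, hb⟩ := (phi_bijective hF hω).2 (x 1)
      obtain ⟨c, hc⟩ := (phi_bijective hF hω).2 (x 2)
      obtain ⟨e2, e3⟩ := phi_two_three hF hω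
      have key : ∀ a b c : Fin 4, ∀ i : Fin 6, enc a b c i =
          add4 (add4 (mul4 (add4 (mul4 2 a) (mul4 3 b)) (gen 0 i))
            (mul4 (add4 (add4 (mul4 3 a) (mul4 3 b)) c) (gen 1 i)))
            (mul4 (add4 b c) (gen 2 i)) := by decide +kernel
      funext i
      have := congrArg (phi ω) (key a b c i)
      simp only [phi_add hF hω, phi_mul hF hω, e2, e3, ha, hb, hc] at this
      fin_cases i <;>
        simpa [enc, gen, phi_add hF hω, phi_mul hF hω, e2, e3, ha, hb, hc, h3, h4, h5] using this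
    rw [this]
    refine Submodule.add_mem _ (Submodule.add_mem _ ?_ ?_) ?_ <;>
      exact Submodule.smul_mem _ _ (Submodule.subset_span (by simp))

theorem mem_iff_enc (x : Fin 6 → F) : x ∈ Cfsg.hexacode F ω ↔
    ∃ a b c : Fin 4, x = phi ω ∘ enc a b c := by
  rw [mem_iff hF hω]
  obtain ⟨e2, e3⟩ := phi_two_three hF hω
  constructor
  · rintro ⟨h3, h4, h5⟩
    obtain ⟨a, ha⟩ := (phi_bijective hF hω).2 (x 0)
    obtain ⟨b, hb⟩ := (phi_bijective hF hω).2 (x 1)
    obtain ⟨c, hc⟩ := (phi_bijective hF hω).2 (x 2)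
    refine ⟨a, b, c, funext fun i => ?_⟩
    fin_cases i <;> simp [enc, phi_add hF hω, phi_mul hF hω, e2, e3, ha, hb, hc, h3, h4, h5]
  · rintro ⟨a, b, c, rfl⟩
    simp [enc, phi_add hF hω, phi_mul hF hω, e2, e3]

theorem weights [DecidableEq F] : Nat.card ↥(Cfsg.hexacode F ω) = 64 ∧
    (∀ x ∈ Cfsg.hexacode F ω, x ≠ 0 → (Finset.univ.filter fun i => x i ≠ 0).card = 4 ∨
      (Finset.univ.filter fun i => x i ≠ 0).card = 6) ∧
    {x : Fin 6 → F | x ∈ Cfsg.hexacode F ω ∧ (Finset.univ.filter fun i => x i ≠ 0).card = 4}.ncard = 45 ∧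
    {x : Fin 6 → F | x ∈ Cfsg.hexacode F ω ∧ (Finset.univ.filter fun i => x i ≠ 0).card = 6}.ncard = 18 := by
  let f : Fin 4 × Fin 4 × Fin 4 → Fin 6 → F := fun t => phi ω ∘ enc t.1 t.2.1 t.2.2
  have hf : Function.Injective f := by
    intro s t h
    have e : ∀ i, enc s.1 s.2.1 s.2.2 i = enc t.1 t.2.1 t.2.2 i :=
      fun i => (phi_bijective hF hω).1 (congrFun h i)
    exact Prod.ext (e 0) (Prod.ext (e 1) (e 2))
  have hw : ∀ t, (Finset.univ.filter fun i => f t i ≠ 0).card = wt (enc t.1 t.2.1 t.2.2) := fun t => by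
    simp only [wt, f, Function.comp_apply, ne_eq, phi_eq_zero hF hω]
  have hcnt : ∀ k, {x : Fin 6 → F | x ∈ Cfsg.hexacode F ω ∧
      (Finset.univ.filter fun i => x i ≠ 0).card = k} =
      f '' (Finset.univ.filter fun t : Fin 4 × Fin 4 × Fin 4 => wt (enc t.1 t.2.1 t.2.2) = k :
        Finset _) := by
    intro k
    ext x
    simp only [Set.mem_ofPred_eq, Set.mem_image, Finset.coe_filter, Finset.mem_univ, true_and]
    constructor
    · rintro ⟨hx, hk⟩
      obtain ⟨a, b, c, rfl⟩ := (mem_iff_enc hF hω x).1 hx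
      exact ⟨(a, b, c), by rw [← hw]; exact hk, rfl⟩
    · rintro ⟨t, ht, rfl⟩
      exact ⟨(mem_iff_enc hF hω _).2 ⟨_, _, _, rfl⟩, by rw [hw]; exact ht⟩
  refine ⟨?_, fun x hx hne => ?_, ?_, ?_⟩
  · have e : (Cfsg.hexacode F ω : Set (Fin 6 → F)) = Set.range f := by
      ext x
      rw [SetLike.mem_coe, mem_iff_enc hF hω]
      exact ⟨fun ⟨a, b, c, h⟩ => ⟨(a, b, c), h.symm⟩, fun ⟨t, h⟩ => ⟨_, _, _, h.symm⟩⟩
    rw [← SetLike.coe_sort_coe, Nat.card_congr (Equiv.setCongr e), Nat.card_range_of_injective hf]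
    simp
  · obtain ⟨a, b, c, rfl⟩ := (mem_iff_enc hF hω x).1 hx
    rw [hw (a, b, c)]
    rcases wt_cases a b c with ⟨-, rfl, rfl, rfl⟩ | h
    · exact absurd (funext fun i => by fin_cases i <;> rfl) hne
    · exact h
  · rw [hcnt, Set.ncard_image_of_injective _ hf, Set.ncard_coe_finset, wt_counts.1]
  · rw [hcnt, Set.ncard_image_of_injective _ hf, Set.ncard_coe_finset, wt_counts.2]

/-- The exponents of units. -/
theorem exists_exp (c : Fin 6 → Fˣ) :
    ∃ d : Fin 6 → Fin 3, ∀ i, (c i : F) = phi ω (d i).succ := by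
  have h : ∀ i, ∃ e : Fin 3, (c i : F) = phi ω e.succ := fun i => by
    obtain ⟨a, ha⟩ := (phi_bijective hF hω).2 (c i : F)
    have ha0 : a ≠ 0 := fun e => (c i).ne_zero (by rw [← ha, e]; rfl)
    exact ⟨a.pred ha0, by rw [Fin.succ_pred, ha]⟩
  choose d hd using h
  exact ⟨d, hd⟩

theorem pres_iff (σ : Equiv.Perm (Fin 6)) (c : Fin 6 → Fˣ) (d : Fin 6 → Fin 3)
    (hd : ∀ i, (c i : F) = phi ω (d i).succ) :
    (∀ x ∈ Cfsg.hexacode F ω, Cfsg.monomialMap σ c x ∈ Cfsg.hexacode F ω) ↔ good σ d = true := by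
  obtain ⟨e2, e3⟩ := phi_two_three hF hω
  have key : ∀ k, chk (fun i => mul4 (d i).succ (gen k (σ.symm i))) = true ↔
      Cfsg.monomialMap σ c (phi ω ∘ gen k) ∈ Cfsg.hexacode F ω := fun k => by
    rw [mem_iff hF hω, chk_iff hF hω]
    simp [Cfsg.monomialMap, phi_mul hF hω, hd]
  have hg : phi ω ∘ gen 0 = ![ω, ω ^ 2, ω ^ 2, ω, ω ^ 2, ω] ∧
      phi ω ∘ gen 1 = ![ω ^ 2, ω, ω, ω ^ 2, ω ^ 2, ω] ∧
      phi ω ∘ gen 2 = ![ω ^ 2, ω, ω ^ 2, ω, ω, ω ^ 2] := by
    refine ⟨?_, ?_, ?_⟩ <;> funext i <;> fin_cases i <;> simp [gen, e2, e3]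
  rw [good, Bool.and_eq_true, Bool.and_eq_true, key, key, key, hg.1, hg.2.1, hg.2.2]
  constructor
  · exact fun h => ⟨⟨h _ (Submodule.subset_span (by simp)), h _ (Submodule.subset_span (by simp))⟩,
      h _ (Submodule.subset_span (by simp))⟩
  · rintro ⟨⟨h0, h1⟩, h2⟩ x hx
    induction hx using Submodule.span_induction with
    | mem y hy =>
      simp only [Set.mem_insert_iff, Set.mem_singleton_iff] at hy
      rcases hy with rfl | rfl | rfl <;> assumption
    | zero =>
      convert (Cfsg.hexacode F ω).zero_mem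
      funext i; simp [Cfsg.monomialMap]
    | add y z _ _ hy hz =>
      convert (Cfsg.hexacode F ω).add_mem hy hz using 1
      funext i; simp [Cfsg.monomialMap, mul_add]
    | smul a y _ hy =>
      convert (Cfsg.hexacode F ω).smul_mem a hy using 1
      funext i; simp [Cfsg.monomialMap]; ring

omit [Fintype F] hF hω in
theorem mono_comp (σ τ : Equiv.Perm (Fin 6)) (c d : Fin 6 → Fˣ) (x : Fin 6 → F) :
    Cfsg.monomialMap σ c (Cfsg.monomialMap τ d x) =
      Cfsg.monomialMap (σ * τ) (fun i => c i * d (σ.symm i)) x := by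
  funext i
  simp only [Cfsg.monomialMap, Units.val_mul, mul_assoc]
  rfl

/-- The permutation parts. -/
def perms : Set (Equiv.Perm (Fin 6)) :=
  {σ | ∃ c : Fin 6 → Fˣ, ∀ x ∈ Cfsg.hexacode F ω, Cfsg.monomialMap σ c x ∈ Cfsg.hexacode F ω}

theorem perms_mul {σ τ : Equiv.Perm (Fin 6)} (hσ : σ ∈ perms (F := F) (ω := ω))
    (hτ : τ ∈ perms (F := F) (ω := ω)) : σ * τ ∈ perms (F := F) (ω := ω) := by
  obtain ⟨c, hc⟩ := hσ
  obtain ⟨d, hd⟩ := hτ
  exact ⟨_, fun x hx => mono_comp σ τ c d x ▸ hc _ (hd x hx)⟩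

theorem mem_perms_of_good {σ : Equiv.Perm (Fin 6)} {d : Fin 6 → Fin 3} (h : good σ d = true) :
    σ ∈ perms (F := F) (ω := ω) :=
  ⟨fun i => Units.mk0 (phi ω (d i).succ) (fun e => Fin.succ_ne_zero _ ((phi_eq_zero hF hω _).1 e)),
    (pres_iff hF hω σ _ d fun i => rfl).2 h⟩

theorem perms_one : (1 : Equiv.Perm (Fin 6)) ∈ perms (F := F) (ω := ω) :=
  ⟨1, fun x hx => by convert hx using 1; funext i; simp [Cfsg.monomialMap]; rfl⟩

theorem perms_inv {σ : Equiv.Perm (Fin 6)} (hσ : σ ∈ perms (F := F) (ω := ω)) :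
    σ⁻¹ ∈ perms (F := F) (ω := ω) := by
  let S : Submonoid (Equiv.Perm (Fin 6)) :=
    { carrier := perms (F := F) (ω := ω)
      mul_mem' := fun h h' => perms_mul hF hω h h'
      one_mem' := perms_one hF hω }
  have h : σ ∈ S := hσ
  show σ⁻¹ ∈ S
  rw [inv_eq_of_mul_eq_one_right (by
    rw [← pow_succ', Nat.sub_one_add_one (orderOf_pos σ).ne', pow_orderOf_eq_one] :
    σ * σ ^ (orderOf σ - 1) = 1)]
  exact S.pow_mem h _

theorem perms_eq : perms (F := F) (ω := ω) = (alternatingGroup (Fin 6) : Set (Equiv.Perm (Fin 6))) := by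
  set P := perms (F := F) (ω := ω)
  set s : Equiv.Perm (Fin 6) := Equiv.swap 0 1
  have hs : s * s = 1 := Equiv.swap_mul_self _ _
  have hpair : ∀ x y : Fin 6, x ≠ y → Equiv.swap x y * s ∈ P := by
    intro x y hxy
    rcases lt_or_gt_of_ne hxy with h | h
    · obtain ⟨b, c, d, e, f, hg⟩ := pair_model x y h
      exact mem_perms_of_good hF hω hg
    · obtain ⟨b, c, d, e, f, hg⟩ := pair_model y x h
      rw [Equiv.swap_comm]
      exact mem_perms_of_good hF hω hg
  have hnot : s ∉ P := by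
    rintro ⟨c, hc⟩
    obtain ⟨d, hd⟩ := exists_exp hF hω c
    have h := (pres_iff hF hω s c d hd).1 hc
    have e : d = ![d 0, d 1, d 2, d 3, d 4, d 5] := by funext i; fin_cases i <;> rfl
    rw [e, swap_model] at h
    exact Bool.false_ne_true h
  have hall : ∀ σ : Equiv.Perm (Fin 6), (Equiv.Perm.sign σ = 1 → σ ∈ P) ∧
      (Equiv.Perm.sign σ = -1 → s * σ ∈ P) := fun σ => by
    induction σ using Equiv.Perm.swap_induction_on with
    | one => exact ⟨fun _ => perms_one hF hω, fun h => absurd h (by simp)⟩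
    | swap_mul τ x y hxy ih =>
      rw [map_mul, Equiv.Perm.sign_swap hxy, neg_one_mul]
      refine ⟨fun h => ?_, fun h => ?_⟩
      · have := perms_mul hF hω (hpair x y hxy) (ih.2 (neg_eq_iff_eq_neg.1 h))
        simpa [mul_assoc, ← mul_assoc s s, hs] using this
      · have h1 := perms_inv hF hω (hpair x y hxy)
        have := perms_mul hF hω h1 (ih.1 (neg_inj.1 h))
        simpa [s, mul_inv_rev, mul_assoc] using this
  ext σ
  rw [SetLike.mem_coe, Equiv.Perm.mem_alternatingGroup]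
  refine ⟨fun h => (Int.units_eq_one_or _).resolve_right fun h' => hnot ?_, (hall σ).1⟩
  have := perms_mul hF hω ((hall σ).2 h') (perms_inv hF hω h)
  simpa using this

theorem diag (c : Fin 6 → Fˣ)
    (h : ∀ x ∈ Cfsg.hexacode F ω, Cfsg.monomialMap 1 c x ∈ Cfsg.hexacode F ω) (i j : Fin 6) :
    c i = c j := by
  obtain ⟨d, hd⟩ := exists_exp hF hω c
  have hg := (pres_iff hF hω 1 c d hd).1 h
  have e : d = ![d 0, d 1, d 2, d 3, d 4, d 5] := by funext k; fin_cases k <;> rfl
  rw [e] at hg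
  obtain ⟨h1, h2, h3, h4, h5⟩ := diag_model _ _ _ _ _ _ hg
  have all : ∀ k, d k = d 0 := fun k => by
    fin_cases k
    exacts [rfl, h1.symm, h2.symm, h3.symm, h4.symm, h5.symm]
  exact Units.ext (by rw [hd, hd, all i, all j])

theorem card_aut : Nat.card {f : Equiv.Perm (Fin 6) × (Fin 6 → Fˣ) //
    (∀ x ∈ Cfsg.hexacode F ω, Cfsg.monomialMap f.1 f.2 x ∈ Cfsg.hexacode F ω)} = 1080 := by
  classical
  have hP := perms_eq hF hω
  let P := perms (F := F) (ω := ω)
  let wit : ∀ σ : P, Fin 6 → Fˣ := fun σ => σ.2.choose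
  have hw : ∀ σ : P, ∀ x ∈ Cfsg.hexacode F ω,
      Cfsg.monomialMap σ.1 (wit σ) x ∈ Cfsg.hexacode F ω := fun σ => σ.2.choose_spec
  let g : P × Fˣ → {f : Equiv.Perm (Fin 6) × (Fin 6 → Fˣ) //
      (∀ x ∈ Cfsg.hexacode F ω, Cfsg.monomialMap f.1 f.2 x ∈ Cfsg.hexacode F ω)} := fun t =>
    ⟨(t.1.1, fun i => t.2 * wit t.1 i), fun x hx => by
      convert (Cfsg.hexacode F ω).smul_mem (t.2 : F) (hw t.1 x hx) using 1
      funext i; simp [Cfsg.monomialMap, mul_assoc]⟩
  have hg : Function.Bijective g := by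
    refine ⟨fun a b h => ?_, fun f => ?_⟩
    · have h1 : a.1 = b.1 := Subtype.ext (congrArg (fun f => f.1.1) h)
      refine Prod.ext h1 ?_
      have h2 := congrFun (congrArg (fun f => f.1.2) h) 0
      simpa [g, h1] using h2
    · obtain ⟨⟨σ, c⟩, hc⟩ := f
      let σ' : P := ⟨σ, c, hc⟩
      have hinj : Function.Injective (Cfsg.monomialMap σ (wit σ') : (Fin 6 → F) → Fin 6 → F) := by
        intro x y hxy
        funext i
        have := congrFun hxy (σ i)
        simpa [Cfsg.monomialMap] using this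
      have hsurj : ∀ y ∈ Cfsg.hexacode F ω, ∃ x ∈ Cfsg.hexacode F ω,
          Cfsg.monomialMap σ (wit σ') x = y := fun y hy =>
        let ⟨⟨x, hx⟩, h⟩ := Finite.surjective_of_injective
          (f := fun x : Cfsg.hexacode F ω => (⟨_, hw σ' x x.2⟩ : Cfsg.hexacode F ω))
          (fun a b h => Subtype.ext (hinj (congrArg Subtype.val h))) ⟨y, hy⟩
        ⟨x, hx, congrArg Subtype.val h⟩
      have hsc : ∀ x ∈ Cfsg.hexacode F ω,
          Cfsg.monomialMap 1 (fun i => c i * (wit σ' i)⁻¹) x ∈ Cfsg.hexacode F ω := by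
        intro y hy
        obtain ⟨x, hx, rfl⟩ := hsurj y hy
        rw [mono_comp]
        convert hc x hx using 2
        · exact one_mul σ
        · funext i
          exact inv_mul_cancel_right (c i) (wit σ' i)
      refine ⟨(σ', c 0 * (wit σ' 0)⁻¹), Subtype.ext (Prod.ext rfl (funext fun i => ?_))⟩
      have := diag hF hω _ hsc 0 i
      show c 0 * (wit σ' 0)⁻¹ * wit σ' i = c i
      rw [this, inv_mul_cancel_right]
  rw [← Nat.card_congr (Equiv.ofBijective g hg), Nat.card_prod, Nat.card_units,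
    Nat.card_eq_fintype_card (α := F), hF]
  have : Nat.card P = 360 := by
    show Nat.card ↥(perms (F := F) (ω := ω)) = 360
    rw [hP]
    have h := two_mul_nat_card_alternatingGroup (α := Fin 6)
    rw [Nat.card_perm, Nat.card_eq_fintype_card (α := Fin 6), Fintype.card_fin] at h
    have h6 : (6 : ℕ).factorial = 720 := rfl
    show Nat.card ↥(alternatingGroup (Fin 6)) = 360
    omega
  rw [this]

end

end Cfsg.Agent.SporStructure.Hexacode
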