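import Cfsg.Agent.SporStructure.Fischer

/-!
A commuting set of transpositions of maximal size: its normaliser contains a Sylow 2-subgroup and is
doubly transitive on it.
-/

set_option autoImplicit false
set_option linter.all false

namespace Cfsg.Agent.SporStructure

open Subgroup

variable {G : Type*} [Group G] {D : Set G}

theorem ttc_two_subgroup_commute [Finite G] (hD : Cfsg.IsThreeTranspositionClass D) {Q : Subgroup G}
    (hQ : IsPGroup 2 Q) {a b : G} (ha : a ∈ D) (hb : b ∈ D) (haQ : a ∈ Q) (hbQ : b ∈ Q) :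
    Commute a b := by
  by_contra h
  rcases hD.1.2 a ha b hb with h2 | h3
  · apply h
    rw [pow_two] at h2
    have h' := eq_inv_of_mul_eq_one_left h2
    rw [mul_inv_rev, ttc_inv hD ha, ttc_inv hD hb] at h'
    exact h'
  · obtain ⟨k, hk⟩ := hQ ⟨a * b, mul_mem haQ hbQ⟩
    have hk' : (a * b) ^ (2 ^ k) = 1 := by simpa [Subtype.ext_iff] using hk
    have : orderOf (a * b) ∣ Nat.gcd (2 ^ k) 3 :=
      Nat.dvd_gcd (orderOf_dvd_of_pow_eq_one hk') (orderOf_dvd_of_pow_eq_one h3)
    rw [show Nat.gcd (2 ^ k) 3 = 1 from (Nat.Coprime.pow_left k (by norm_num))] at this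
    have h1 := orderOf_eq_one_iff.1 (Nat.dvd_one.1 this)
    have := eq_inv_of_mul_eq_one_left h1
    rw [ttc_inv hD hb] at this
    exact h (this ▸ Commute.refl a)

theorem max_commuting_normalizer [Finite G] (hsol : NoSolvableNormal G)
    (hD : Cfsg.IsThreeTranspositionClass D) {E : Set G} (hE : E ⊆ D)
    (hc : ∀ a ∈ E, ∀ b ∈ E, Commute a b)
    (hmax : ∀ E' : Set G, E' ⊆ D → (∀ a ∈ E', ∀ b ∈ E', Commute a b) → E'.ncard ≤ E.ncard) :
    (∃ P : Sylow 2 G, (P : Subgroup G) ≤ normalizer E) ∧ ∀ a ∈ E, ∀ b ∈ E, ∀ c ∈ E, ∀ d ∈ E,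
      a ≠ b → c ≠ d → ∃ g ∈ normalizer E, g * a * g⁻¹ = c ∧ g * b * g⁻¹ = d := by
  haveI : Fact (Nat.Prime 2) := ⟨Nat.prime_two⟩
  have hpgroup : IsPGroup 2 (closure E) := by
    intro ⟨x, hx⟩
    refine ⟨1, Subtype.ext ?_⟩
    simp only [SubmonoidClass.coe_pow, pow_one, OneMemClass.coe_one]
    have h1 : closure E ≤ centralizer E := (closure_le _).2 fun u hu =>
      mem_centralizer_iff.2 fun v hv => (hc v hv u hu).eq
    have h2 : closure E ≤ centralizer (closure E : Set G) := (closure_le _).2 fun u hu =>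
      mem_centralizer_iff.2 fun v hv => (mem_centralizer_iff.1 (h1 hv) u hu).symm
    induction hx using Subgroup.closure_induction with
    | mem y hy => rw [pow_two]; exact ttc_sq hD (hE hy)
    | one => simp
    | mul y z hy hz ihy ihz =>
      have h' : Commute y z := mem_centralizer_iff.1 (h2 hz) y hy
      rw [h'.mul_pow, ihy, ihz, one_mul]
    | inv y hy ih => rw [inv_pow, ih, inv_one]
  have hfix : ∀ Q : Subgroup G, IsPGroup 2 Q → E ⊆ Q → D ∩ (Q : Set G) = E := by
    intro Q hQ hEQ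
    refine (Set.eq_of_subset_of_ncard_le (s := E) (t := D ∩ (Q : Set G)) (fun a ha => ⟨hE ha, hEQ ha⟩) (hmax _ Set.inter_subset_left
      fun a ha b hb => ttc_two_subgroup_commute hD hQ ha.1 hb.1 ha.2 hb.2) (Set.toFinite _)).symm
  refine ⟨?_, ?_⟩
  · obtain ⟨P, hP⟩ := hpgroup.exists_le_sylow
    refine ⟨P, fun g hg => ?_⟩
    have hEP := hfix P P.isPGroup' (fun a ha => hP (subset_closure ha))
    rw [mem_set_normalizer_iff]
    intro h
    rw [← hEP]
    constructor
    · rintro ⟨h1, h2⟩; exact ⟨ttc_cnj hD g h1, mul_mem (mul_mem hg h2) (inv_mem hg)⟩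
    · rintro ⟨h1, h2⟩
      refine ⟨?_, ?_⟩
      · have := ttc_cnj hD g⁻¹ h1
        simpa [cnj, mul_assoc] using this
      · have h3 : g⁻¹ * (g * h * g⁻¹) * g ∈ (P : Subgroup G) := mul_mem (mul_mem (inv_mem hg) h2) hg
        rw [show g⁻¹ * (g * h * g⁻¹) * g = h by group] at h3
        exact h3
  · intro a ha b hb c hcE d hdE hab hcd
    obtain ⟨g₀, hg₀⟩ := ttc_trans hD (hE ha) (hE hcE)
    have hb' : cnj g₀ b ∈ Dperp D c := by
      rw [← hg₀]
      exact mem_Dperp_cnj hD g₀ ⟨hE hb, hab.symm, hc a ha b hb⟩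
    have hd' : d ∈ orb D c (cnj g₀ b) := by
      rw [dperp_transitive hsol hD (hE hcE) hb']
      exact ⟨hE hdE, hcd.symm, hc c hcE d hdE⟩
    obtain ⟨h, hh, hhb⟩ := hd'
    set g := h * g₀ with hg
    have hga : cnj g a = c := by
      rw [hg, cnj_mul, hg₀, cnj_commute_fix]
      exact mem_centralizer_singleton_iff.1 (closure_Dperp_le_centralizer D c hh)
    have hgb : cnj g b = d := by rw [hg, cnj_mul, hhb]
    let C : Subgroup G := centralizer {c, d}
    let E' : Set G := cnj g '' E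
    have hmemC : ∀ S : Set G, c ∈ S → d ∈ S → (∀ u ∈ S, ∀ v ∈ S, Commute u v) → S ⊆ C := by
      intro S h1 h2 h3 u hu
      rw [SetLike.mem_coe, mem_centralizer_iff]
      rintro v (rfl | rfl)
      · exact (h3 _ h1 u hu).eq
      · exact (h3 _ h2 u hu).eq
    have hEC : closure E ≤ C := (closure_le _).2 (hmemC E hcE hdE hc)
    have hE'C : closure E' ≤ C := by
      refine (closure_le _).2 (hmemC E' ⟨a, ha, hga⟩ ⟨b, hb, hgb⟩ ?_)
      rintro _ ⟨u, hu, rfl⟩ _ ⟨v, hv, rfl⟩
      exact (cnj_commute_iff g u v).2 (hc u hu v hv)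
    have hp' : IsPGroup 2 (closure E') := by
      have : closure E' = (closure E).map (MulAut.conj g).toMonoidHom := by
        rw [MonoidHom.map_closure]; rfl
      rw [this]
      exact hpgroup.map _
    obtain ⟨P, hP⟩ := (hpgroup.comap_of_injective C.subtype C.subtype_injective).exists_le_sylow
    obtain ⟨P', hP'⟩ := (hp'.comap_of_injective C.subtype C.subtype_injective).exists_le_sylow
    obtain ⟨k, hk⟩ := MulAction.exists_smul_eq C P' P
    let Q : Subgroup G := (P : Subgroup C).map C.subtype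
    have hQp : IsPGroup 2 Q := P.isPGroup'.map _
    have hEQ : E ⊆ Q := fun u hu =>
      ⟨⟨u, hEC (subset_closure hu)⟩, hP (show (⟨u, _⟩ : C) ∈ (closure E).comap C.subtype from subset_closure hu), rfl⟩
    have hQE : D ∩ (Q : Set G) = E := hfix Q hQp hEQ
    have hkg : ∀ u ∈ E, cnj ((k : G) * g) u ∈ E := by
      intro u hu
      rw [← hQE]
      refine ⟨ttc_cnj hD _ (hE hu), ?_⟩
      have h1 : cnj g u ∈ closure E' := subset_closure ⟨u, hu, rfl⟩
      have h2 : (⟨cnj g u, hE'C h1⟩ : C) ∈ (P' : Subgroup C) := hP' h1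
      refine ⟨k * ⟨cnj g u, hE'C h1⟩ * k⁻¹, ?_, by simp [cnj, mul_assoc]⟩
      rw [← hk]
      exact ⟨⟨cnj g u, hE'C h1⟩, h2, rfl⟩
    have hk' : ∀ v ∈ ({c, d} : Set G), Commute (k : G) v := fun v hv =>
      (show Commute v (k : G) from mem_centralizer_iff.1 k.2 v hv).symm
    refine ⟨(k : G) * g, ?_, ?_, ?_⟩
    · exact Subgroup.mem_normalizer_fintype hkg
    · show cnj _ a = c
      rw [cnj_mul, hga, cnj_commute_fix (hk' c (Or.inl rfl))]
    · show cnj _ b = d
      rw [cnj_mul, hgb, cnj_commute_fix (hk' d (Or.inr rfl))]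

end Cfsg.Agent.SporStructure
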