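import Cfsg.Agent.Lib.Coprime.Action

/-!
Involution classes all whose pairwise products have `p`-power order, reduced to Glauberman's Z*.

The conclusion of the Z*-theorem is taken as a hypothesis; the rest is a Sylow argument.
-/

set_option autoImplicit false
set_option linter.all false

namespace Cfsg.Agent.SporStructure

open Subgroup

variable {G : Type*} [Group G]

/-- If every two members of a conjugation invariant set of involutions generated by conjugates of
`x` have product of `p`-power order and `x` is central modulo an odd normal subgroup, then all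
products lie in a normal `p`-subgroup. -/
theorem products_mem_pSubgroup [Finite G] {p : ℕ} [Fact p.Prime] (hp2 : p ≠ 2) {D : Set G}
    {x : G} (hxD : x ∈ D) (hx : orderOf x = 2) (hD : D = conjugatesOf x) (hgen : closure D = ⊤)
    (hprod : ∀ a ∈ D, ∀ b ∈ D, ∃ k : ℕ, orderOf (a * b) = p ^ k)
    (hZ : ∃ N : Subgroup G, N.Normal ∧ Odd (Nat.card N) ∧ ∀ g : G, x * g * x⁻¹ * g⁻¹ ∈ N) :
    ∃ P : Subgroup G, P.Normal ∧ IsPGroup p P ∧ ∀ a ∈ D, ∀ b ∈ D, a * b ∈ P := by
  obtain ⟨N, hN, hodd, hcomm⟩ := hZ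
  have hxx : x * x = 1 := by
    have := pow_orderOf_eq_one x
    rwa [hx, pow_two] at this
  have hxi : x⁻¹ = x := inv_eq_of_mul_eq_one_left hxx
  have hconj : ∀ g : G, g * x * g⁻¹ ∈ D := fun g => by
    rw [hD]; exact isConj_iff.2 ⟨g, rfl⟩
  let A : Subgroup G := zpowers x
  have hAN : A ≤ normalizer (N : Set G) := by
    rw [Subgroup.normalizer_eq_top_iff.2 hN]; exact le_top
  have hcop : (Nat.card A).Coprime (Nat.card N) := by
    rw [Nat.card_zpowers, hx]
    exact hodd.coprime_two_left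
  haveI : Group.IsSolvable A := Group.isSolvable_of_comm fun a b => Subtype.ext (Commute.eq (by
    obtain ⟨i, hi⟩ := a.2; obtain ⟨j, hj⟩ := b.2
    show Commute (a : G) (b : G)
    rw [← hi, ← hj]; exact (Commute.refl x).zpow_zpow i j))
  let C : Subgroup N := (centralizer ({x} : Set G)).subgroupOf N
  have hxnorm : ∀ q [Fact q.Prime], ∃ Q : Sylow q N,
      ∀ a : N, a ∈ (Q : Subgroup N) → (⟨x * (a : G) * x⁻¹, hN.conj_mem _ a.2 x⟩ : N) ∈ (Q : Subgroup N) := by
    intro q _
    obtain ⟨Q, hQ⟩ := Cfsg.Agent.Coprime.exists_invariant_sylow A N hAN hcop (Or.inl inferInstance) q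
    refine ⟨Q, fun a ha => ?_⟩
    have h1 := (mem_normalizer_iff.1 (hQ (mem_zpowers x)) (a : G)).1 ⟨a, ha, rfl⟩
    obtain ⟨b, hb, hbe⟩ := h1
    have : b = (⟨x * (a : G) * x⁻¹, hN.conj_mem _ a.2 x⟩ : N) := Subtype.ext hbe
    exact this ▸ hb
  -- away from `p` an invariant Sylow subgroup centralises `x`
  have hsyl : ∀ q [Fact q.Prime], q ≠ p → ¬ q ∣ C.index := by
    intro q _ hqp
    obtain ⟨Q, hQ⟩ := hxnorm q
    have hQC : (Q : Subgroup N) ≤ C := by
      intro a ha
      let e : N := a * (⟨x * (a : G) * x⁻¹, hN.conj_mem _ a.2 x⟩ : N)⁻¹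
      have he : e ∈ (Q : Subgroup N) := mul_mem ha (inv_mem (hQ a ha))
      obtain ⟨k, hk⟩ := Q.isPGroup' ⟨e, he⟩
      have hk' : (e : G) ^ (q ^ k) = 1 := by
        simpa [Subtype.ext_iff] using hk
      have hev : (e : G) = (a : G) * x * (a : G)⁻¹ * x := by
        show (a : G) * (x * (a : G) * x⁻¹)⁻¹ = _
        simp [mul_assoc, hxi]
      obtain ⟨j, hj⟩ := hprod _ (hconj a) _ hxD
      rw [← hev] at hj
      have hdvd : orderOf (e : G) ∣ Nat.gcd (q ^ k) (p ^ j) :=
        Nat.dvd_gcd (orderOf_dvd_of_pow_eq_one hk') (hj ▸ dvd_rfl)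
      have hcop' : Nat.Coprime (q ^ k) (p ^ j) :=
        Nat.Coprime.pow k j ((Nat.coprime_primes Fact.out Fact.out).2 hqp)
      rw [hcop'.gcd_eq_one] at hdvd
      have he1 := orderOf_eq_one_iff.1 (Nat.dvd_one.1 hdvd)
      rw [hev] at he1
      show (a : G) ∈ centralizer ({x} : Set G)
      rw [mem_centralizer_singleton_iff]
      have := eq_inv_of_mul_eq_one_left he1
      rw [hxi, mul_inv_eq_iff_eq_mul] at this
      exact this
    exact fun h => Q.not_dvd_index (h.trans (Subgroup.index_dvd_of_le hQC))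
  obtain ⟨P, hP⟩ := hxnorm p
  -- `P` meets every coset of `C`
  have hcover : ∀ a : N, ∃ b : N, b ∈ (P : Subgroup N) ∧ b⁻¹ * a ∈ C := by
    have hpp : ∀ q : ℕ, q.Prime → q ∣ C.index → q = p := by
      intro q hq hd
      by_contra h
      exact @hsyl q ⟨hq⟩ h hd
    have hcop' : Nat.Coprime C.index (P : Subgroup N).index := by
      apply Nat.coprime_of_dvd
      intro q hq h1 h2
      exact P.not_dvd_index (hpp q hq h1 ▸ h2)
    have h1 : C.index ∣ C.relIndex (P : Subgroup N) := by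
      have h2 : C.index ∣ (C ⊓ (P : Subgroup N)).index := Subgroup.index_dvd_of_le inf_le_left
      rw [← Subgroup.relIndex_mul_index (inf_le_right : C ⊓ (P : Subgroup N) ≤ P),
        Subgroup.inf_relIndex_right] at h2
      exact hcop'.dvd_of_dvd_mul_right h2
    let f : (P : Subgroup N) ⧸ C.subgroupOf (P : Subgroup N) → N ⧸ C :=
      Quotient.map' Subtype.val (fun u v h => by
          rw [QuotientGroup.leftRel_apply] at h ⊢
          exact h)
    have hinj : Function.Injective f := by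
      intro u v
      induction u using QuotientGroup.induction_on with
      | H u =>
        induction v using QuotientGroup.induction_on with
        | H v =>
          intro h
          have h' : ((u : N) : N ⧸ C) = ((v : N) : N ⧸ C) := h
          rw [QuotientGroup.eq] at h' ⊢
          exact h'
    have hsurj : Function.Surjective f := by
      have hpos : C.relIndex (P : Subgroup N) ≠ 0 := Subgroup.index_ne_zero_of_finite
      have hle := Nat.le_of_dvd (Nat.pos_of_ne_zero hpos) h1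
      refine ((Nat.bijective_iff_injective_and_card f).2 ⟨hinj, le_antisymm ?_ hle⟩).2
      exact Nat.card_le_card_of_injective f hinj
    intro a
    obtain ⟨b, hb⟩ := hsurj (a : N ⧸ C)
    induction b using QuotientGroup.induction_on with
    | H b =>
      refine ⟨b, b.2, ?_⟩
      have h' : ((b : N) : N ⧸ C) = (a : N ⧸ C) := hb
      exact QuotientGroup.eq.1 h'
  let R : Subgroup G := (P : Subgroup N).map N.subtype
  have hxR : ∀ r ∈ R, x * r * x⁻¹ ∈ R := by
    rintro _ ⟨b, hb, rfl⟩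
    exact ⟨_, hP b hb, rfl⟩
  have hprodN : ∀ a ∈ N, a * x * a⁻¹ * x ∈ R := by
    intro a ha
    obtain ⟨b, hb, hbc⟩ := hcover ⟨a, ha⟩
    have hc : (b : G)⁻¹ * a * x = x * ((b : G)⁻¹ * a) := mem_centralizer_singleton_iff.1 hbc
    have h1 : a * x * a⁻¹ * x = (b : G) * (x * (b : G)⁻¹ * x) := by
      calc a * x * a⁻¹ * x = (b : G) * ((b : G)⁻¹ * a * x) * a⁻¹ * x := by group
        _ = _ := by rw [hc]; group
    rw [h1]
    refine mul_mem ⟨b, hb, rfl⟩ ?_
    have := hxR (b : G)⁻¹ (inv_mem ⟨b, hb, rfl⟩)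
    rwa [hxi] at this
  have hdiv : ∀ g : G, g * x * g⁻¹ * x ∈ R := by
    intro g
    have hg : g ∈ N ⊔ A := by
      have : closure D ≤ N ⊔ A := by
        refine (closure_le _).2 fun d hd => ?_
        rw [hD] at hd
        obtain ⟨k, rfl⟩ := isConj_iff.1 hd
        have h1 : k * x * k⁻¹ * x⁻¹ ∈ N := by
          have := inv_mem (hcomm k)
          simpa [mul_assoc] using this
        have : k * x * k⁻¹ = (k * x * k⁻¹ * x⁻¹) * x := by group
        rw [SetLike.mem_coe, this]
        exact mul_mem_sup h1 (mem_zpowers x)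
      rw [hgen] at this
      exact this (mem_top g)
    haveI := hN
    obtain ⟨a, ha, y, hy, rfl⟩ := Subgroup.mem_sup_of_normal_left.1 hg
    obtain ⟨j, rfl⟩ := hy
    have : a * x ^ j * x * (a * x ^ j)⁻¹ * x = a * x * a⁻¹ * x := by
      have hc : x ^ j * x * (x ^ j)⁻¹ = x := by rw [((Commute.refl x).zpow_left j).eq]; group
      rw [mul_inv_rev]
      calc a * x ^ j * x * ((x ^ j)⁻¹ * a⁻¹) * x = a * (x ^ j * x * (x ^ j)⁻¹) * a⁻¹ * x := by group
        _ = _ := by rw [hc]
    rw [this]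
    exact hprodN a ha
  have hDR : ∀ d ∈ D, d * x ∈ R := by
    intro d hd
    rw [hD] at hd
    obtain ⟨g, rfl⟩ := isConj_iff.1 hd
    exact hdiv g
  have hpair : ∀ a ∈ D, ∀ b ∈ D, a * b ∈ R := by
    intro a ha b hb
    have h1 := hxR _ (hDR a ha)
    have h2 := hxR _ (inv_mem (hDR b hb))
    have hbb : b⁻¹ = b := by
      rw [hD] at hb
      obtain ⟨g, rfl⟩ := isConj_iff.1 hb
      simp [mul_assoc, hxi]
    have : a * b = (a * x) * (x * b) := by rw [← mul_assoc, mul_assoc a x x, hxx, mul_one]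
    rw [this]
    refine mul_mem (hDR a ha) ?_
    have h3 := inv_mem (hDR b hb)
    rwa [mul_inv_rev, hxi, hbb] at h3
  let W : Subgroup G := closure {u | ∃ a ∈ D, ∃ b ∈ D, u = a * b}
  have hWR : W ≤ R := (closure_le _).2 (by rintro _ ⟨a, ha, b, hb, rfl⟩; exact hpair a ha b hb)
  refine ⟨W, ⟨?_⟩, (P.isPGroup'.map N.subtype).to_le hWR, fun a ha b hb => subset_closure ⟨a, ha, b, hb, rfl⟩⟩
  intro n hn g
  have : W.map (MulAut.conj g).toMonoidHom ≤ W := by
    rw [MonoidHom.map_closure]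
    refine closure_mono ?_
    rintro _ ⟨_, ⟨a, ha, b, hb, rfl⟩, rfl⟩
    have hc : ∀ c ∈ D, g * c * g⁻¹ ∈ D := fun c hc => by
      rw [hD] at hc ⊢
      exact IsConj.trans hc (isConj_iff.2 ⟨g, rfl⟩)
    exact ⟨_, hc a ha, _, hc b hb, by simp [mul_assoc]⟩
  exact this ⟨n, hn, rfl⟩

/-- The derived subgroup of a group generated by a class of involutions lies in any normal
subgroup containing the pairwise products. -/
theorem commutator_le_of_products {D : Set G} {x : G} (hxD : x ∈ D) (hgen : closure D = ⊤)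
    {P : Subgroup G} (hPn : P.Normal) (hP : ∀ a ∈ D, ∀ b ∈ D, a * b ∈ P) :
    commutator G ≤ P := by
  have hall : ∀ g : G, ∃ k : ℤ, (g : G ⧸ P) = (x : G ⧸ P) ^ k := by
    intro g
    have : closure D ≤ (zpowers (x : G ⧸ P)).comap (QuotientGroup.mk' P) := by
      refine (closure_le _).2 fun d hd => ?_
      refine ⟨-1, ?_⟩
      show (x : G ⧸ P) ^ (-1 : ℤ) = (d : G ⧸ P)
      rw [zpow_neg_one, inv_eq_iff_mul_eq_one, ← QuotientGroup.mk_mul]
      exact (QuotientGroup.eq_one_iff _).2 (hP x hxD d hd)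
    rw [hgen] at this
    obtain ⟨k, hk⟩ := this (mem_top g)
    exact ⟨k, hk.symm⟩
  rw [_root_.commutator_def, commutator_le]
  intro a _ b _
  rw [← QuotientGroup.eq_one_iff]
  show QuotientGroup.mk' P _ = 1
  rw [map_commutatorElement, commutatorElement_eq_one_iff_commute]
  obtain ⟨i, hi⟩ := hall a
  obtain ⟨j, hj⟩ := hall b
  show Commute (a : G ⧸ P) (b : G ⧸ P)
  rw [hi, hj]
  exact (Commute.refl _).zpow_zpow i j

end Cfsg.Agent.SporStructure

namespace Cfsg.Agent.SporStructure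

/-- Pairwise `p`-power products make an involution isolated in each Sylow 2-subgroup containing it. -/
theorem exists_isolated_sylow {G : Type*} [Group G] [Finite G] {p : ℕ} [Fact p.Prime] (hp2 : p ≠ 2)
    {x : G} (hx : orderOf x = 2)
    (hprod : ∀ a ∈ conjugatesOf x, ∀ b ∈ conjugatesOf x, ∃ k : ℕ, orderOf (a * b) = p ^ k) :
    ∃ P : Sylow 2 G, x ∈ P ∧ ∀ g : G, g * x * g⁻¹ ∈ P → g * x * g⁻¹ = x := by
  haveI : Fact (Nat.Prime 2) := ⟨Nat.prime_two⟩
  have hz : IsPGroup 2 (Subgroup.zpowers x) :=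
    IsPGroup.of_card (n := 1) (by rw [Nat.card_zpowers, hx, pow_one])
  obtain ⟨P, hP⟩ := hz.exists_le_sylow
  refine ⟨P, hP (Subgroup.mem_zpowers x), fun g hg => ?_⟩
  obtain ⟨k, hk⟩ := hprod _ (isConj_iff.2 ⟨g, rfl⟩) x mem_conjugatesOf_self
  obtain ⟨j, hj⟩ := P.isPGroup' ⟨_, mul_mem hg (hP (Subgroup.mem_zpowers x))⟩
  have hj' : (g * x * g⁻¹ * x) ^ (2 ^ j) = 1 := by simpa [Subtype.ext_iff] using hj
  have hdvd : orderOf (g * x * g⁻¹ * x) ∣ Nat.gcd (2 ^ j) (p ^ k) :=
    Nat.dvd_gcd (orderOf_dvd_of_pow_eq_one hj') (hk ▸ dvd_rfl)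
  rw [(Nat.Coprime.pow j k ((Nat.coprime_primes Nat.prime_two Fact.out).2 (Ne.symm hp2))).gcd_eq_one]
    at hdvd
  have h1 := orderOf_eq_one_iff.1 (Nat.dvd_one.1 hdvd)
  have h2 := eq_inv_of_mul_eq_one_left h1
  have hxi : x⁻¹ = x := inv_eq_of_mul_eq_one_left (by
    have := pow_orderOf_eq_one x
    rwa [hx, pow_two] at this)
  rwa [hxi] at h2

end Cfsg.Agent.SporStructure

namespace Cfsg.Agent.SporStructure

/-- In the group generated by the whole class the conclusion of `Z*` gives a normal `p`-subgroup of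
the ambient group containing all products. -/
theorem exists_pSubgroup_of_closure {G : Type*} [Group G] [Finite G] {p : ℕ} [Fact p.Prime]
    (hp2 : p ≠ 2) {d : G} (hd : orderOf d = 2)
    (hprod : ∀ a ∈ conjugatesOf d, ∀ b ∈ conjugatesOf d, ∃ k : ℕ, orderOf (a * b) = p ^ k)
    (hZ : ∃ N : Subgroup (Subgroup.closure (conjugatesOf d)), N.Normal ∧ Odd (Nat.card N) ∧
      ∀ g : Subgroup.closure (conjugatesOf d),
        (⟨d, Subgroup.subset_closure mem_conjugatesOf_self⟩ : Subgroup.closure (conjugatesOf d)) * g *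
          (⟨d, Subgroup.subset_closure mem_conjugatesOf_self⟩ : Subgroup.closure (conjugatesOf d))⁻¹ *
          g⁻¹ ∈ N) :
    ∃ W : Subgroup G, W.Normal ∧ IsPGroup p W ∧
      ∀ a ∈ conjugatesOf d, ∀ b ∈ conjugatesOf d, a * b ∈ W := by
  set H : Subgroup G := Subgroup.closure (conjugatesOf d) with hH
  let x : H := ⟨d, Subgroup.subset_closure mem_conjugatesOf_self⟩
  obtain ⟨N, hN, hodd, hcomm⟩ := hZ
  -- any conjugate of `d` lies in the coset `N x`, hence is conjugate to `x` within `H`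
  have hDH : ∀ a ∈ conjugatesOf d, a ∈ H := fun a ha => Subgroup.subset_closure ha
  have hconjH : ∀ a : H, (a : G) ∈ conjugatesOf d → IsConj x a := by
    intro a ha
    obtain ⟨k, hk⟩ := hprod _ ha d mem_conjugatesOf_self
    have ha2 : (a : G) * a = 1 := by
      obtain ⟨g, hg⟩ := isConj_iff.1 ha
      have hd2 : d * d = 1 := by
        have := pow_orderOf_eq_one d
        rwa [hd, pow_two] at this
      rw [← hg]
      calc g * d * g⁻¹ * (g * d * g⁻¹) = g * (d * d) * g⁻¹ := by group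
        _ = 1 := by rw [hd2]; group
    have hx2 : x * x = 1 := Subtype.ext (by
      have := pow_orderOf_eq_one d
      rwa [hd, pow_two] at this)
    have ha2' : a * a = 1 := Subtype.ext ha2
    have hxi : x⁻¹ = x := inv_eq_of_mul_eq_one_left hx2
    have hai : a⁻¹ = a := inv_eq_of_mul_eq_one_left ha2'
    -- an element of odd order has a square root among its powers
    obtain ⟨m, hm⟩ : ∃ m : ℕ, p ^ k = 2 * m + 1 :=
      ((Nat.Prime.odd_of_ne_two Fact.out hp2).pow)
    have hu : (a * x) ^ (2 * m + 1) = 1 := by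
      rw [← hm, ← hk]
      apply Subtype.ext
      rw [SubmonoidClass.coe_pow]
      exact pow_orderOf_eq_one ((a : G) * d)
    refine isConj_iff.2 ⟨(a * x) ^ (m + 1), ?_⟩
    set u := a * x
    have hux : x * u * x = u⁻¹ := by
      simp only [u, mul_inv_rev, hxi, hai]
      calc x * (a * x) * x = x * a * (x * x) := by group
        _ = x * a := by rw [hx2, mul_one]
    have hpow : x * u ^ (m + 1) * x = (u ^ (m + 1))⁻¹ := by
      rw [← inv_pow, ← hux]
      conv_lhs => rw [show x * u ^ (m + 1) * x = x * u ^ (m + 1) * x⁻¹ by rw [hxi]]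
      rw [← conj_pow, hxi]
    calc u ^ (m + 1) * x * (u ^ (m + 1))⁻¹ = u ^ (m + 1) * (x * (x * u ^ (m + 1) * x)) := by
          rw [hpow]; group
      _ = u ^ (m + 1) * ((x * x) * (u ^ (m + 1) * x)) := by group
      _ = u ^ (2 * m + 1) * u * x := by rw [hx2, one_mul]; group
      _ = a := by rw [hu, one_mul, mul_assoc, hx2, mul_one]
  have hsub : ∀ a : H, a ∈ conjugatesOf x → (a : G) ∈ conjugatesOf d := fun a ha =>
    MonoidHom.map_isConj H.subtype ha
  have hord : orderOf x = 2 := by rw [← Subgroup.orderOf_coe]; exact hd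
  have hgen : Subgroup.closure (conjugatesOf x) = ⊤ := by
    apply Subgroup.map_injective H.subtype_injective
    rw [MonoidHom.map_closure, ← MonoidHom.range_eq_map, Subgroup.range_subtype]
    apply le_antisymm
    · refine (Subgroup.closure_le _).2 ?_
      rintro _ ⟨a, _, rfl⟩; exact a.2
    · refine Subgroup.closure_mono ?_
      intro a ha
      exact ⟨⟨a, hDH a ha⟩, hconjH ⟨a, hDH a ha⟩ ha, rfl⟩
  obtain ⟨P, hPn, hP, hPD⟩ := products_mem_pSubgroup hp2 (D := conjugatesOf x) mem_conjugatesOf_self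
    hord rfl hgen (fun a ha b hb => by
      obtain ⟨k, hk⟩ := hprod _ (hsub a ha) _ (hsub b hb)
      exact ⟨k, by rw [← Subgroup.orderOf_coe]; exact hk⟩) ⟨N, hN, hodd, hcomm⟩
  let W : Subgroup G := Subgroup.closure {u | ∃ a ∈ conjugatesOf d, ∃ b ∈ conjugatesOf d, u = a * b}
  refine ⟨W, ⟨fun n hn g => ?_⟩, (hP.map H.subtype).to_le ((Subgroup.closure_le _).2 ?_),
    fun a ha b hb => Subgroup.subset_closure ⟨a, ha, b, hb, rfl⟩⟩
  · have : W.map (MulAut.conj g).toMonoidHom ≤ W := by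
      rw [MonoidHom.map_closure]
      refine Subgroup.closure_mono ?_
      rintro _ ⟨_, ⟨a, ha, b, hb, rfl⟩, rfl⟩
      exact ⟨g * a * g⁻¹, IsConj.trans ha (isConj_iff.2 ⟨g, rfl⟩), g * b * g⁻¹,
        IsConj.trans hb (isConj_iff.2 ⟨g, rfl⟩), by simp [mul_assoc]⟩
    exact this ⟨n, hn, rfl⟩
  · rintro _ ⟨a, ha, b, hb, rfl⟩
    exact ⟨⟨a, hDH a ha⟩ * ⟨b, hDH b hb⟩,
      hPD _ (hconjH ⟨a, hDH a ha⟩ ha) _ (hconjH ⟨b, hDH b hb⟩ hb), rfl⟩

end Cfsg.Agent.SporStructure
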