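import Cfsg.Agent.SporStructure.Poisson

/-!
Theta series of even unimodular positive definite integral forms in dimension 24.
-/

set_option autoImplicit false
set_option linter.all false

namespace Cfsg.Agent.SporStructure.Theta

open Matrix MeasureTheory Complex Set Filter ModularForm
open UpperHalfPlane hiding I
open scoped Real ComplexOrder MatrixOrder MatrixGroups Topology Manifold ModularForm ArithmeticFunction.sigma

noncomputable section

variable {n : ℕ}

/-- The hypotheses on the Gram matrix. -/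
structure EvenUnimodular (B : Matrix (Fin n) (Fin n) ℤ) : Prop where
  symm : B.IsSymm
  pos : ∀ x : Fin n → ℤ, x ≠ 0 → 0 < x ⬝ᵥ (B *ᵥ x)
  even : ∀ x : Fin n → ℤ, (2 : ℤ) ∣ x ⬝ᵥ (B *ᵥ x)
  det : B.det = 1

/-- The real matrix. -/
def real (B : Matrix (Fin n) (Fin n) ℤ) : Matrix (Fin n) (Fin n) ℝ := B.map (fun a : ℤ => (a : ℝ))

theorem real_mulVec (B : Matrix (Fin n) (Fin n) ℤ) (x : Fin n → ℤ) :
    real B *ᵥ toR x = toR (B *ᵥ x) := by
  funext i
  simp [real, toR, mulVec, dotProduct]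

theorem qf_real (B : Matrix (Fin n) (Fin n) ℤ) (x : Fin n → ℤ) :
    qf (real B) (toR x) = ((x ⬝ᵥ (B *ᵥ x) : ℤ) : ℝ) := by
  rw [qf, real_mulVec]
  simp [toR, dotProduct]

theorem qf_smul (M : Matrix (Fin n) (Fin n) ℝ) (t : ℝ) (v : Fin n → ℝ) :
    qf (t • M) v = t * qf M v := by
  simp [qf, smul_mulVec, dotProduct_smul]

theorem qf_smul_vec (M : Matrix (Fin n) (Fin n) ℝ) (t : ℝ) (v : Fin n → ℝ) :
    qf M (t • v) = t ^ 2 * qf M v := by
  simp [qf, mulVec_smul, dotProduct_smul, smul_dotProduct]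
  ring

variable {B : Matrix (Fin n) (Fin n) ℤ}

theorem EvenUnimodular.form_nonneg (h : EvenUnimodular B) (x : Fin n → ℤ) :
    0 ≤ x ⬝ᵥ (B *ᵥ x) := by
  rcases eq_or_ne x 0 with rfl | hx
  · simp
  · exact (h.pos x hx).le

theorem EvenUnimodular.qf_nonneg (h : EvenUnimodular B) (v : Fin n → ℝ) :
    0 ≤ qf (real B) v := by
  -- rational vectors are dense
  have hd : Dense (Set.range fun r : Fin n → ℚ => fun i => (r i : ℝ)) :=
    DenseRange.piMap fun _ => Rat.denseRange_cast
  have hc : IsClosed {v : Fin n → ℝ | 0 ≤ qf (real B) v} :=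
    isClosed_le continuous_const (continuous_qf _)
  have hsub : (Set.range fun r : Fin n → ℚ => fun i => (r i : ℝ)) ⊆
      {v : Fin n → ℝ | 0 ≤ qf (real B) v} := by
    rintro _ ⟨r, rfl⟩
    obtain ⟨N, hN⟩ := IsLocalization.exist_integer_multiples_of_finite
      (nonZeroDivisors ℤ) r
    choose z hz using hN
    have hN0 : ((N : ℤ) : ℝ) ≠ 0 := by
      exact_mod_cast nonZeroDivisors.coe_ne_zero N
    have e : toR z = ((N : ℤ) : ℝ) • fun i => (r i : ℝ) := by
      funext i
      have := hz i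
      simp only [algebraMap_int_eq, eq_intCast, Algebra.smul_def] at this
      have h' : ((z i : ℚ) : ℝ) = ((((N : ℤ) : ℚ) * r i : ℚ) : ℝ) := congrArg (fun q : ℚ => (q : ℝ)) this
      push_cast at h'
      simpa [toR] using h'
    have h1 := qf_real B z
    rw [e, qf_smul_vec] at h1
    have h2 : (0 : ℝ) ≤ ((z ⬝ᵥ (B *ᵥ z) : ℤ) : ℝ) := by exact_mod_cast h.form_nonneg z
    have h3 : 0 < ((N : ℤ) : ℝ) ^ 2 := by positivity
    show 0 ≤ qf _ _
    exact nonneg_of_mul_nonneg_right (h1 ▸ h2) h3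
  exact closure_minimal hsub hc (hd v)

theorem EvenUnimodular.real_symm (h : EvenUnimodular B) : (real B).IsSymm := h.symm.map _

theorem real_det (B : Matrix (Fin n) (Fin n) ℤ) : (real B).det = (B.det : ℝ) :=
  ((Int.castRingHom ℝ).map_det B).symm

theorem EvenUnimodular.posDef (h : EvenUnimodular B) : (real B).PosDef := by
  have hs : (real B).PosSemidef := by
    refine Matrix.PosSemidef.of_dotProduct_mulVec_nonneg ?_ fun v => by
      simpa [qf] using h.qf_nonneg v
    simpa [Matrix.IsHermitian, Matrix.IsSymm] using h.real_symm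
  rw [hs.posDef_iff_det_ne_zero, real_det, h.det]
  simp

theorem EvenUnimodular.posDef_smul (h : EvenUnimodular B) {t : ℝ} (ht : 0 < t) :
    (t • real B).PosDef := h.posDef.smul ht

/-- `x ↦ B x` as a bijection of integer vectors. -/
def EvenUnimodular.mulEquiv (h : EvenUnimodular B) : (Fin n → ℤ) ≃ (Fin n → ℤ) where
  toFun x := B *ᵥ x
  invFun x := B.adjugate *ᵥ x
  left_inv x := by simp [mulVec_mulVec, adjugate_mul, h.det]
  right_inv x := by simp [mulVec_mulVec, mul_adjugate, h.det]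

theorem EvenUnimodular.qf_inv (h : EvenUnimodular B) {t : ℝ} (ht : 0 < t) (x : Fin n → ℤ) :
    qf (t • real B)⁻¹ (toR (h.mulEquiv x)) = t⁻¹ * ((x ⬝ᵥ (B *ᵥ x) : ℤ) : ℝ) := by
  have hu : IsUnit (t • real B).det := isUnit_iff_ne_zero.2 (h.posDef_smul ht).det_pos.ne'
  have e : toR (h.mulEquiv x) = t⁻¹ • ((t • real B) *ᵥ toR x) := by
    show toR (B *ᵥ x) = _
    rw [← real_mulVec, smul_mulVec, smul_smul, inv_mul_cancel₀ ht.ne', one_smul]
  rw [e, qf_smul_vec, ← qf_real]
  have e2 : qf (t • real B)⁻¹ ((t • real B) *ᵥ toR x) = qf (t • real B) (toR x) := by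
    rw [qf, qf, mulVec_mulVec, Matrix.nonsing_inv_mul _ hu, one_mulVec, dotProduct_comm]
  rw [e2, qf_smul]
  field_simp

/-- The theta series as a function on the complex numbers. -/
def th (B : Matrix (Fin n) (Fin n) ℤ) (z : ℂ) : ℂ :=
  ∑' x : Fin n → ℤ, cexp (π * I * z * ((x ⬝ᵥ (B *ᵥ x) : ℤ) : ℂ))

theorem norm_term (B : Matrix (Fin n) (Fin n) ℤ) (z : ℂ) (x : Fin n → ℤ) :
    ‖cexp (π * I * z * ((x ⬝ᵥ (B *ᵥ x) : ℤ) : ℂ))‖ =
      Real.exp (-π * (z.im * qf (real B) (toR x))) := by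
  rw [Complex.norm_exp, qf_real]
  congr 1
  simp [Complex.mul_re, Complex.mul_im]
  ring

theorem EvenUnimodular.summable_re (h : EvenUnimodular B) {t : ℝ} (ht : 0 < t) :
    Summable fun x : Fin n → ℤ => Real.exp (-π * (t * qf (real B) (toR x))) := by
  simpa only [qf_smul] using summable_exp_qf (h.posDef_smul ht)

theorem EvenUnimodular.summable_term (h : EvenUnimodular B) {z : ℂ} (hz : 0 < z.im) :
    Summable fun x : Fin n → ℤ => cexp (π * I * z * ((x ⬝ᵥ (B *ᵥ x) : ℤ) : ℂ)) :=
  Summable.of_norm (by simpa only [norm_term] using h.summable_re hz)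

theorem EvenUnimodular.differentiableOn_th (h : EvenUnimodular B) :
    DifferentiableOn ℂ (th B) {z : ℂ | 0 < z.im} := by
  intro z hz
  have hz' : 0 < z.im := hz
  have ho : IsOpen {w : ℂ | z.im / 2 < w.im} := isOpen_lt continuous_const Complex.continuous_im
  have hd : DifferentiableOn ℂ (th B) {w : ℂ | z.im / 2 < w.im} :=
    differentiableOn_tsum_of_summable_norm (h.summable_re (half_pos hz')) (fun x => by fun_prop) ho
      fun x w hw => by
        rw [norm_term]
        apply Real.exp_le_exp.2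
        have h0 := h.qf_nonneg (toR x)
        have hw' : z.im / 2 < w.im := hw
        nlinarith [mul_le_mul_of_nonneg_right hw'.le h0, Real.pi_pos,
          mul_le_mul_of_nonneg_left (mul_le_mul_of_nonneg_right hw'.le h0) Real.pi_pos.le]
  exact (hd.differentiableAt (ho.mem_nhds (by show z.im / 2 < z.im; linarith))).differentiableWithinAt

theorem EvenUnimodular.th_add_one (h : EvenUnimodular B) (z : ℂ) : th B (z + 1) = th B z := by
  refine tsum_congr fun x => ?_
  obtain ⟨m, hm⟩ := h.even x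
  rw [mul_add, mul_one, add_mul, Complex.exp_add, hm]
  have : cexp (π * I * ((2 * m : ℤ) : ℂ)) = 1 := by
    rw [show (π : ℂ) * I * ((2 * m : ℤ) : ℂ) = (m : ℂ) * (2 * π * I) by push_cast; ring]
    exact Complex.exp_int_mul_two_pi_mul_I m
  rw [this, mul_one]

theorem th_axis (B : Matrix (Fin n) (Fin n) ℤ) (t : ℝ) :
    th B (I * t) = ((∑' x : Fin n → ℤ, Real.exp (-π * (t * qf (real B) (toR x))) : ℝ) : ℂ) := by
  rw [Complex.ofReal_tsum]
  refine tsum_congr fun x => ?_
  rw [Complex.ofReal_exp, qf_real]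
  congr 1
  push_cast
  linear_combination (π * t * ((x ⬝ᵥ (B *ᵥ x) : ℤ) : ℂ)) * I_sq

/-- The theta series as a function on the upper half plane. -/
def theta (B : Matrix (Fin n) (Fin n) ℤ) (τ : ℍ) : ℂ := th B τ

/-- Number of vectors of norm `2m`. -/
def rep (B : Matrix (Fin n) (Fin n) ℤ) (m : ℕ) : ℕ :=
  {x : Fin n → ℤ | x ⬝ᵥ (B *ᵥ x) = 2 * (m : ℤ)}.ncard

theorem EvenUnimodular.finite_level (h : EvenUnimodular B) (m : ℕ) :
    {x : Fin n → ℤ | x ⬝ᵥ (B *ᵥ x) = 2 * (m : ℤ)}.Finite := by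
  have hev := (h.summable_re one_pos).tendsto_cofinite_zero.eventually
    (eventually_lt_nhds (Real.exp_pos (-π * (1 * (2 * (m : ℝ))))))
  refine (Filter.eventually_cofinite.1 hev).subset fun x hx => ?_
  simp only [Set.mem_ofPred_eq] at hx ⊢
  rw [qf_real, hx]
  push_cast
  exact lt_irrefl _

theorem EvenUnimodular.rep_zero (h : EvenUnimodular B) : rep B 0 = 1 := by
  rw [rep, Set.ncard_eq_one]
  refine ⟨0, Set.ext fun x => ?_⟩
  simp only [Set.mem_ofPred_eq, Set.mem_singleton_iff, Nat.cast_zero, mul_zero]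
  refine ⟨fun hx => ?_, fun hx => by simp [hx]⟩
  by_contra hne
  exact (h.pos x hne).ne' hx

theorem EvenUnimodular.hasSum_theta (h : EvenUnimodular B) (τ : ℍ) :
    HasSum (fun m : ℕ => (rep B m : ℂ) • Function.Periodic.qParam 1 (τ : ℂ) ^ m) (theta B τ) := by
  have hs := (h.summable_term τ.im_pos).hasSum
  let g : (Fin n → ℤ) → ℕ := fun x => (x ⬝ᵥ (B *ᵥ x) / 2).toNat
  have hg := hs.tsum_fiberwise g
  refine hg.congr_fun fun m => ?_
  have hset : g ⁻¹' {m} = {x : Fin n → ℤ | x ⬝ᵥ (B *ᵥ x) = 2 * (m : ℤ)} := by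
    ext x
    obtain ⟨j, hj⟩ := h.even x
    have := h.form_nonneg x
    simp only [g, Set.mem_preimage, Set.mem_singleton_iff, Set.mem_ofPred_eq, hj]
    omega
  have hq : ∀ x ∈ g ⁻¹' {m}, cexp (π * I * (τ : ℂ) * ((x ⬝ᵥ (B *ᵥ x) : ℤ) : ℂ)) =
      Function.Periodic.qParam 1 (τ : ℂ) ^ m := by
    intro x hx
    rw [hset] at hx
    rw [hx, Function.Periodic.qParam, ← Complex.exp_nat_mul]
    congr 1
    push_cast
    ring
  have hfin : (g ⁻¹' {m}).Finite := hset ▸ h.finite_level m
  rw [rep, ← hset, tsum_congr (fun b : g ⁻¹' {m} => hq b b.2), tsum_const, Nat.card_coe_set_eq,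
    nsmul_eq_mul, smul_eq_mul]

theorem EvenUnimodular.mdifferentiable_theta (h : EvenUnimodular B) : MDiff (theta B) := by
  rw [UpperHalfPlane.mdifferentiable_iff]
  exact h.differentiableOn_th.congr fun z hz => by simp [theta, ofComplex_apply_of_im_pos hz]

set_option backward.isDefEq.respectTransparency.types false in
theorem EvenUnimodular.theta_T (h : EvenUnimodular B) (k : ℤ) :
    theta B ∣[k] ModularGroup.T = theta B := by
  ext τ
  rw [SL_slash_apply, UpperHalfPlane.modular_T_smul]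
  simp [theta, denom, add_comm (1 : ℂ), h.th_add_one, ModularGroup.T]

section Dim24

variable {B : Matrix (Fin 24) (Fin 24) ℤ}

theorem EvenUnimodular.th_axis_inv (h : EvenUnimodular B) {t : ℝ} (ht : 0 < t) :
    th B (I * (t⁻¹ : ℝ)) = (t : ℂ) ^ 12 * th B (I * t) := by
  rw [th_axis, th_axis, ← Complex.ofReal_pow, ← Complex.ofReal_mul, Complex.ofReal_inj]
  have hp := poisson (h.posDef_smul ht)
  simp only [qf_smul] at hp
  have hdet : Real.sqrt (t • real B).det = t ^ 12 := by
    rw [Matrix.det_smul, real_det, h.det, Fintype.card_fin, Int.cast_one, mul_one,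
      show t ^ 24 = (t ^ 12) ^ 2 by ring, Real.sqrt_sq (by positivity)]
  rw [hdet, ← h.mulEquiv.tsum_eq fun k : Fin 24 → ℤ => Real.exp (-π * qf (t • real B)⁻¹ (toR k))]
    at hp
  simp only [h.qf_inv ht] at hp
  rw [hp, ← mul_assoc, mul_inv_cancel₀ (by positivity), one_mul]
  exact tsum_congr fun x => by rw [qf_real]

theorem EvenUnimodular.th_inv (h : EvenUnimodular B) {z : ℂ} (hz : 0 < z.im) :
    th B (-1 / z) = z ^ 12 * th B z := by
  set U : Set ℂ := {w | 0 < w.im}
  have hU : IsOpen U := isOpen_lt continuous_const Complex.continuous_im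
  have hmaps : ∀ w ∈ U, -1 / w ∈ U := fun w (hw : 0 < w.im) => by
    show 0 < (-1 / w).im
    rw [neg_div, Complex.neg_im, one_div, Complex.inv_im, neg_div, neg_neg]
    have hw0 : w ≠ 0 := fun h0 => by simp [h0] at hw
    exact div_pos hw (Complex.normSq_pos.2 hw0)
  have h1 : DifferentiableOn ℂ (fun w => th B (-1 / w)) U :=
    h.differentiableOn_th.comp (DifferentiableOn.div (differentiableOn_const _) differentiableOn_id
      fun w (hw : 0 < w.im) h0 => by simp [show w = 0 from h0] at hw) hmaps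
  have h2 : DifferentiableOn ℂ (fun w => w ^ 12 * th B w) U :=
    (differentiableOn_id.pow 12).mul h.differentiableOn_th
  have hfreq : ∃ᶠ w in 𝓝[≠] I, th B (-1 / w) = w ^ 12 * th B w := by
    have ht : Tendsto (fun t : ℝ => I * (t : ℂ)) (𝓝[≠] 1) (𝓝[≠] I) := by
      refine tendsto_nhdsWithin_iff.2 ⟨?_, ?_⟩
      · refine Tendsto.mono_left ?_ nhdsWithin_le_nhds
        have : Continuous fun t : ℝ => I * (t : ℂ) := by fun_prop
        simpa using this.tendsto 1
      · filter_upwards [self_mem_nhdsWithin] with t ht h'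
        exact ht (by simpa [I_ne_zero] using h' )
    refine ht.frequently (Eventually.frequently ?_)
    filter_upwards [nhdsWithin_le_nhds (Ioi_mem_nhds (show (0 : ℝ) < 1 by norm_num))] with t ht
    have e : -1 / (I * (t : ℂ)) = I * ((t⁻¹ : ℝ) : ℂ) := by
      have : (t : ℂ) ≠ 0 := by exact_mod_cast (ne_of_gt ht)
      push_cast
      field_simp
      rw [I_sq]
    rw [e, h.th_axis_inv ht, mul_pow, show (I : ℂ) ^ 12 = (I ^ 2) ^ 6 by rw [← pow_mul], I_sq]
    norm_num
  exact (h1.analyticOnNhd hU).eqOn_of_preconnected_of_frequently_eq (h2.analyticOnNhd hU)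
    (convex_halfSpace_im_gt 0).isPreconnected (by show 0 < I.im; simp) hfreq hz

set_option backward.isDefEq.respectTransparency.types false in
theorem EvenUnimodular.theta_S (h : EvenUnimodular B) :
    theta B ∣[(12 : ℤ)] ModularGroup.S = theta B := by
  ext τ
  rw [SL_slash_apply, UpperHalfPlane.modular_S_smul]
  have hz : (τ : ℂ) ≠ 0 := τ.ne_zero
  have e : th B (-(τ : ℂ))⁻¹ = (τ : ℂ) ^ 12 * th B (τ : ℂ) := by
    rw [← h.th_inv τ.im_pos]; congr 1; field_simp
  show th B (-(τ : ℂ))⁻¹ * _ = th B _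
  rw [e]
  simp [denom, ModularGroup.S]
  field_simp

/-- The theta series as a modular form of weight `12`. -/
def thetaMF (h : EvenUnimodular B) : ModularForm 𝒮ℒ 12 where
  toFun := theta B
  slash_action_eq' A hA := by
    obtain ⟨A, rfl⟩ := hA
    exact SlashInvariantForm.slash_action_generators_SL2Z h.theta_S (h.theta_T 12) A
  holo' := h.mdifferentiable_theta
  bdd_at_cusps' {c} hc := by
    rw [Subgroup.IsArithmetic.isCusp_iff_isCusp_SL2Z] at hc
    rw [OnePoint.isBoundedAt_iff_forall_SL2Z hc]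
    intro γ _
    rw [SlashInvariantForm.slash_action_generators_SL2Z h.theta_S (h.theta_T 12) γ]
    exact isBoundedAtImInfty_of_hasSum_qExpansion one_pos h.hasSum_theta

theorem thetaMF_coeff (h : EvenUnimodular B) (m : ℕ) :
    (qExpansion 1 (thetaMF h)).coeff m = (rep B m : ℂ) :=
  (ModularFormClass.qExpansion_coeff_unique (f := thetaMF h) one_pos one_mem_strictPeriods_SL
    h.hasSum_theta m).symm

open EisensteinSeries ModularForm in
/-- `7/12 E₄³ + 5/12 E₆²`. -/
def leechMF : ModularForm 𝒮ℒ 12 :=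
  (7 / 12 : ℂ) • ModularForm.mcast (by decide) (E₄.pow 3) +
    (5 / 12 : ℂ) • ModularForm.mcast (by decide) (E₆.pow 2)

open EisensteinSeries ModularForm in
theorem leechMF_qExpansion :
    qExpansion 1 leechMF = (7 / 12 : ℂ) • qExpansion 1 E₄ ^ 3 + (5 / 12 : ℂ) • qExpansion 1 E₆ ^ 2 := by
  rw [leechMF, FunLike.coe_add, ModularForm.qExpansion_add one_pos one_mem_strictPeriods_SL,
    FunLike.coe_smul, ModularForm.qExpansion_smul one_pos one_mem_strictPeriods_SL,
    FunLike.coe_smul, ModularForm.qExpansion_smul one_pos one_mem_strictPeriods_SL]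
  simp only [coe_mcast, ModularForm.qExpansion_pow one_pos one_mem_strictPeriods_SL]

theorem bernoulli_four' : bernoulli 4 = -1 / 30 := by decide +kernel

theorem bernoulli_six : bernoulli 6 = 1 / 42 := by decide +kernel

open EisensteinSeries ModularForm in
theorem leechMF_coeff :
    (qExpansion 1 leechMF).coeff 0 = 1 ∧ (qExpansion 1 leechMF).coeff 1 = 0 ∧
    (qExpansion 1 leechMF).coeff 2 = 196560 ∧ (qExpansion 1 leechMF).coeff 3 = 16773120 ∧
    (qExpansion 1 leechMF).coeff 4 = 398034000 := by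
  have s3 : σ 3 1 = 1 ∧ σ 3 2 = 9 ∧ σ 3 3 = 28 ∧ σ 3 4 = 73 := by decide +kernel
  have s5 : σ 5 1 = 1 ∧ σ 5 2 = 33 ∧ σ 5 3 = 244 ∧ σ 5 4 = 1057 := by decide +kernel
  simp only [leechMF_qExpansion, map_add, PowerSeries.coeff_smul, pow_succ, pow_zero, one_mul,
    PowerSeries.coeff_mul, Finset.Nat.sum_antidiagonal_eq_sum_range_succ_mk, Finset.sum_range_succ,
    Finset.sum_range_zero, zero_add, Nat.reduceSub, Nat.sub_zero, Nat.zero_sub,
    E_qExpansion_coeff _ (show Even 4 from ⟨2, rfl⟩), E_qExpansion_coeff _ (show Even 6 from ⟨3, rfl⟩),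
    bernoulli_four', bernoulli_six]
  norm_num [s3, s5]

open ModularForm in
theorem thetaMF_eq (h : EvenUnimodular B) (h2 : rep B 1 = 0) : thetaMF h = leechMF := by
  obtain ⟨l0, l1, -, -, -⟩ := leechMF_coeff
  have : thetaMF h - leechMF = 0 := by
    refine ModularForm.sturm_bound_levelOne_nat (k := 12) ?_
    rw [FunLike.coe_sub, ModularForm.qExpansion_sub one_pos one_mem_strictPeriods_SL]
    refine lt_of_lt_of_le (show ((12 / 12 : ℕ) : ℕ∞) < (2 : ℕ) by norm_num)
      (PowerSeries.nat_le_order _ 2 fun i hi => ?_)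
    rw [map_sub, thetaMF_coeff]
    interval_cases i
    · rw [l0, h.rep_zero]; simp
    · rw [l1, h2]; simp
  exact sub_eq_zero.1 this

theorem EvenUnimodular.counts (h : EvenUnimodular B) (h2 : rep B 1 = 0) :
    rep B 2 = 196560 ∧ rep B 3 = 16773120 ∧ rep B 4 = 398034000 := by
  obtain ⟨-, -, l2, l3, l4⟩ := leechMF_coeff
  rw [← thetaMF_eq h h2, thetaMF_coeff] at l2 l3 l4
  exact ⟨by exact_mod_cast l2, by exact_mod_cast l3, by exact_mod_cast l4⟩

end Dim24

end

end Cfsg.Agent.SporStructure.Theta
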