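import Cfsg.Agent.Lib.Golay.CodeSteiner

/-!
Coset leaders of the length 24 code and the punctured code of length 23.
-/

set_option autoImplicit false

namespace Cfsg.Agent.SporStructure.GolayCosets

open Cfsg.Agent.Golay

theorem hmin : ∀ w ∈ golayCode, w ≠ 0 → 8 ≤ (support₂ w).card ∧ 4 ∣ (support₂ w).card := by
  intro w hw hne
  have h := golayCode_weights w hw
  have h0 : hammingNorm w ≠ 0 := fun e => hne (hammingNorm_eq_zero.1 e)
  rw [← hammingNorm_eq]
  omega

theorem mk_eq_iff {w v : GolayPt → ZMod 2} :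
    (Submodule.Quotient.mk w : (GolayPt → ZMod 2) ⧸ golayCode) = Submodule.Quotient.mk v ↔
      w - v ∈ golayCode := Submodule.Quotient.eq _

/-- A word has a coset representative on at most four points. -/
theorem exists_rep (w : GolayPt → ZMod 2) :
    ∃ a : Finset GolayPt, a.card ≤ 4 ∧ w - indWord a ∈ golayCode := by
  obtain ⟨a, ha, h⟩ := exists_small_rep hmin card_golayPt finrank_golayCode (Submodule.Quotient.mk w)
  exact ⟨a, ha, mk_eq_iff.1 h.symm⟩

theorem coset_bound {w : GolayPt → ZMod 2} {a b : Finset GolayPt} (ha : w - indWord a ∈ golayCode)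
    (hb : w - indWord b ∈ golayCode) (hab : a ≠ b) : 8 + 2 * (a ∩ b).card ≤ a.card + b.card :=
  (coset_sum hmin ((mk_eq_iff.2 ha).symm.trans (mk_eq_iff.2 hb)) hab).2.1

/-- The tetrads of a coset cover all points. -/
theorem tetrad_cover {w : GolayPt → ZMod 2} {a : Finset GolayPt} (hc : a.card = 4)
    (ha : w - indWord a ∈ golayCode) (p : GolayPt) :
    ∃ b : Finset GolayPt, b.card = 4 ∧ p ∈ b ∧ w - indWord b ∈ golayCode := by
  by_cases hp : p ∈ a
  · exact ⟨a, hc, hp, ha⟩
  obtain ⟨o, ho, hsub⟩ := exists_octad (s := insert p a)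
    (by rw [Finset.card_insert_of_notMem hp, hc])
  rw [Finset.insert_subset_iff] at hsub
  refine ⟨o \ a, ?_, Finset.mem_sdiff.2 ⟨hsub.1, hp⟩, ?_⟩
  · rw [Finset.card_sdiff_of_subset hsub.2, card_of_mem_octads ho, hc]
  · obtain ⟨⟨v, hv, hvo⟩, -⟩ := ho
    have e : indWord (o \ a) = v + indWord a := by
      rw [← indWord_support₂ v, hvo]
      funext q
      by_cases h1 : q ∈ a
      · simp [indWord, h1, hsub.2 h1]; decide
      · by_cases h2 : q ∈ o <;> simp [indWord, h1, h2]
    rw [e, add_comm, ← sub_sub]
    exact golayCode.sub_mem ha hv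

theorem coset_leaders (w : GolayPt → ZMod 2) :
    ({v : GolayPt → ZMod 2 | hammingNorm v ≤ 4 ∧ w - v ∈ golayCode}.ncard = 1 ∧
        ∃ v : GolayPt → ZMod 2, hammingNorm v ≤ 3 ∧ w - v ∈ golayCode) ∨
    ({v : GolayPt → ZMod 2 | hammingNorm v ≤ 4 ∧ w - v ∈ golayCode}.ncard = 6 ∧
        ∀ v : GolayPt → ZMod 2, w - v ∈ golayCode → hammingNorm v ≤ 4 → hammingNorm v = 4) := by
  classical
  obtain ⟨a, ha, hw⟩ := exists_rep w
  have hn : ∀ s : Finset GolayPt, hammingNorm (indWord s) = s.card := fun s => by
    rw [hammingNorm_eq, support₂_indWord]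
  by_cases h3 : a.card ≤ 3
  · left
    refine ⟨Set.ncard_eq_one.2 ⟨indWord a, Set.ext fun v => ⟨?_, ?_⟩⟩,
      indWord a, by rw [hn]; exact h3, hw⟩
    · rintro ⟨hv4, hv⟩
      rw [← indWord_support₂ v] at hv hv4 ⊢
      rw [hn] at hv4
      by_contra hne
      have := coset_bound hv hw (fun e => hne (by rw [e]; rfl))
      omega
    · rintro rfl
      exact ⟨by rw [hn]; exact ha, hw⟩
  · right
    have hc : a.card = 4 := by omega
    have hall : ∀ b : Finset GolayPt, b.card ≤ 4 → w - indWord b ∈ golayCode → b.card = 4 := by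
      intro b hb hwb
      rcases eq_or_ne b a with rfl | hne
      · exact hc
      · have := coset_bound hwb hw hne; omega
    set F : Finset (Finset GolayPt) :=
      Finset.univ.filter fun b => b.card = 4 ∧ w - indWord b ∈ golayCode with hF
    have hpd : (F : Set (Finset GolayPt)).PairwiseDisjoint id := by
      intro x hx y hy hne
      simp only [hF, Finset.coe_filter, Set.mem_ofPred_eq, Finset.mem_univ, true_and] at hx hy
      have := coset_bound hx.2 hy.2 hne
      exact Finset.disjoint_iff_inter_eq_empty.2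
        (Finset.card_eq_zero.1 (show (x ∩ y).card = 0 by omega))
    have hcov : F.biUnion id = Finset.univ := Finset.eq_univ_iff_forall.2 fun p => by
      obtain ⟨b, hb, hpb, hwb⟩ := tetrad_cover hc hw p
      exact Finset.mem_biUnion.2 ⟨b, by simp [hF, hb, hwb], hpb⟩
    have h1 := congrArg Finset.card hcov
    rw [Finset.card_biUnion hpd, Finset.card_univ, card_golayPt] at h1
    simp only [id] at h1
    rw [Finset.sum_const_nat (m := 4) (fun x hx => (Finset.mem_filter.1 hx).2.1)] at h1
    refine ⟨?_, fun v hv hv4 => ?_⟩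
    · have he : {v : GolayPt → ZMod 2 | hammingNorm v ≤ 4 ∧ w - v ∈ golayCode} =
          (F.image indWord : Finset (GolayPt → ZMod 2)) := by
        ext v
        simp only [Set.mem_ofPred_eq, Finset.coe_image, Set.mem_image, Finset.mem_coe, hF,
          Finset.mem_filter, Finset.mem_univ, true_and]
        constructor
        · rintro ⟨hv4, hv⟩
          rw [← indWord_support₂ v, hn] at hv4
          exact ⟨support₂ v, ⟨hall _ hv4 (by rw [indWord_support₂]; exact hv),
            by rw [indWord_support₂]; exact hv⟩, indWord_support₂ v⟩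
        · rintro ⟨b, ⟨hb, hwb⟩, rfl⟩
          exact ⟨by rw [hn, hb], hwb⟩
      rw [he, Set.ncard_coe_finset, Finset.card_image_of_injective]
      · omega
      · intro x y hxy
        rw [← support₂_indWord x, hxy, support₂_indWord]
    · rw [← indWord_support₂ v, hn] at hv4 ⊢
      exact hall _ hv4 (by rw [indWord_support₂]; exact hv)

/-- The punctured code. -/
def punctured : Set (ZMod 23 → ZMod 2) :=
  {u | ∃ w ∈ golayCode, ∀ x : ZMod 23, u x = w (some x)}

/-- Deletion of the extra coordinate. -/
def punct (w : GolayPt → ZMod 2) : ZMod 23 → ZMod 2 := fun x => w (some x)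

theorem punctured_eq : punctured = punct '' (golayCode : Set (GolayPt → ZMod 2)) := by
  ext u
  exact ⟨fun ⟨w, hw, h⟩ => ⟨w, hw, funext fun x => (h x).symm⟩,
    fun ⟨w, hw, h⟩ => ⟨w, hw, fun x => (congrFun h x).symm⟩⟩

theorem norm_le_punct (w : GolayPt → ZMod 2) : hammingNorm w ≤ hammingNorm (punct w) + 1 := by
  rw [hammingNorm, hammingNorm]
  calc (Finset.univ.filter fun p => w p ≠ 0).card
      ≤ (insert none ((Finset.univ.filter fun x => punct w x ≠ 0).map Function.Embedding.some)).card :=
        Finset.card_le_card fun p hp => by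
          cases p with
          | none => exact Finset.mem_insert_self _ _
          | some x => exact Finset.mem_insert_of_mem (Finset.mem_map.2
              ⟨x, Finset.mem_filter.2 ⟨Finset.mem_univ x, (Finset.mem_filter.1 hp).2⟩, rfl⟩)
    _ ≤ _ := (Finset.card_insert_le _ _).trans (by rw [Finset.card_map])

theorem punct_small {w : GolayPt → ZMod 2} (hw : w ∈ golayCode) (h : hammingNorm (punct w) ≤ 6) :
    w = 0 := by
  have := norm_le_punct w
  have := golayCode_weights w hw
  exact hammingNorm_eq_zero.1 (by omega)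

theorem punct_injOn : Set.InjOn punct (golayCode : Set (GolayPt → ZMod 2)) := by
  intro v hv w hw h
  refine sub_eq_zero.1 (punct_small (golayCode.sub_mem hv hw) ?_)
  have : punct (v - w) = 0 := by
    funext x
    have := congrFun h x
    simp only [punct, Pi.sub_apply, Pi.zero_apply] at this ⊢
    rw [this, sub_self]
  simp [this]

theorem punct_toWord (n : ℕ) :
    hammingNorm (punct (toWord n)) = popc (n % 2 ^ 23) := by
  rw [← card_toSet, hammingNorm, ← Finset.card_map Function.Embedding.some]
  congr 1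
  ext p
  cases p with
  | none =>
    rw [mem_toSet, Nat.testBit_mod_two_pow]
    simp [idx, Function.Embedding.some]
  | some x =>
    have := x.val_lt
    rw [mem_toSet, Nat.testBit_mod_two_pow, Finset.mem_map]
    constructor
    · rintro ⟨y, hy, hxy⟩
      obtain rfl := Option.some_injective _ hxy
      have h := (Finset.mem_filter.1 hy).2
      by_cases hb : n.testBit y.val <;> simp_all [punct, toWord, idx]
    · intro h
      exact ⟨x, Finset.mem_filter.2 ⟨Finset.mem_univ x, by simp_all [punct, toWord, idx]⟩, rfl⟩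

/-- The number of punctured words of weight `k`, by counting masks. -/
theorem ncard_punct_weight (k c : ℕ)
    (h : ((Finset.range 4096).filter fun m => popc (comb m % 2 ^ 23) = k).card = c) :
    {u | u ∈ punctured ∧ hammingNorm u = k}.ncard = c := by
  have e : {u | u ∈ punctured ∧ hammingNorm u = k} = (fun m => punct (toWord (comb m))) ''
      ((Finset.range 4096).filter fun m => popc (comb m % 2 ^ 23) = k : Finset ℕ) := by
    ext u
    simp only [punctured_eq, Set.mem_ofPred_eq, Set.mem_image, Finset.coe_filter, Finset.mem_range,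
      SetLike.mem_coe]
    constructor
    · rintro ⟨⟨w, hw, rfl⟩, hk⟩
      obtain ⟨m, hm, rfl⟩ := mem_golayCode_iff.1 hw
      exact ⟨m, ⟨hm, by rw [← punct_toWord]; exact hk⟩, rfl⟩
    · rintro ⟨m, ⟨hm, hk⟩, rfl⟩
      exact ⟨⟨_, toWord_comb_mem m, rfl⟩, by rw [punct_toWord]; exact hk⟩
  rw [e, Set.InjOn.ncard_image, Set.ncard_coe_finset, h]
  intro a ha b hb hab
  simp only [Finset.coe_filter, Finset.mem_range, Set.mem_ofPred_eq] at ha hb
  have h' := congrArg support₂ (punct_injOn (toWord_comb_mem a) (toWord_comb_mem b) hab)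
  simp only [support₂_toWord] at h'
  rw [← comb_mod ha.1, toSet_injOn (comb_lt ha.1) (comb_lt hb.1) h', comb_mod hb.1]

theorem perfect (u : ZMod 23 → ZMod 2) :
    ∃! c : ZMod 23 → ZMod 2, c ∈ punctured ∧ hammingDist u c ≤ 3 := by
  classical
  let w : GolayPt → ZMod 2 := fun p => p.elim 0 u
  have huw : punct w = u := rfl
  obtain ⟨a, ha, hw⟩ := exists_rep w
  obtain ⟨b, hb, hwb⟩ : ∃ b : Finset GolayPt, (b.erase none).card ≤ 3 ∧ w - indWord b ∈ golayCode := by
    by_cases h3 : a.card ≤ 3
    · exact ⟨a, (Finset.card_erase_le).trans h3, hw⟩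
    · obtain ⟨b, hb, hpb, hwb⟩ := tetrad_cover (by omega) hw none
      exact ⟨b, by rw [Finset.card_erase_of_mem hpb, hb], hwb⟩
  have h1 : hammingDist u (punct (w - indWord b)) ≤ 3 := by
    refine le_trans ?_ hb
    rw [hammingDist, ← Finset.card_map Function.Embedding.some]
    refine Finset.card_le_card fun p hp => ?_
    obtain ⟨x, hx, rfl⟩ := Finset.mem_map.1 hp
    replace hx := (Finset.mem_filter.1 hx).2
    simp only [punct, Pi.sub_apply, indWord] at hx
    simp only [Finset.mem_erase]
    refine ⟨by simp [Function.Embedding.some], ?_⟩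
    by_contra hxb
    exact hx (by simp [w, Function.Embedding.some] at hxb ⊢; simp [hxb])
  refine ⟨punct (w - indWord b), ⟨by rw [punctured_eq]; exact ⟨_, hwb, rfl⟩, h1⟩, ?_⟩
  · rintro c ⟨hc, hd⟩
    rw [punctured_eq] at hc
    obtain ⟨v, hv, rfl⟩ := hc
    congr 1
    refine sub_eq_zero.1 (punct_small (golayCode.sub_mem hv hwb) ?_)
    have e : hammingNorm (punct (v - (w - indWord b))) = hammingDist (punct v) (punct (w - indWord b)) := by
      rw [hammingDist_eq_hammingNorm]
      refine congrArg hammingNorm (funext fun x => ?_)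
      have two : ∀ s t : ZMod 2, -s = s ∧ s - t = s + t := by decide
      simp only [punct, Pi.sub_apply, Pi.add_apply, Pi.neg_apply, (two _ 0).1, (two _ _).2]
    rw [e]
    refine (hammingDist_triangle_left _ _ u).trans ?_
    omega

end Cfsg.Agent.SporStructure.GolayCosets
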