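import Cfsg.Agent.SporStructure.GolayEngine

/-!
Orbits of the stabiliser of two points and a pair on pairs.
-/

set_option autoImplicit false

namespace Cfsg.Agent.SporStructure.Engine

open Cfsg Cfsg.Agent.Golay

/-- All pairs, as masks. -/
def pairMasks : List ℕ :=
  (List.range 24).flatMap fun j => (List.range j).map fun i => 2 ^ i ||| 2 ^ j

/-- The octads through the base configuration. -/
def fiveOctads : List ℕ := [12656663, 8536111, 11010247, 9471495, 8657159]

def inFive (t : ℕ) : Bool := fiveOctads.any fun o => t &&& o == t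

/-- The pairs avoiding the two points, by intersection with the base pair and the octad property. -/
def pairClass (k : ℕ) (b : Bool) : List ℕ :=
  pairMasks.filter fun t => popc (t &&& 8388608) == 0 && popc (t &&& 1) == 0 && popc (t &&& 6) == k &&
    inFive t == b

def pairGens : List (List ℕ) :=
  [[0, 1, 2, 17, 10, 14, 8, 18, 21, 13, 16, 7, 6, 20, 5, 4, 15, 3, 19, 11, 22, 12, 9, 23],
    [0, 2, 1, 22, 8, 16, 20, 10, 14, 19, 21, 17, 5, 11, 4, 7, 18, 13, 3, 15, 6, 9, 12, 23]]

def pairWalkOne : List (ℕ × ℕ) := [
  (0, 131074), (1, 8196), (0, 1048580), (0, 4194308), (0, 516), (1, 524290), (0, 2050), (0, 130), (0, 262146), (1, 12), (0, 131076), (1, 8194), (0, 1048578), (0, 4194306), (0, 514), (1, 524292), (0, 2052), (0, 132), (0, 262148), (9, 1026), (0, 65538), (0, 32770), (0, 18), (1, 260), (0, 2097156), (0, 4100), (0, 68), (9, 34), (0, 16386), (1, 20), (0, 1028), (0, 65540), (0, 32772), (17, 2097154), (0, 4098), (0, 66), (0, 258), (1, 16388), (0, 36)]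

def pairWalkIn : List (ℕ × ℕ) := [
  (0, 147456), (1, 8208), (0, 1049600), (0, 4259840), (0, 33280), (1, 524416), (0, 264192), (1, 131080), (1, 4202496), (0, 1049088), (1, 524352), (0, 2304), (0, 2097280), (0, 266240), (9, 1536), (0, 73728), (0, 1081344), (0, 4194320), (1, 4352), (0, 2097216), (9, 16416), (1, 65552), (0, 33792), (9, 262400), (0, 2621440), (0, 6144), (0, 192), (9, 131104), (0, 16392)]

def pairWalkOut : List (ℕ × ℕ) := [
  (0, 132096), (0, 65544), (0, 163840), (1, 8320), (0, 1310720), (0, 4718592), (0, 2560), (1, 655360), (0, 2056), (0, 131200), (0, 262152), (1, 4194312), (0, 131584), (0, 8200), (0, 1179648), (1, 8256), (0, 1048832), (0, 6291456), (0, 4608), (1, 524320), (0, 18432), (0, 160), (0, 278528), (9, 66560), (0, 98304), (0, 32784), (0, 1040), (1, 2097408), (0, 2101248), (0, 4160), (0, 320), (1, 1064960), (0, 4194336), (0, 16896), (0, 8224), (1, 67584), (0, 32896), (0, 262160), (0, 525312), (1, 2129920), (0, 4112), (0, 1088), (0, 65792), (9, 3145728), (0, 4198400), (0, 576), (0, 8448), (9, 1572864), (0, 4196352),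 (0, 640), (0, 270336), (17, 135168), (0, 72), (0, 131328), (0, 2097160), (1, 4194816), (0, 8704), (0, 1056768), (0, 5242880), (9, 2112), (0, 384), (0, 2359296), (0, 528384), (1, 32800), (0, 16400), (0, 1056), (0, 81920), (9, 2162688), (0, 36864), (0, 80), (0, 1280), (1, 2113536), (0, 4128), (0, 16448), (0, 288), (9, 1048592), (0, 4195328), (0, 66048), (0, 40960), (1, 2176), (0, 262272), (0, 786432), (0, 526336), (9, 32776), (0, 131088), (0, 1032), (0, 196608), (25, 4194432), (0, 262656), (0, 532480), (0, 1050624), (1, 131136), (0, 264), (0, 2228224), (0, 4104), (17, 4210688), (0, 544), (0, 24576), (0, 1048608), (1, 65600), (0, 33024), (0, 2097168), (0, 5120), (1, 2097184), (0, 20480), (0, 96), (0, 16640), (9, 1114112), (0, 4227072), (0, 528), (0, 9216), (1, 2099200), (0, 4224), (0, 262208), (0, 524544), (1, 49152), (0, 48), (0, 17408), (0, 65568), (1, 327680), (0, 557056), (0, 2064), (0, 1152), (1, 2098176), (0, 69632), (0, 32832), (0, 272), (9, 1048704), (0, 4456448), (0, 524800), (0, 10240), (1, 133120), (0, 136), (0, 393216), (0, 524296),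 (25, 139264), (0, 1048584), (0, 4325376), (0, 520), (9, 12288), (0, 1048640), (0, 4194560), (0, 2097664), (25, 2080), (0, 16512), (0, 262176), (0, 540672), (49, 4194368), (0, 768), (0, 2105344), (0, 1052672), (169, 144), (0, 263168), (0, 589824), (0, 34816), (9, 294912), (0, 524304), (0, 3072), (0, 65664)]

set_option maxRecDepth 40000 in
theorem pair_facts : gensOk [8388608, 1, 6] pairGens = true ∧
    classMasks 8 [(8388615, 4)] = fiveOctads ∧
    pairClass 1 false = [] ∧
    walkOk pairGens [10] pairWalkOne = true ∧
    (pairClass 1 true).all (fun t => (10 :: pairWalkOne.map Prod.snd).contains t) = true ∧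
    (pairClass 1 true).length = 40 ∧
    walkOk pairGens [40] pairWalkIn = true ∧
    (pairClass 0 true).all (fun t => (40 :: pairWalkIn.map Prod.snd).contains t) = true ∧
    (pairClass 0 true).length = 30 ∧
    walkOk pairGens [24] pairWalkOut = true ∧
    (pairClass 0 false).all (fun t => (24 :: pairWalkOut.map Prod.snd).contains t) = true ∧
    (pairClass 0 false).length = 160 := by
  decide +kernel

end Cfsg.Agent.SporStructure.Engine
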