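import Cfsg.Agent.SporStructure.GolaySuborbits
import Cfsg.Agent.SporStructure.CertPairs

/-!
Pairs relative to two points and a pair.
-/

set_option autoImplicit false

namespace Cfsg.Agent.SporStructure.Engine

open Cfsg Cfsg.Agent.Golay
open scoped Pointwise

/-- The octad property of a pair `t`. -/
def InOct (p q : GolayPt) (s t : Finset GolayPt) : Prop :=
  ∃ o ∈ octads, p ∈ o ∧ q ∈ o ∧ s ∪ t ⊆ o

theorem inOct_smul {c : Equiv.Perm GolayPt} (hc : c ∈ Cfsg.M24) {p q : GolayPt}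
    {s t : Finset GolayPt} : InOct (c p) (c q) (c • s) t ↔ InOct p q s (c⁻¹ • t) := by
  constructor
  · rintro ⟨o, ho, hp, hq, hst⟩
    refine ⟨c⁻¹ • o, smul_mem_octads (Cfsg.M24.inv_mem hc) ho, ?_, ?_, ?_⟩
    · rw [← Finset.smul_mem_smul_finset_iff c, smul_inv_smul]; exact hp
    · rw [← Finset.smul_mem_smul_finset_iff c, smul_inv_smul]; exact hq
    · rw [← Finset.smul_finset_subset_smul_finset_iff (a := c), smul_inv_smul,
        Finset.smul_finset_union, smul_inv_smul]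
      exact hst
  · rintro ⟨o, ho, hp, hq, hst⟩
    refine ⟨c • o, smul_mem_octads hc ho, Finset.smul_mem_smul_finset hp,
      Finset.smul_mem_smul_finset hq, ?_⟩
    rw [← Finset.smul_finset_subset_smul_finset_iff (a := c), Finset.smul_finset_union,
      smul_inv_smul] at hst
    exact hst

theorem pair_base_facts : toSet 6 = {pt 1, pt 2} ∧
    toSet 8388615 = {none, some 0} ∪ toSet 6 ∧ (toSet 8388615).card = 4 ∧
    pairMasks.all (fun t => decide (t < 2 ^ 24) && popc t == 2) = true ∧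
    pairMasks.Nodup ∧
    fiveOctads.all (fun o => decide (o < 2 ^ 24) && inCode o && popc o == 8 &&
      popc (o &&& 8388615) == 4) = true := by
  decide +kernel

theorem mem_pairMasks {t : Finset GolayPt} (ht : t.card = 2) :
    ∃ m ∈ pairMasks, toSet m = t := by
  obtain ⟨a, b, hab, rfl⟩ := Finset.card_eq_two.1 ht
  wlog hlt : idx a < idx b generalizing a b
  · have hne : idx a ≠ idx b := fun h => hab (idx_injective h)
    obtain ⟨m, hm, e⟩ := this b a hab.symm (Finset.card_pair hab.symm) (by omega)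
    exact ⟨m, hm, by rw [e, Finset.pair_comm]⟩
  refine ⟨2 ^ idx a ||| 2 ^ idx b, List.mem_flatMap.2 ⟨idx b, List.mem_range.2 (idx_lt b),
    List.mem_map.2 ⟨idx a, List.mem_range.2 hlt, rfl⟩⟩, ?_⟩
  have e : ∀ x : GolayPt, toSet (2 ^ idx x) = {x} := fun x => by
    have := toSet_pow ⟨idx x, idx_lt x⟩
    rwa [pt_idx] at this
  rw [← toSet_union, e, e]
  rfl

theorem toSet_subset_iff {t n : ℕ} (ht : t < 2 ^ 24) : toSet t ⊆ toSet n ↔ t &&& n = t := by
  rw [← Finset.inter_eq_left, toSet_inter]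
  refine ⟨fun h => toSet_injOn (lt_of_le_of_lt Nat.and_le_left ht) ht h, fun h => by rw [h]⟩

theorem inOct_base {m : ℕ} (hm : m ∈ pairMasks) :
    InOct none (some 0) (toSet 6) (toSet m) ↔ inFive m = true := by
  obtain ⟨-, hU, hUc, hpm, -, hfo⟩ := pair_base_facts
  simp only [List.all_eq_true, Bool.and_eq_true, decide_eq_true_eq, beq_iff_eq] at hpm hfo
  have hmlt := (hpm m hm).1
  simp only [inFive, List.any_eq_true, beq_iff_eq]
  constructor
  · rintro ⟨o, ho, hp, hq, hst⟩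
    rw [Finset.union_subset_iff] at hst
    have hsub : toSet 8388615 ⊆ o := by
      rw [hU]; exact Finset.union_subset (by simp [Finset.insert_subset_iff, hp, hq]) hst.1
    obtain ⟨n, hn, -, hno⟩ := mem_classMasks (w := 8) (cs := [(8388615, 4)]) (one_mem _) ho
      (by simp [Cond, Finset.inter_eq_left.2 hsub, hUc])
    rw [pair_facts.2.1] at hn
    rw [one_smul] at hno
    exact ⟨n, hn, (toSet_subset_iff hmlt).1 (hno.symm ▸ hst.2)⟩
  · rintro ⟨n, hn, hmn⟩
    obtain ⟨⟨⟨hlt, hin⟩, hw⟩, h4⟩ := hfo n hn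
    have hsub : toSet 8388615 ⊆ toSet n := by
      refine Finset.inter_eq_left.1 (Finset.eq_of_subset_of_card_le Finset.inter_subset_left ?_)
      rw [hUc, Finset.inter_comm, toSet_inter, card_toSet, h4]
    rw [hU] at hsub
    obtain ⟨h01, h6⟩ := Finset.union_subset_iff.1 hsub
    exact ⟨toSet n, octad_mem_iff.2 ⟨n, hin, hw, rfl⟩, h01 (by simp), h01 (by simp),
      Finset.union_subset h6 ((toSet_subset_iff hmlt).2 hmn)⟩

theorem mem_pairClass {k : ℕ} {b : Bool} {m : ℕ} : m ∈ pairClass k b ↔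
    m ∈ pairMasks ∧ none ∉ toSet m ∧ some 0 ∉ toSet m ∧ (toSet 6 ∩ toSet m).card = k ∧
      inFive m = b := by
  simp only [pairClass, List.mem_filter, Bool.and_eq_true, beq_iff_eq, ← card_toSet, ← toSet_inter,
    single_facts.1, single_facts.2.2.1, Finset.inter_comm (toSet m), card_single_zero, and_assoc]

theorem pairs (p q : GolayPt) (hpq : p ≠ q) (s : Finset GolayPt)
    (hs : s.card = 2 ∧ p ∉ s ∧ q ∉ s) :
    {t : Finset GolayPt | (t.card = 2 ∧ p ∉ t ∧ q ∉ t) ∧ Disjoint s t ∧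
      (∃ o ∈ octads, p ∈ o ∧ q ∈ o ∧ s ∪ t ⊆ o)}.ncard = 30 ∧
    {t : Finset GolayPt | (t.card = 2 ∧ p ∉ t ∧ q ∉ t) ∧ Disjoint s t ∧
      ¬ (∃ o ∈ octads, p ∈ o ∧ q ∈ o ∧ s ∪ t ⊆ o)}.ncard = 160 ∧
    ∀ t t' : Finset GolayPt, (t.card = 2 ∧ p ∉ t ∧ q ∉ t) → (t'.card = 2 ∧ p ∉ t' ∧ q ∉ t') →
      t ≠ s → t' ≠ s → (s ∩ t).card = (s ∩ t').card →
      ((∃ o ∈ octads, p ∈ o ∧ q ∈ o ∧ s ∪ t ⊆ o) ↔ (∃ o ∈ octads, p ∈ o ∧ q ∈ o ∧ s ∪ t' ⊆ o)) →
      ∃ g : Equiv.Perm GolayPt, g ∈ Cfsg.M24 ∧ g p = p ∧ g q = q ∧ g • s = s ∧ g • t = t' := by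
  obtain ⟨h6, -, -, hpm, hnd, -⟩ := pair_base_facts
  obtain ⟨a, b, hab, hsab⟩ := Finset.card_eq_two.1 hs.1
  obtain ⟨c, hc, hcm⟩ := Cfsg.Agent.SporStruct.M24.exists_map_list
    (A := [none, some 0, pt 1, pt 2]) (A' := [p, q, a, b]) (by decide +kernel)
    (by
      have h1 : p ≠ a ∧ p ≠ b := by simpa [hsab] using hs.2.1
      have h2 : q ≠ a ∧ q ≠ b := by simpa [hsab] using hs.2.2
      simp [hpq, hab, h1.1, h1.2, h2.1, h2.2])
    rfl (by simp)
  simp only [List.map_cons, List.map_nil, List.cons.injEq, and_true] at hcm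
  obtain ⟨hcp, hcq, hca, hcb⟩ := hcm
  have hcs : c • toSet 6 = s := by
    rw [h6, hsab, Finset.smul_finset_insert, Finset.smul_finset_singleton, Equiv.Perm.smul_def,
      Equiv.Perm.smul_def, hca, hcb]
  have hio : ∀ t, (∃ o ∈ octads, p ∈ o ∧ q ∈ o ∧ s ∪ t ⊆ o) ↔
      InOct none (some 0) (toSet 6) (c⁻¹ • t) := fun t => by
    rw [← inOct_smul hc, hcs, hcp, hcq]; rfl
  simp only [hio]
  have hbase : ∀ t : Finset GolayPt, t.card = 2 ∧ p ∉ t ∧ q ∉ t → ∀ k,
      (s ∩ t).card = k → ∀ bo : Bool, (InOct none (some 0) (toSet 6) (c⁻¹ • t) ↔ bo = true) →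
      ∃ m ∈ pairClass k bo, c • toSet m = t := by
    rintro t ⟨ht, hp, hq⟩ k hk bo hbo
    obtain ⟨m, hm, hmt⟩ := mem_pairMasks (t := c⁻¹ • t) (by rw [Finset.card_smul_finset, ht])
    refine ⟨m, mem_pairClass.2 ⟨hm, ?_, ?_, ?_, ?_⟩, by rw [hmt, smul_inv_smul]⟩
    · rw [hmt, ← Finset.smul_mem_smul_finset_iff c, smul_inv_smul, Equiv.Perm.smul_def, hcp]
      exact hp
    · rw [hmt, ← Finset.smul_mem_smul_finset_iff c, smul_inv_smul, Equiv.Perm.smul_def, hcq]
      exact hq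
    · rw [hmt, ← Finset.card_smul_finset c, Finset.smul_finset_inter, smul_inv_smul, hcs, hk]
    · rw [← hmt, inOct_base hm] at hbo
      cases bo <;> simp_all
  have hback : ∀ k bo m, m ∈ pairClass k bo → ((c • toSet m).card = 2 ∧ p ∉ c • toSet m ∧
      q ∉ c • toSet m) ∧ (s ∩ c • toSet m).card = k ∧
      (InOct none (some 0) (toSet 6) (c⁻¹ • c • toSet m) ↔ bo = true) := by
    intro k bo m hm
    obtain ⟨hm, hn, h0, hk, hb⟩ := mem_pairClass.1 hm
    simp only [List.all_eq_true, Bool.and_eq_true, beq_iff_eq] at hpm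
    refine ⟨⟨by rw [Finset.card_smul_finset, card_toSet]; exact (hpm m hm).2, ?_, ?_⟩, ?_, ?_⟩
    · rw [← hcp, ← Equiv.Perm.smul_def, Finset.smul_mem_smul_finset_iff]; exact hn
    · rw [← hcq, ← Equiv.Perm.smul_def, Finset.smul_mem_smul_finset_iff]; exact h0
    · rw [← hcs, ← Finset.smul_finset_inter, Finset.card_smul_finset, hk]
    · rw [inv_smul_smul, inOct_base hm, hb]
  have count : ∀ bo N, (pairClass 0 bo).length = N →
      {t : Finset GolayPt | (t.card = 2 ∧ p ∉ t ∧ q ∉ t) ∧ Disjoint s t ∧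
        (InOct none (some 0) (toSet 6) (c⁻¹ • t) ↔ bo = true)}.ncard = N := by
    intro bo N hN
    have e : {t : Finset GolayPt | (t.card = 2 ∧ p ∉ t ∧ q ∉ t) ∧ Disjoint s t ∧
        (InOct none (some 0) (toSet 6) (c⁻¹ • t) ↔ bo = true)} =
        ((pairClass 0 bo).toFinset.image fun m => c • toSet m : Finset (Finset GolayPt)) := by
      ext t
      simp only [Set.mem_ofPred_eq, Finset.coe_image, Set.mem_image, Finset.mem_coe, List.mem_toFinset]
      constructor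
      · rintro ⟨h1, h2, h3⟩
        exact hbase t h1 0 (Finset.card_eq_zero.2 (Finset.disjoint_iff_inter_eq_empty.1 h2)) bo h3
      · rintro ⟨m, hm, rfl⟩
        obtain ⟨h1, h2, h3⟩ := hback 0 bo m hm
        exact ⟨h1, Finset.disjoint_iff_inter_eq_empty.2 (Finset.card_eq_zero.1 h2), h3⟩
    rw [e, Set.ncard_coe_finset, Finset.card_image_of_injOn,
      List.toFinset_card_of_nodup (show (pairClass 0 bo).Nodup from hnd.filter _), hN]
    intro x hx y hy hxy
    simp only [List.all_eq_true, Bool.and_eq_true, decide_eq_true_eq] at hpm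
    exact toSet_injOn (hpm x (mem_pairClass.1 (List.mem_toFinset.1 hx)).1).1
      (hpm y (mem_pairClass.1 (List.mem_toFinset.1 hy)).1).1 (smul_left_cancel c hxy)
  obtain ⟨hg, -, h1f, hw1, hc1, -, hwi, hci, hni, hwo, hco, hno⟩ := pair_facts
  refine ⟨?_, ?_, ?_⟩
  · rw [← count true 30 hni]; simp
  · rw [← count false 160 hno]; simp
  intro t t' ht ht' hts hts' he hiff
  classical
  have hk : (s ∩ t).card = 0 ∨ (s ∩ t).card = 1 := by
    have h2 : (s ∩ t).card ≤ 2 := hs.1 ▸ Finset.card_le_card Finset.inter_subset_left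
    have : (s ∩ t).card ≠ 2 := fun h => hts (eq_of_inter_card hs.1 ht.1 h).symm
    omega
  have hd : ∀ k bo d0 L, walkOk pairGens [d0] L = true →
      (pairClass k bo).all (fun m => (d0 :: L.map Prod.snd).contains m) = true →
      (s ∩ t).card = k → (InOct none (some 0) (toSet 6) (c⁻¹ • t) ↔ bo = true) →
      ∃ g : Equiv.Perm GolayPt, g ∈ Cfsg.M24 ∧ g p = p ∧ g q = q ∧ g • s = s ∧ g • t = t' := by
    intro k bo d0 L hw hcov hkt hbo
    simp only [List.all_eq_true, List.contains_iff_mem] at hcov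
    obtain ⟨m, hm, rfl⟩ := hbase t ht k hkt bo hbo
    obtain ⟨m', hm', rfl⟩ := hbase t' ht' k (he ▸ hkt) bo (hiff.symm.trans hbo)
    obtain ⟨g, hgF, hgd⟩ := transitive_list hg hw (hcov m hm)
    obtain ⟨g', hgF', hgd'⟩ := transitive_list hg hw (hcov m' hm')
    have hF := hgF'.mul hgF.inv
    have e : ∀ A : Finset GolayPt,
        (c * (g' * g⁻¹) * c⁻¹) • c • A = c • (g' * g⁻¹) • A := fun A => by
      rw [mul_smul, mul_smul, inv_smul_smul]
    refine ⟨c * (g' * g⁻¹) * c⁻¹,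
      Cfsg.M24.mul_mem (Cfsg.M24.mul_mem hc hF.1) (Cfsg.M24.inv_mem hc), ?_, ?_, ?_, ?_⟩
    · rw [← hcp]
      exact fix_point single_facts.1 (by rw [e, hF.2 _ (by simp)])
    · rw [← hcq]
      exact fix_point single_facts.2.2.1 (by rw [e, hF.2 _ (by simp)])
    · rw [← hcs, e, hF.2 _ (by simp)]
    · rw [e, mul_smul, ← hgd, inv_smul_smul, hgd']
  rcases hk with hk | hk <;> by_cases hb : InOct none (some 0) (toSet 6) (c⁻¹ • t)
  · exact hd 0 true _ _ hwi hci hk (by simp [hb])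
  · exact hd 0 false _ _ hwo hco hk (by simp [hb])
  · exact hd 1 true _ _ hw1 hc1 hk (by simp [hb])
  · obtain ⟨m, hm, -⟩ := hbase t ht 1 hk false (by simp [hb])
    rw [h1f] at hm
    exact absurd hm List.not_mem_nil

end Cfsg.Agent.SporStructure.Engine
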