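import Cfsg.Agent.Lib.Leech.CodeUnique
import Cfsg.Agent.SporStruct.LeechHSMain
import Cfsg.Agent.Lib.Golay.Involutions

/-!
A fixed point free involution of the 100 point configuration of the Higman-Sims group.
-/

set_option autoImplicit false

namespace Cfsg.Agent.SporStructure.HS

open Cfsg Cfsg.Agent.Golay
open Cfsg.Agent.Leech hiding code
open Cfsg.Agent.SporStruct (hsConfig mem_hsConfig_iff smul_mem_hsConfig exists_smul_hs permElt coe_permElt_smul)
open scoped Pointwise

/-- The entries of the first vector. -/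
def vList : List ℤ :=
  [-2, 0, 0, 0, -2, -2, 0, -2, -2, 2, -2, -2, 0, 0, -2, 0, 0, 0, 0, 0, 0, 2, -2, -2]

def vFun (p : GolayPt) : ℤ := vList.getD (idx p) 0

/-- Both choices of sign on every pair of an orbit leave the two products different from 24, 0. -/
def allSigns : List ℕ → ℤ → ℤ → Bool
  | [], dv, da => !(dv == 24 && da == 0)
  | r :: rs, dv, da =>
    let cv := vList.getD r 0 + vList.getD (inv0Tab.getD r 0) 0
    let ca := (if r == 0 || r == 23 then -4 else 0 : ℤ) +
      (if inv0Tab.getD r 0 == 0 || inv0Tab.getD r 0 == 23 then -4 else 0)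
    allSigns rs (dv + 2 * cv) (da + 2 * ca) && allSigns rs (dv - 2 * cv) (da - 2 * ca)

/-- The pairs inside an octad. -/
def octReps (o : ℕ) : List ℕ :=
  (List.range 24).filter fun i => o.testBit i && decide (i < inv0Tab.getD i 0)

def octOk (o : ℕ) : Bool :=
  !((List.range 24).all fun i => o.testBit (inv0Tab.getD i 0) == o.testBit i) ||
    (let L := octReps o ++ (octReps o).map fun i => inv0Tab.getD i 0
     decide L.Nodup && ((List.range 24).all fun i => o.testBit i == L.contains i) &&
      allSigns (octReps o) 0 0)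

set_option maxRecDepth 40000 in
theorem hs_facts : isPermTab inv0Tab = true ∧ checkAut inv0Tab = true ∧
    inCode 14700465 = true ∧
    (∀ i : Fin 24, (4 : ℤ) ∣ vList.getD i.val 0 - (if Nat.testBit 14700465 i.val then 2 else 0) ∧
      inv0Tab.getD i.val 0 ≠ i.val ∧ inv0Tab.getD (inv0Tab.getD i.val 0) 0 = i.val ∧
      inv0Tab.getD i.val 0 < 24 ∧
      vList.getD (inv0Tab.getD i.val 0) 0 = vList.getD i.val 0) ∧
    inv0Tab.getD 23 0 = 0 ∧
    (((List.range 4096).map comb).all fun n => !(popc n == 8) || octOk n) = true := by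
  decide +kernel

theorem v_facts : sqNorm vFun = 48 ∧ ∑ i, vFun i = -16 ∧
    dotInt vFun (four none (some 0) (-4) (-4)) = 16 ∧
    (∀ i, |vFun i| ≤ 2) := by
  decide +kernel

theorem v_mem : vFun ∈ leechLattice := by
  obtain ⟨-, -, hc, hv, -, -⟩ := hs_facts
  refine mem_lattice_iff.2 ⟨0, toSet 14700465, mem_supports_iff.2 ⟨_, hc, rfl⟩, fun i => ?_, ?_⟩
  · have h := (hv ⟨idx i, idx_lt i⟩).1
    simp only [bit, mem_toSet, vFun, sub_zero] at h ⊢
    split_ifs with hb <;> simp_all
  · rw [v_facts.2.1]; norm_num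

theorem allSigns_sound (s : ℕ → ℤ) :
    ∀ (L : List ℕ) (dv da : ℤ), allSigns L dv da = true → (∀ r ∈ L, s r = 2 ∨ s r = -2) →
      ¬ (dv + (L.map fun r => s r * (vList.getD r 0 + vList.getD (inv0Tab.getD r 0) 0)).sum = 24 ∧
        da + (L.map fun r => s r * ((if r == 0 || r == 23 then -4 else 0 : ℤ) +
          (if inv0Tab.getD r 0 == 0 || inv0Tab.getD r 0 == 23 then -4 else 0))).sum = 0)
  | [], dv, da, h, _ => by
    simp [allSigns] at h
    exact fun ⟨e1, e2⟩ => by rcases h with h | h <;> simp_all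
  | r :: rs, dv, da, h, hs => by
    rw [allSigns, Bool.and_eq_true] at h
    have ih1 := allSigns_sound s rs _ _ h.1 fun x hx => hs x (List.mem_cons_of_mem _ hx)
    have ih2 := allSigns_sound s rs _ _ h.2 fun x hx => hs x (List.mem_cons_of_mem _ hx)
    simp only [List.map_cons, List.sum_cons]
    rcases hs r List.mem_cons_self with e | e <;> rw [e]
    · exact fun ⟨e1, e2⟩ => ih1 ⟨by linarith, by linarith⟩
    · exact fun ⟨e1, e2⟩ => ih2 ⟨by linarith, by linarith⟩

/-- No fixed vector is a vertex. -/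
theorem no_fixed {σ : Equiv.Perm GolayPt} (hσ : Tab σ inv0Tab) {x : GolayPt → ℤ}
    (hx : x ∈ leechLattice) (hn : sqNorm x = 32) (hfix : ∀ p, x (σ p) = x p)
    (hv : dotInt vFun x = 24) (ha : dotInt (four none (some 0) (-4) (-4)) x = 0) : False := by
  obtain ⟨-, -, -, hinv, -, hoct⟩ := hs_facts
  have hne : ∀ p, σ p ≠ p := fun p e => (hinv ⟨idx p, idx_lt p⟩).2.1 (by
    have := hσ _ (idx_lt p); rw [pt_idx, e] at this; exact this.symm)
  rcases shape32 hx hn with ⟨a, b, hab, hxa, hxb, h0⟩ | ⟨o, ho, h2, h0⟩ | ⟨a, hxa, h1⟩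
  · rw [dotInt, Finset.sum_eq_add_of_mem a b (Finset.mem_univ a) (Finset.mem_univ b) hab
      fun i _ hi => by rw [h0 i hi.1 hi.2, mul_zero]] at hv
    have ba := abs_le.1 (v_facts.2.2.2 a)
    have bb := abs_le.1 (v_facts.2.2.2 b)
    rcases hxa with e | e <;> rcases hxb with e' | e' <;> rw [e, e'] at hv <;> omega
  · obtain ⟨n, hn1, hn8, rfl⟩ := octad_mem_iff.1 ho
    have hmem : n ∈ (List.range 4096).map comb :=
      List.mem_map.2 ⟨n % 4096, List.mem_range.2 (Nat.mod_lt _ (by norm_num)), beq_iff_eq.1 hn1⟩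
    simp only [List.all_eq_true, Bool.or_eq_true, Bool.not_eq_true'] at hoct
    have hok := (hoct n hmem).resolve_left (by simp [hn8])
    have hin : ∀ p, σ p ∈ toSet n ↔ p ∈ toSet n := fun p => by
      constructor <;> intro hp <;> by_contra hq
      · have := hfix p; rw [h0 p hq] at this; rcases h2 _ hp with e | e <;> omega
      · have := hfix p; rw [h0 _ hq] at this; rcases h2 _ hp with e | e <;> omega
    rw [octOk, Bool.or_eq_true] at hok
    replace hok := hok.resolve_left (by
      simp only [Bool.not_eq_true', Bool.eq_false_iff, ne_eq, not_not, List.all_eq_true,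
        List.mem_range, beq_iff_eq]
      intro i hi
      have := hin (pt i)
      rw [mem_toSet, mem_toSet, hσ i hi, idx_pt hi] at this
      exact Bool.eq_iff_iff.2 this)
    simp only [Bool.and_eq_true, decide_eq_true_eq, List.all_eq_true, List.mem_range,
      beq_iff_eq] at hok
    obtain ⟨⟨hnd, hset⟩, hsigns⟩ := hok
    set L := octReps n with hL
    have hLlt : ∀ r ∈ L, r < 24 ∧ n.testBit r = true := fun r hr => by
      simp only [hL, octReps, List.mem_filter, List.mem_range, Bool.and_eq_true] at hr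
      exact ⟨hr.1, hr.2.1⟩
    have hall : ∀ r ∈ L ++ L.map (fun i => inv0Tab.getD i 0), r < 24 := fun r hr => by
      rcases List.mem_append.1 hr with h | h
      · exact (hLlt r h).1
      · obtain ⟨q, hq, rfl⟩ := List.mem_map.1 h; exact (hinv ⟨q, (hLlt q hq).1⟩).2.2.2.1
    have e : toSet n = ((L ++ L.map (fun i => inv0Tab.getD i 0)).map pt).toFinset := by
      ext p
      rw [mem_toSet, hset _ (idx_lt p), List.contains_iff_mem, List.mem_toFinset, List.mem_map]
      exact ⟨fun h => ⟨_, h, pt_idx p⟩, fun ⟨r, hr, h⟩ => h ▸ (idx_pt (hall r hr)).symm ▸ hr⟩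
    have hdot : ∀ f : GolayPt → ℤ, dotInt f x =
        (L.map fun r => x (pt r) * (f (pt r) + f (pt (inv0Tab.getD r 0)))).sum := by
      intro f
      rw [dotInt, ← Finset.sum_subset (Finset.subset_univ (toSet n)) fun i _ hi => by
        rw [h0 i hi, mul_zero], e, List.sum_toFinset _ (hnd.map_on fun a ha b hb hab => by
          rw [← idx_pt (hall a ha), hab, idx_pt (hall b hb)])]
      rw [List.map_map, List.map_append, List.sum_append, List.map_map, ← List.sum_map_add]
      refine congrArg List.sum (List.map_congr_left fun r hr => ?_)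
      have hr24 := (hLlt r hr).1
      have : x (pt (inv0Tab.getD r 0)) = x (pt r) := by
        have e' : σ (pt r) = pt (inv0Tab.getD r 0) := idx_injective (by
          rw [idx_pt (hinv ⟨r, hr24⟩).2.2.2.1, hσ r hr24])
        rw [← e']
        exact hfix (pt r)
      simp only [Function.comp_apply, this]
      ring
    refine allSigns_sound (fun r => x (pt r)) L 0 0 hsigns
      (fun r hr => h2 _ (by rw [mem_toSet, idx_pt (hLlt r hr).1]; exact (hLlt r hr).2)) ⟨?_, ?_⟩
    · rw [zero_add, ← hv, hdot]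
      refine congrArg List.sum (List.map_congr_left fun r hr => ?_)
      simp only [vFun, idx_pt (hLlt r hr).1, idx_pt (hinv ⟨r, (hLlt r hr).1⟩).2.2.2.1]
    · rw [zero_add]
      refine Eq.trans ?_ ha
      rw [hdot]
      refine congrArg List.sum (List.map_congr_left fun r hr => ?_)
      have key : ∀ i : Fin 24, four none (some 0) (-4) (-4) (pt i.val) =
          (if i.val == 0 || i.val == 23 then -4 else 0 : ℤ) := by decide +kernel
      show _ = x (pt r) * _
      rw [key ⟨r, (hLlt r hr).1⟩, key ⟨_, (hinv ⟨r, (hLlt r hr).1⟩).2.2.2.1⟩]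
  · have := hfix a
    have h1a := h1 (σ a) (hne a)
    rcases hxa with e | e <;> rcases h1a with e' | e' <;> omega

theorem fixed_point_free (v w : leechLattice) (hv : sqNorm (v : GolayPt → ℤ) = 48)
    (hw : sqNorm (w : GolayPt → ℤ) = 48) (hvw : dotInt (v : GolayPt → ℤ) (w : GolayPt → ℤ) = -32) :
    ∃ g : Co0, g • v = v ∧ g • w = w ∧ orderOf g = 2 ∧
      ∀ x ∈ {x : leechLattice | sqNorm (x : GolayPt → ℤ) = 32 ∧
        dotInt (v : GolayPt → ℤ) (x : GolayPt → ℤ) = 24 ∧
        dotInt (w : GolayPt → ℤ) (x : GolayPt → ℤ) = -24}, g • x ≠ x := by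
  obtain ⟨h1, h2, -, hinv, h23, -⟩ := hs_facts
  have hu := Cfsg.Agent.Leech.codeUnique
  set σ : Cfsg.M24 := ⟨permOf inv0Tab h1, (tab_permOf h1).mem_M24 h2⟩ with hσdef
  have hσ : Tab σ.1 inv0Tab := tab_permOf h1
  have hσσ : ∀ p, σ.1 (σ.1 p) = p := fun p => by
    apply idx_injective
    have e1 := hσ _ (idx_lt p)
    rw [pt_idx] at e1
    have e2 := hσ _ (idx_lt (σ.1 p))
    rw [pt_idx, e1, (hinv ⟨idx p, idx_lt p⟩).2.2.1] at e2
    exact e2
  have hsymm : ∀ p, σ.1.symm p = σ.1 p := fun p => by rw [Equiv.symm_apply_eq, hσσ]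
  have hvσ : ∀ p, vFun (σ.1 p) = vFun p := fun p => by
    have e1 := hσ _ (idx_lt p)
    rw [pt_idx] at e1
    simp only [vFun, e1, (hinv ⟨idx p, idx_lt p⟩).2.2.2.2]
  have hσn : σ.1 none = some 0 := idx_injective (by
    have := hσ 23 (by norm_num); rw [h23] at this; exact this)
  set v0 : leechLattice := ⟨vFun, v_mem⟩ with hv0
  set a0 : leechLattice := ⟨four none (some 0) (-4) (-4),
    (four_spec (by simp) (Or.inr rfl) (Or.inr rfl)).1⟩ with ha0
  set w0 := a0 - v0 with hw0
  have hvn : sqNorm (v0 : GolayPt → ℤ) = 48 := v_facts.1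
  have han : sqNorm (a0 : GolayPt → ℤ) = 32 := (four_spec (by simp) (Or.inr rfl) (Or.inr rfl)).2
  have hva : dotInt (a0 : GolayPt → ℤ) (v0 : GolayPt → ℤ) = 16 := by
    rw [dotInt_comm]; exact v_facts.2.2.1
  have hsum : v0 + w0 = a0 := by rw [hw0]; abel
  have hvw0 : dotInt (v0 : GolayPt → ℤ) (w0 : GolayPt → ℤ) = -32 := by
    rw [dotInt_comm, hw0, AddSubgroup.coe_sub, dotInt_sub_left', dotInt_self, hva, hvn]
    norm_num
  have hwn : sqNorm (w0 : GolayPt → ℤ) = 48 := by
    have := congrArg (fun u : leechLattice => sqNorm (u : GolayPt → ℤ)) hsum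
    simp only [AddSubgroup.coe_add, sqNorm_add, hvn, hvw0, han] at this
    omega
  obtain ⟨g1, a1, a2⟩ := exists_smul_hs hu hv hw hvw
  obtain ⟨g2, b1, b2⟩ := exists_smul_hs hu hvn hwn hvw0
  set h := g2⁻¹ * g1
  have hhv : h • v = v0 := by rw [mul_smul, a1, ← b1, inv_smul_smul]
  have hhw : h • w = w0 := by rw [mul_smul, a2, ← b2, inv_smul_smul]
  set e := permElt σ with he
  have hev : e • v0 = v0 := by
    apply Subtype.ext; funext i
    rw [he, coe_permElt_smul, hsymm]; exact hvσ i
  have hea : e • a0 = a0 := by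
    apply Subtype.ext; funext i
    rw [he, coe_permElt_smul, hsymm]
    have hs0 : σ.1 (some 0) = none := by rw [← hσn, hσσ]
    show four none (some 0) (-4) (-4) (σ.1 i) = four none (some 0) (-4) (-4) i
    by_cases hi : i = none
    · subst hi; rw [hσn]; decide +kernel
    · by_cases hi0 : i = some 0
      · subst hi0; rw [hs0]; decide +kernel
      · have q1 : σ.1 i ≠ none := fun e => hi0 (σ.1.injective (e.trans hs0.symm))
        have q2 : σ.1 i ≠ some 0 := fun e => hi (σ.1.injective (e.trans hσn.symm))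
        simp [four, Pi.single_apply, hi, hi0, q1, q2]
  have hew : e • w0 = w0 := by rw [hw0, smul_sub', hea, hev]
  refine ⟨h⁻¹ * e * h, ?_, ?_, ?_, ?_⟩
  · rw [mul_smul, mul_smul, hhv, hev, ← hhv, inv_smul_smul]
  · rw [mul_smul, mul_smul, hhw, hew, ← hhw, inv_smul_smul]
  · rw [show h⁻¹ * e * h = (MulAut.conj h⁻¹).toMonoidHom e by simp]
    rw [orderOf_injective (MulAut.conj h⁻¹).toMonoidHom (MulAut.conj h⁻¹).injective]
    refine orderOf_eq_prime ?_ ?_
    · rw [pow_two]
      refine ext_frame fun i => ?_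
      rw [one_smul, mul_smul]
      apply Subtype.ext; funext j
      rw [he, coe_permElt_smul, coe_permElt_smul, hsymm, hsymm, hσσ]
    · intro h1'
      have := congrArg (fun g : Co0 => ((g • frame none : leechLattice) : GolayPt → ℤ) none) h1'
      simp only [he, coe_permElt_smul, hsymm, hσn, one_smul] at this
      simp [frame] at this
  · rintro x hx he'
    have hy : h • x ∈ hsConfig v0 w0 := by
      rw [← hhv, ← hhw, smul_mem_hsConfig]; exact hx
    obtain ⟨y1, y2, y3⟩ := mem_hsConfig_iff.1 hy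
    rw [hsum] at y3
    have hfix : e • (h • x) = h • x := by
      have := congrArg (fun u => h • u) he'
      simpa only [mul_smul, smul_inv_smul] using this
    refine no_fixed hσ (h • x).2 y1 (fun p => ?_) y2 y3
    have := congrArg (fun u : leechLattice => (u : GolayPt → ℤ) p) hfix
    simp only [he, coe_permElt_smul, hsymm] at this
    exact this

end Cfsg.Agent.SporStructure.HS
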