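import Cfsg.Agent.SporStructure.GolayEngine

/-!
The stabiliser of a point in the dodecad stabiliser is transitive on the pairs of the complement.
-/

set_option autoImplicit false

namespace Cfsg.Agent.SporStructure.Engine

open Cfsg Cfsg.Agent.Golay

def complPairGens : List (List ℕ) :=
  [[0, 1, 18, 12, 10, 5, 23, 13, 4, 11, 9, 8, 22, 6, 21, 20, 16, 7, 3, 15, 14, 19, 2, 17],
    [0, 11, 2, 19, 9, 13, 8, 23, 5, 4, 17, 7, 16, 6, 14, 21, 3, 10, 20, 12, 15, 18, 22, 1]]

def complPairWalk : List (ℕ × ℕ) := [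
  (0, 1026),
  (0, 514),
  (0, 2050),
  (0, 258),
  (1, 2080),
  (0, 288),
  (0, 48),
  (0, 1056),
  (0, 544),
  (1, 8208),
  (0, 1088),
  (0, 8389120),
  (0, 133120),
  (0, 384),
  (1, 8388640),
  (0, 131104),
  (0, 160),
  (0, 8224),
  (0, 96),
  (1, 8448),
  (0, 80),
  (0, 8389632),
  (0, 131584),
  (0, 2176),
  (1, 8388736),
  (0, 139264),
  (0, 192),
  (0, 8396800),
  (0, 131136),
  (1, 1280),
  (0, 528),
  (0, 3072),
  (0, 768),
  (0, 2064),
  (1, 640),
  (0, 10240),
  (0, 320),
  (0, 8388624),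
  (0, 132096),
  (57, 131200),
  (0, 8320),
  (0, 8256),
  (0, 8388672),
  (0, 8519680),
  (73, 66),
  (0, 8388610),
  (0, 131074),
  (0, 130),
  (0, 8194),
  (1, 2112),
  (0, 8388864),
  (0, 131088),
  (0, 1152),
  (0, 8704),
  (17, 1536),
  (0, 2560),
  (0, 2304),
  (0, 272),
  (0, 1040),
  (25, 144),
  (0, 9216),
  (0, 576),
  (0, 8390656),
  (0, 131328),
  (65, 34)]

set_option maxRecDepth 40000 in
theorem complPair_facts : gensOk [1, 8245261] complPairGens = true ∧
    walkOk complPairGens [18] complPairWalk = true ∧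
    ((List.range 24).all fun i => (List.range 24).all fun j =>
      !(decide (i < j) && Nat.testBit 8531954 i && Nat.testBit 8531954 j) ||
        (18 :: complPairWalk.map Prod.snd).contains (2 ^ i ||| 2 ^ j)) = true := by
  decide +kernel

end Cfsg.Agent.SporStructure.Engine
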