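import Cfsg.Agent.SporStructure.GolayEngine

/-!
The normaliser of a Sylow 11-subgroup of the two point stabiliser and its orbits on the 77 octads
through the two points.
-/

set_option autoImplicit false

namespace Cfsg.Agent.SporStructure.Index56

open Cfsg.Agent.Golay

/-- The element of order 11. -/
def xTab : List ℕ := [0, 6, 15, 19, 20, 3, 8, 2, 16, 7, 18, 14, 11, 4, 5, 12, 21, 9, 1, 17, 10, 22, 13, 23]

/-- Its two long cycles start here. -/
def rep0 : ℕ := 1

/-- The second start. -/
def rep1 : ℕ := 2

/-- The cycle and the position of a point. -/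
def posTab : List (ℕ × ℕ) := [(0, 0), (0, 0), (1, 0), (1, 6), (0, 7), (1, 5), (0, 1), (1, 10), (0, 2), (1, 9), (0, 9), (1, 3), (1, 2), (0, 6), (1, 4), (1, 1), (0, 3), (1, 8), (0, 10), (1, 7), (0, 8), (0, 4), (0, 5), (0, 0)]

/-- The seven classes of octads through the two points. -/
def classes : List (List ℕ) := [
  [8412681, 9193633, 8536111, 8946281, 9048457, 9112069, 10666625, 12587685, 8431757, 8966165, 9607201],
  [8398155, 9240913, 11731203, 14747201, 14950785, 12656663, 11575377, 13636881, 9776129, 10765331, 13893731],
  [8391797, 9748745, 8983587, 10881097, 13124355, 8593633, 10486557, 14254209, 10630149, 12880401, 9465987],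
  [8421811, 9506893, 11046145, 13062145, 10496547, 12599513, 9969957, 8619033, 12325377, 12717187, 8675909],
  [8471941, 10846245, 14716939, 13121601, 8546577, 9519665, 11535529, 13370381, 9347075, 8524371, 9440193],
  [8499969, 10557585, 15747077, 12641313, 8663097, 9963547, 10110017, 8783649, 8716939, 11010247, 12747077],
  [8505411, 10506593, 12650793, 11100169, 15335473, 13771273, 8922769, 9830549, 9471495, 8688833, 8657159]]

/-- The normalising candidates that lie in the group. -/
def validList : List (ℕ × ℕ × ℕ) := [(1, 1, 2), (3, 1, 14), (4, 1, 3), (5, 1, 17), (9, 1, 5)]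

end Cfsg.Agent.SporStructure.Index56
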