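import Cfsg.Agent.SporStructure.GolayEngine

/-!
Small subgroups of `Cfsg.M24` from their elements, as packed tables (five bits for each point):
covering and homomorphisms by kernel computation.
-/

set_option autoImplicit false

namespace Cfsg.Agent.SporStructure.TableGroup

open Cfsg Cfsg.Agent.Golay
open Cfsg.Agent.SporStructure.Engine (Fix)
open scoped Pointwise

/-- The image of `i` in the packed table `t`. -/
def app (t i : ℕ) : ℕ := (t >>> (5 * i)) % 32

/-- A packed list. -/
def pack : List ℕ → ℕ
  | [] => 0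
  | a :: r => a + 32 * pack r

/-- The list of a packed table. -/
def unpack (t : ℕ) : List ℕ := (List.range 24).map (app t)

/-- The product of two packed tables, the right one first. -/
def compN (a b : ℕ) : ℕ := pack ((List.range 24).map fun i => app a (app b i))

/-- The packed identity. -/
def idN : ℕ := pack (List.range 24)

theorem app_pack : ∀ (l : List ℕ), (∀ a ∈ l, a < 32) → ∀ i, app (pack l) i = l.getD i 0
  | [], _, i => by simp [app, pack]
  | a :: r, h, 0 => by
    have := h a List.mem_cons_self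
    simp [app, pack]
    omega
  | a :: r, h, i + 1 => by
    have h1 := h a List.mem_cons_self
    have ih := app_pack r (fun x hx => h x (List.mem_cons_of_mem _ hx)) i
    simp only [app, pack, List.getD_cons_succ] at ih ⊢
    rw [← ih, show 5 * (i + 1) = 5 + 5 * i by ring, Nat.shiftRight_add]
    congr 2
    rw [Nat.shiftRight_eq_div_pow]
    omega

/-- The packed table of a permutation. -/
def enc (σ : Equiv.Perm GolayPt) : ℕ := pack ((List.range 24).map fun i => idx (σ (pt i)))

theorem app_enc (σ : Equiv.Perm GolayPt) {i : ℕ} (hi : i < 24) :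
    app (enc σ) i = idx (σ (pt i)) := by
  rw [enc, app_pack _ (fun a ha => by
    obtain ⟨j, -, rfl⟩ := List.mem_map.1 ha
    exact (idx_lt _).trans (by norm_num)), List.getD_eq_getElem _ _ (by simpa using hi)]
  simp

theorem app_enc_idx (σ : Equiv.Perm GolayPt) (p : GolayPt) : app (enc σ) (idx p) = idx (σ p) := by
  rw [app_enc σ (idx_lt p), pt_idx]

theorem enc_injective : Function.Injective enc := fun σ τ h =>
  Equiv.ext fun p => idx_injective (by rw [← app_enc_idx, h, app_enc_idx])

theorem enc_mul (σ τ : Equiv.Perm GolayPt) : enc (σ * τ) = compN (enc σ) (enc τ) := by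
  rw [compN, enc]
  refine congrArg pack (List.map_congr_left fun i hi => ?_)
  rw [app_enc τ (List.mem_range.1 hi), app_enc_idx]
  rfl

theorem enc_one : enc 1 = idN := by
  rw [enc, idN]
  refine congrArg pack ?_
  conv_rhs => rw [← List.map_id (List.range 24)]
  exact List.map_congr_left fun i hi => idx_pt (List.mem_range.1 hi)

/-- A packed table of an element of `M24` fixing the masks in `as`. -/
def genOk (as : List ℕ) (t : ℕ) : Bool :=
  isPermTab (unpack t) && checkAut (unpack t) && (as.all fun a => maps (unpack t) a a) &&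
    pack (unpack t) == t

theorem exists_of_genOk {as : List ℕ} {t : ℕ} (h : genOk as t = true) :
    ∃ σ, Fix as σ ∧ Tab σ (unpack t) ∧ enc σ = t := by
  simp only [genOk, Bool.and_eq_true, List.all_eq_true, beq_iff_eq] at h
  obtain ⟨⟨⟨h1, h2⟩, h3⟩, h4⟩ := h
  have hT := tab_permOf h1
  refine ⟨_, ⟨hT.mem_M24 h2, fun a ha => hT.smul_toSet (h3 a ha)⟩, hT, ?_⟩
  refine Eq.trans ?_ h4
  rw [enc]
  refine congrArg pack (List.map_congr_left (g := app t) fun i hi => ?_)
  rw [hT i (List.mem_range.1 hi), List.getD_eq_getElem _ _ (by simpa [unpack] using hi)]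
  simp [unpack]

/-- Search certificate: each step is a product of an earlier element with a generator. -/
def walkN (gens : List ℕ) : List ℕ → List (ℕ × ℕ) → Bool
  | _, [] => true
  | stack, (k, e) :: r =>
    match stack.drop (k / 8) with
    | [] => false
    | d :: rest => e == compN d (gens.getD (k % 8) idN) && walkN gens (e :: d :: rest) r

/-- `c⁻¹ h c`, packed. -/
def encC (c : Cfsg.M24) (h : Cfsg.M24) : ℕ := enc ((c⁻¹ * h * c : Cfsg.M24) : Equiv.Perm GolayPt)

theorem encC_one (c : Cfsg.M24) : encC c 1 = idN := by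
  rw [encC, mul_one, inv_mul_cancel, OneMemClass.coe_one, enc_one]

theorem encC_mul (c a b : Cfsg.M24) : encC c (a * b) = compN (encC c a) (encC c b) := by
  rw [encC, encC, encC, ← enc_mul, ← Subgroup.coe_mul]
  exact congrArg (fun z : Cfsg.M24 => enc (z : Equiv.Perm GolayPt)) (by group)

theorem encC_injective (c : Cfsg.M24) : Function.Injective (encC c) := fun a b h => by
  have := Subtype.ext (enc_injective h) (a1 := c⁻¹ * a * c) (a2 := c⁻¹ * b * c)
  simpa using this

theorem walkN_sound {H : Subgroup Cfsg.M24} {c : Cfsg.M24} {gens : List ℕ}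
    (hgen : ∀ t ∈ gens, ∃ h ∈ H, encC c h = t) :
    ∀ (L : List (ℕ × ℕ)) (stack : List ℕ), walkN gens stack L = true →
      (∀ d ∈ stack, ∃ h ∈ Subgroup.closure {h : Cfsg.M24 | h ∈ H ∧ encC c h ∈ gens}, encC c h = d) →
      ∀ p ∈ L, ∃ h ∈ Subgroup.closure {h : Cfsg.M24 | h ∈ H ∧ encC c h ∈ gens}, encC c h = p.2
  | [], _, _, _ => fun p hp => absurd hp List.not_mem_nil
  | (k, e) :: r, stack, hw, hs => by
    rw [walkN] at hw
    split at hw
    · exact absurd hw Bool.false_ne_true
    rename_i d rest heq
    rw [Bool.and_eq_true, beq_iff_eq] at hw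
    set K := Subgroup.closure {h : Cfsg.M24 | h ∈ H ∧ encC c h ∈ gens}
    have hmem : ∀ x ∈ d :: rest, ∃ h ∈ K, encC c h = x := fun x hx =>
      hs x (List.mem_of_mem_drop (heq ▸ hx))
    have hnew : ∃ h ∈ K, encC c h = e := by
      obtain ⟨a, ha, had⟩ := hmem d List.mem_cons_self
      rcases lt_or_ge (k % 8) gens.length with hk | hk
      · have hg : gens.getD (k % 8) idN ∈ gens := by
          rw [List.getD_eq_getElem _ _ hk]; exact List.getElem_mem _
        obtain ⟨b, hb, hbt⟩ := hgen _ hg
        exact ⟨a * b, mul_mem ha (Subgroup.subset_closure ⟨hb, hbt ▸ hg⟩),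
          by rw [encC_mul, had, hbt, hw.1]⟩
      · refine ⟨a, ha, ?_⟩
        rw [hw.1, List.getD_eq_default _ _ hk, ← encC_one c, ← had, ← encC_mul, mul_one]
    intro p hp
    rcases List.mem_cons.1 hp with rfl | hp
    · exact hnew
    · refine walkN_sound hgen r _ hw.2 ?_ p hp
      intro y hy
      rcases List.mem_cons.1 hy with rfl | hy
      · exact hnew
      · exact hmem y hy

/-- The elements of the group. -/
def elems (L : List (ℕ × ℕ)) : List ℕ := idN :: L.map Prod.snd

/-- The group is covered by the list and generated by the generators. -/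
theorem cover {H : Subgroup Cfsg.M24} {c : Cfsg.M24} {gens : List ℕ} {L : List (ℕ × ℕ)}
    (hgen : ∀ t ∈ gens, ∃ h ∈ H, encC c h = t) (hw : walkN gens [idN] L = true)
    (hnd : (elems L).Nodup) (hcard : Nat.card H = (elems L).length) :
    (∀ h ∈ H, encC c h ∈ elems L) ∧ (∀ e ∈ elems L, ∃ h ∈ H, encC c h = e) ∧
      H = Subgroup.closure {h : Cfsg.M24 | h ∈ H ∧ encC c h ∈ gens} := by
  classical
  set K := Subgroup.closure {h : Cfsg.M24 | h ∈ H ∧ encC c h ∈ gens}
  have hKH : K ≤ H := (Subgroup.closure_le _).2 fun h hh => hh.1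
  have hmem : ∀ e ∈ elems L, ∃ h ∈ K, encC c h = e := by
    intro e he
    rcases List.mem_cons.1 he with rfl | he
    · exact ⟨1, one_mem _, encC_one c⟩
    · obtain ⟨p, hp, rfl⟩ := List.mem_map.1 he
      exact walkN_sound hgen L [idN] hw (fun d hd => by
        rw [List.mem_singleton] at hd
        exact ⟨1, one_mem _, hd ▸ encC_one c⟩) p hp
  let f : (elems L).toFinset → K := fun e =>
    ⟨(hmem e.1 (List.mem_toFinset.1 e.2)).choose, (hmem e.1 (List.mem_toFinset.1 e.2)).choose_spec.1⟩
  have hf : ∀ e, encC c (f e) = e.1 := fun e => (hmem e.1 (List.mem_toFinset.1 e.2)).choose_spec.2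
  have hfi : Function.Injective f := fun a b h => Subtype.ext (by rw [← hf a, h, hf b])
  have hle := Nat.card_le_card_of_injective f hfi
  rw [Nat.card_eq_finsetCard, List.toFinset_card_of_nodup hnd, ← hcard] at hle
  have hKeq : K = H := Subgroup.eq_of_le_of_card_ge hKH hle
  refine ⟨fun h hh => ?_, fun e he => ?_, hKeq.symm⟩
  · have hbij : Function.Bijective f :=
      (Nat.bijective_iff_injective_and_card f).2 ⟨hfi, by
        rw [Nat.card_eq_finsetCard, List.toFinset_card_of_nodup hnd, hKeq, hcard]⟩
    obtain ⟨e, he⟩ := hbij.2 ⟨h, hKeq.symm ▸ hh⟩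
    have := hf e
    rw [he] at this
    exact this ▸ List.mem_toFinset.1 e.2
  · obtain ⟨h, hh, he'⟩ := hmem e he
    exact ⟨h, hKH hh, he'⟩

/-- A map of packed tables multiplicative on generators is a homomorphism. -/
theorem exists_hom {α : Type*} [Monoid α] {H : Subgroup Cfsg.M24} {c : Cfsg.M24} {gens : List ℕ}
    {L : List (ℕ × ℕ)}
    (hgen : ∀ t ∈ gens, ∃ h ∈ H, encC c h = t) (hw : walkN gens [idN] L = true)
    (hnd : (elems L).Nodup) (hcard : Nat.card H = (elems L).length) (f : ℕ → α) (h1 : f idN = 1)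
    (hmul : ∀ x ∈ elems L, ∀ g ∈ gens, f (compN x g) = f x * f g) :
    ∃ φ : H →* α, ∀ h : H, φ h = f (encC c h.1) := by
  obtain ⟨hcov, -, hK⟩ := cover hgen hw hnd hcard
  have key : ∀ b ∈ Submonoid.closure {h : Cfsg.M24 | h ∈ H ∧ encC c h ∈ gens}, ∀ a ∈ H,
      f (encC c (a * b)) = f (encC c a) * f (encC c b) := by
    intro b hb
    induction hb using Submonoid.closure_induction_right with
    | one => intro a _; rw [mul_one, encC_one, h1, mul_one]
    | mul_right x hx y hy ih =>
      intro a ha
      have hxH : x ∈ H := (Submonoid.closure_le (S := H.toSubmonoid)).2 (fun h hh => hh.1) hx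
      rw [← mul_assoc, encC_mul, hmul _ (hcov _ (H.mul_mem ha hxH)) _ hy.2, ih a ha, encC_mul c x y,
        hmul _ (hcov _ hxH) _ hy.2, mul_assoc]
  have hb : ∀ b ∈ H, b ∈ Submonoid.closure {h : Cfsg.M24 | h ∈ H ∧ encC c h ∈ gens} := fun b hb => by
    rw [← Subgroup.closure_toSubmonoid_of_finite, Subgroup.mem_toSubmonoid, ← hK]
    exact hb
  exact ⟨{ toFun := fun h => f (encC c h.1)
           map_one' := by rw [OneMemClass.coe_one, encC_one, h1]
           map_mul' := fun a b => key b.1 (hb _ b.2) a.1 a.2 }, fun _ => rfl⟩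

end Cfsg.Agent.SporStructure.TableGroup
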