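import Cfsg.Agent.SporStructure.DodecadTriples
import Cfsg.Agent.SporStructure.CertComplPairs
import Cfsg.Agent.SporStructure.TableGroup

/-!
Stabilisers in the twelve point action on the complementary dodecad: orders and base changes.
-/

set_option autoImplicit false

namespace Cfsg.Agent.SporStructure.TableGroup

open Cfsg Cfsg.Agent.Golay
open Cfsg.Agent.SporStructure.Engine
open scoped Pointwise

/-- The value listed for a packed table. -/
def look : List (ℕ × ℕ) → ℕ → ℕ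
  | [], _ => 0
  | (a, b) :: r, e => if a == e then b else look r e

theorem conj_gen {as : List ℕ} {t : ℕ} (h : genOk as t = true) (c : Cfsg.M24) :
    ∃ k : Cfsg.M24, encC c k = t ∧
      (∀ a ∈ as, k.1 • c.1 • toSet a = c.1 • toSet a) ∧
      ∃ σ : Equiv.Perm GolayPt, Tab σ (unpack t) ∧ ∀ A : Finset GolayPt, k.1 • c.1 • A = c.1 • σ • A := by
  obtain ⟨σ, hF, hT, he⟩ := exists_of_genOk h
  have key : ∀ A : Finset GolayPt,
      (c * ⟨σ, hF.1⟩ * c⁻¹ : Cfsg.M24).1 • c.1 • A = c.1 • σ • A := fun A => by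
    simp only [Subgroup.coe_mul, Subgroup.coe_inv, mul_smul, inv_smul_smul]
  refine ⟨c * ⟨σ, hF.1⟩ * c⁻¹, ?_, fun a ha => by rw [key, hF.2 a ha], σ, hT, key⟩
  have hz : ∀ X : Cfsg.M24, encC c (c * X * c⁻¹) = enc (X : Equiv.Perm GolayPt) := fun X => by
    rw [encC, show c⁻¹ * (c * X * c⁻¹) * c = X by group]
  exact (hz ⟨σ, hF.1⟩).trans he

theorem card_step_smul {X : Type*} [MulAction Cfsg.M24 X] (K : Subgroup Cfsg.M24) (p : X)
    (O : Finset X) (h1 : ∀ k ∈ K, k • p ∈ O) (h2 : ∀ x ∈ O, ∃ k ∈ K, k • p = x) :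
    Nat.card ↥(K ⊓ MulAction.stabilizer Cfsg.M24 p) * O.card = Nat.card K := by
  have e : MulAction.orbit K p = (O : Set X) := by
    ext x
    exact ⟨fun ⟨k, hk⟩ => hk ▸ h1 k.1 k.2, fun hx => let ⟨k, hk, h⟩ := h2 x hx; ⟨⟨k, hk⟩, h⟩⟩
  have he : Nat.card (MulAction.stabilizer K p) = Nat.card ↥(K ⊓ MulAction.stabilizer Cfsg.M24 p) :=
    Nat.card_congr
      { toFun := fun k => ⟨k.1.1, k.1.2, k.2⟩
        invFun := fun k => ⟨⟨k.1, k.2.1⟩, k.2.2⟩
        left_inv := fun _ => rfl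
        right_inv := fun _ => rfl }
  have := MulAction.index_stabilizer K p
  rw [e, Set.ncard_coe_finset] at this
  rw [← he, ← this, mul_comm, Subgroup.index_mul_card]

theorem apply_mem_dodecad {d : Finset GolayPt} {g : Equiv.Perm GolayPt} (h : g • d = d)
    {z : GolayPt} (hz : z ∈ d) : g z ∈ d := h ▸ Finset.smul_mem_smul_finset hz

theorem apply_notMem_dodecad {d : Finset GolayPt} {g : Equiv.Perm GolayPt} (h : g • d = d)
    {z : GolayPt} (hz : z ∉ d) : g z ∉ d := fun h' => hz (by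
  rwa [← h, ← Equiv.Perm.smul_def, Finset.smul_mem_smul_finset_iff] at h')

variable {d : Finset GolayPt} {p q q' : GolayPt}

theorem card_point_stabilizer (hd : d ∈ dodecads) (hp : p ∈ d) :
    Nat.card ↥(MulAction.stabilizer Cfsg.M24 d ⊓ MulAction.stabilizer Cfsg.M24 p) = 7920 := by
  obtain ⟨c, hc, hcd, -⟩ := exists_base_dodecad_point hd hp
  obtain ⟨⟨g0, w0, p0⟩, -⟩ := tri_facts
  have k1 := card_step (MulAction.stabilizer Cfsg.M24 d) p d
    (fun k hk => apply_mem_dodecad (show k.1 • d = d from hk) hp)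
    (fun x hx => by
      obtain ⟨g, hg, hf, hgx⟩ := pts_transitive g0 w0 p0 hc (hcd.symm ▸ hp) (hcd.symm ▸ hx)
      exact ⟨⟨g, hg⟩, hcd ▸ hf _ (by simp), hgx⟩)
  rw [card_dodecad_stabilizer hd, card_of_mem_dodecads hd] at k1
  omega

theorem point_transitive_compl (hd : d ∈ dodecads) (hp : p ∈ d) (hq : q ∉ d) (hq' : q' ∉ d) :
    ∃ g ∈ MulAction.stabilizer Cfsg.M24 d ⊓ MulAction.stabilizer Cfsg.M24 p,
      (g : Cfsg.M24).1 q = q' := by
  obtain ⟨r, hr, s, hs, hrs⟩ := Finset.one_lt_card.1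
    (show 1 < (d.erase p).card by rw [Finset.card_erase_of_mem hp, card_of_mem_dodecads hd]; norm_num)
  rw [Finset.mem_erase] at hr hs
  obtain ⟨g, hg, h⟩ := (three_points hd hp hr.2 hs.2 hr.1.symm hs.1.symm hrs).2 q hq q' hq'
  exact ⟨g, hg.1.1, h⟩

theorem compl_facts : toSet 2 = {pt 1} ∧ toSet 18 = {pt 1, pt 4} ∧ pt 1 ∉ toSet 8245261 ∧
    pt 1 ≠ pt 4 ∧ pt 4 ∉ toSet 8245261 ∧
    toSet 8531954 = (toSet 8245261)ᶜ := by decide +kernel

theorem card_L211 (hd : d ∈ dodecads) (hp : p ∈ d) (hq : q ∉ d) :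
    Nat.card ↥(MulAction.stabilizer Cfsg.M24 d ⊓ MulAction.stabilizer Cfsg.M24 p ⊓
      MulAction.stabilizer Cfsg.M24 q) = 660 := by
  have k := card_step (MulAction.stabilizer Cfsg.M24 d ⊓ MulAction.stabilizer Cfsg.M24 p) q dᶜ
    (fun k hk => Finset.mem_compl.2 (apply_notMem_dodecad (show k.1 • d = d from hk.1) hq))
    (fun x hx => by
      obtain ⟨g, hg, h⟩ := point_transitive_compl hd hp hq (Finset.mem_compl.1 hx)
      exact ⟨g, hg, h⟩)
  rw [card_point_stabilizer hd hp, Finset.card_compl, card_of_mem_dodecads hd, card_golayPt] at k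
  omega

theorem exists_base_pq (hd : d ∈ dodecads) (hp : p ∈ d) (hq : q ∉ d) :
    ∃ c ∈ Cfsg.M24, c • toSet 8245261 = d ∧ c (some 0) = p ∧ c (pt 1) = q := by
  obtain ⟨c, hc, hcd, hcp⟩ := exists_base_dodecad_point hd hp
  have h1 : c (pt 1) ∉ d := by
    rw [← hcd, ← Equiv.Perm.smul_def, Finset.smul_mem_smul_finset_iff]
    exact compl_facts.2.2.1
  obtain ⟨g, hg, h⟩ := point_transitive_compl hd hp h1 hq
  refine ⟨g.1 * c, Cfsg.M24.mul_mem g.2 hc, ?_, ?_, ?_⟩
  · rw [mul_smul, hcd]; exact hg.1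
  · rw [Equiv.Perm.mul_apply, hcp]; exact hg.2
  · rw [Equiv.Perm.mul_apply, h]

end Cfsg.Agent.SporStructure.TableGroup
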