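import Cfsg.Agent.SporStructure.DodecadBase
import Cfsg.Agent.SporStructure.CertGroupS5

/-!
The stabiliser of a dodecad, a point of it and a pair outside: `S₅`.
-/

set_option autoImplicit false

namespace Cfsg.Agent.SporStructure.TableGroup

open Cfsg Cfsg.Agent.Golay
open Cfsg.Agent.SporStructure.Engine
open scoped Pointwise

attribute [local irreducible] enc pack compN idN app elems look

variable {d : Finset GolayPt} {p q q' : GolayPt}

/-- A packed map of five points. -/
def fun5 (x : ℕ) : Fin 5 → Fin 5 := fun i => ⟨x / 5 ^ i.val % 5, Nat.mod_lt _ (by norm_num)⟩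

/-- `fun5` as an endomorphism. -/
def end5 (x : ℕ) : Function.End (Fin 5) := fun5 x

set_option maxRecDepth 40000 in
theorem hom_factsS5 : (elems walkS5).all (fun x => gensS5.all fun g => decide (∀ i : Fin 5,
      fun5 (look imgS5 (compN x g)) i = fun5 (look imgS5 x) (fun5 (look imgS5 g) i))) = true ∧
    (∀ i : Fin 5, fun5 (look imgS5 idN) i = i) ∧
    (elems walkS5).all (fun x => !decide (∀ i : Fin 5, fun5 (look imgS5 x) i = i) || x == idN) =
      true := by
  decide +kernel

theorem iso_S5 (hd : d ∈ dodecads) (hp : p ∈ d) (hq : q ∉ d) (hq' : q' ∉ d) (hne : q ≠ q') :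
    Nonempty (↥(MulAction.stabilizer Cfsg.M24 d ⊓ MulAction.stabilizer Cfsg.M24 p ⊓
      MulAction.stabilizer Cfsg.M24 ({q, q'} : Finset GolayPt)) ≃* Equiv.Perm (Fin 5)) := by
  classical
  obtain ⟨c0, hc0, hcd0, hcp0⟩ := exists_base_dodecad_point hd hp
  obtain ⟨hg, ht, hcov0⟩ := complPair_facts
  simp only [List.all_eq_true, List.mem_range, Bool.or_eq_true, Bool.not_eq_true',
    List.contains_iff_mem] at hcov0
  have hcompl : ∀ z, z ∉ d → c0⁻¹ z ∉ toSet 8245261 := fun z hz => by
    rw [← Finset.smul_mem_smul_finset_iff c0, hcd0, Equiv.Perm.smul_def, Equiv.Perm.coe_inv,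
      Equiv.apply_symm_apply]
    exact hz
  -- transitivity on pairs of the complement
  have key : ∀ a b : GolayPt, a ∉ d → b ∉ d → a ≠ b →
      ∃ g, Fix [1, 8245261] g ∧ c0 • g • toSet 18 = ({a, b} : Finset GolayPt) := by
    intro a b ha hb hab
    wlog hlt : idx (c0⁻¹ a) < idx (c0⁻¹ b) generalizing a b
    · have hne' : idx (c0⁻¹ a) ≠ idx (c0⁻¹ b) := fun h =>
        hab (c0⁻¹.injective (idx_injective h))
      obtain ⟨g, h1, h2⟩ := this b a hb ha hab.symm (by omega)
      exact ⟨g, h1, by rw [h2, Finset.pair_comm]⟩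
    have hin : ∀ z, z ∉ d → Nat.testBit 8531954 (idx (c0⁻¹ z)) = true := fun z hz => by
      rw [← mem_toSet, compl_facts.2.2.2.2.2, Finset.mem_compl]
      exact hcompl z hz
    have hm := (hcov0 _ (idx_lt (c0⁻¹ a)) _ (idx_lt (c0⁻¹ b))).resolve_left (by
      simp only [Bool.and_eq_false_iff, hin a ha, hin b hb, decide_eq_false_iff_not]
      rintro ((h | h) | h)
      · exact h hlt
      · exact Bool.noConfusion h
      · exact Bool.noConfusion h)
    obtain ⟨g, hgF, hgx⟩ := transitive_list hg ht hm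
    refine ⟨g, hgF, ?_⟩
    have e : ∀ x : GolayPt, toSet (2 ^ idx x) = {x} := fun x => by
      have := toSet_pow ⟨idx x, idx_lt x⟩
      rwa [pt_idx] at this
    rw [hgx, ← toSet_union, e, e, Finset.smul_finset_union, Finset.smul_finset_singleton,
      Finset.smul_finset_singleton, Equiv.Perm.smul_def, Equiv.Perm.smul_def, Equiv.Perm.coe_inv,
      Equiv.apply_symm_apply, Equiv.apply_symm_apply]
    rfl
  obtain ⟨g0, hg0, hpair⟩ := key q q' hq hq' hne
  set c := c0 * g0
  have hc : c ∈ Cfsg.M24 := Cfsg.M24.mul_mem hc0 hg0.1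
  have hcd : c • toSet 8245261 = d := by rw [mul_smul, hg0.2 _ (by simp), hcd0]
  have hcp : c • toSet 1 = {p} := by
    rw [mul_smul, hg0.2 _ (by simp), point_in single_facts.2.2.1 hcp0]
  have hcQ : c • toSet 18 = ({q, q'} : Finset GolayPt) := by rw [mul_smul, hpair]
  set K := MulAction.stabilizer Cfsg.M24 d ⊓ MulAction.stabilizer Cfsg.M24 p with hK
  set H := K ⊓ MulAction.stabilizer Cfsg.M24 ({q, q'} : Finset GolayPt)
  have hcardH : Nat.card H = 120 := by
    have k := card_step_smul K ({q, q'} : Finset GolayPt) (dᶜ.powersetCard 2)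
      (fun k hk => by
        rw [Finset.mem_powersetCard]
        refine ⟨fun z hz => ?_, by
          show (k.1 • ({q, q'} : Finset GolayPt)).card = 2
          rw [Finset.card_smul_finset, Finset.card_pair hne]⟩
        obtain ⟨w, hw, rfl⟩ := Finset.mem_smul_finset.1
          (show z ∈ k.1 • ({q, q'} : Finset GolayPt) from hz)
        refine Finset.mem_compl.2 (apply_notMem_dodecad (show k.1 • d = d from hk.1) ?_)
        simp only [Finset.mem_insert, Finset.mem_singleton] at hw
        rcases hw with rfl | rfl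
        · exact hq
        · exact hq')
      (fun x hx => by
        rw [Finset.mem_powersetCard] at hx
        obtain ⟨a, b, hab, rfl⟩ := Finset.card_eq_two.1 hx.2
        obtain ⟨g, hgF, hgx⟩ := key a b (Finset.mem_compl.1 (hx.1 (by simp)))
          (Finset.mem_compl.1 (hx.1 (by simp))) hab
        have hF := hgF.mul hg0.inv
        refine ⟨⟨c0 * (g * g0⁻¹) * c0⁻¹,
          Cfsg.M24.mul_mem (Cfsg.M24.mul_mem hc0 hF.1) (Cfsg.M24.inv_mem hc0)⟩, ⟨?_, ?_⟩, ?_⟩
        · show (c0 * (g * g0⁻¹) * c0⁻¹) • d = d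
          conv_lhs => rw [← hcd0, mul_smul, mul_smul, inv_smul_smul]
          rw [hF.2 _ (by simp), hcd0]
        · show (c0 * (g * g0⁻¹) * c0⁻¹) p = p
          rw [← hcp0]
          exact fix_point single_facts.2.2.1
            (by rw [mul_smul, mul_smul, inv_smul_smul, hF.2 _ (by simp)])
        · show (c0 * (g * g0⁻¹) * c0⁻¹) • ({q, q'} : Finset GolayPt) = {a, b}
          rw [← hpair, ← hgx, mul_smul, mul_smul, inv_smul_smul, mul_smul, inv_smul_smul])
    rw [hK, card_point_stabilizer hd hp, Finset.card_powersetCard, Finset.card_compl,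
      card_of_mem_dodecads hd, card_golayPt, show Nat.choose (24 - 12) 2 = 66 by decide, ← hK] at k
    show Nat.card ↥(K ⊓ MulAction.stabilizer Cfsg.M24 ({q, q'} : Finset GolayPt)) = 120
    omega
  obtain ⟨hgo, hw, hlen⟩ := group_factsS5
  obtain ⟨hmul, hid, hker⟩ := hom_factsS5
  simp only [List.all_eq_true, decide_eq_true_eq] at hgo hmul
  simp only [List.all_eq_true, Bool.or_eq_true, Bool.not_eq_true', decide_eq_false_iff_not,
    beq_iff_eq] at hker
  have hgen : ∀ t ∈ gensS5, ∃ h ∈ H, encC ⟨c, hc⟩ h = t := fun t ht => by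
    obtain ⟨k, hk, hf, -⟩ := conj_gen (hgo t ht) ⟨c, hc⟩
    refine ⟨k, ⟨⟨hcd ▸ hf _ (by simp), ?_⟩, hcQ ▸ hf _ (by simp)⟩, hk⟩
    have := hf 1 (by simp)
    rw [hcp, Finset.smul_finset_singleton] at this
    exact Finset.singleton_injective this
  have hcard : Nat.card H = (elems walkS5).length := by rw [hlen, hcardH]
  obtain ⟨hcov, -, -⟩ := cover hgen hw nodupS5 hcard
  obtain ⟨φ, hφ⟩ := exists_hom hgen hw nodupS5 hcard
    (fun e => end5 (look imgS5 e))
    (funext hid) (fun x hx g hg => funext (hmul x hx g hg))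
  let ψ : H →* Equiv.Perm (Fin 5) := (Equiv.Perm.equivUnitsEnd.symm.toMonoidHom).comp φ.toHomUnits
  have hψ : ∀ h, ⇑(ψ h) = φ h := fun h => rfl
  have hinj : Function.Injective ψ := by
    rw [injective_iff_map_eq_one]
    intro h hh
    refine Subtype.ext (encC_injective ⟨c, hc⟩ ?_)
    rw [OneMemClass.coe_one, encC_one]
    refine (hker _ (hcov h.1 h.2)).resolve_left (not_not.2 fun i => ?_)
    have := congrFun (hψ h) i
    rw [hh, hφ] at this
    exact this.symm
  exact ⟨MulEquiv.ofBijective ψ ((Nat.bijective_iff_injective_and_card ψ).2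
    ⟨hinj, by rw [hcardH, Nat.card_perm, Nat.card_fin]; rfl⟩)⟩

end Cfsg.Agent.SporStructure.TableGroup
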