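import Cfsg.Agent.SporStructure.CertHexads

/-!
Kernel checks about the 77 octads through two points and an element of order 11 fixing both.
-/

set_option autoImplicit false

namespace Cfsg.Agent.SporStructure.Index56

open Cfsg.Agent.Golay

/-- Powers of the element. -/
def powTab : ℕ → List ℕ
  | 0 => idTab
  | n + 1 => comp xTab (powTab n)

/-- The candidate sending the starts to `i`, `j` and raising the element to the power `e`. -/
def cand (e i j : ℕ) : List ℕ :=
  (List.range 24).map fun n =>
    if n == 0 || n == 23 then n else
      (powTab (e * (posTab.getD n (0, 0)).2 % 11)).getD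
        (if (posTab.getD n (0, 0)).1 == 0 then i else j) 0

def candOk (c : List ℕ) : Bool := isPermTab c && checkAut c

/-- The class containing a mask. -/
def classOf (a : ℕ) : ℕ := classes.findIdx fun o => o.contains a

/-- The class to which a candidate moves a class. -/
def moveClass (c : List ℕ) (k : ℕ) : ℕ := classOf (imgN c ((classes.getD k []).headD 0))

/-- The points in both octads other than the fixed two and `u`. -/
def restMask (a b u : ℕ) : ℕ := (a &&& b) ^^^ (8388609 ||| 2 ^ u)

set_option maxRecDepth 40000 in
theorem x_facts : isPermTab xTab = true ∧ checkAut xTab = true ∧ powTab 11 = idTab ∧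
    xTab.getD 0 0 = 0 ∧ xTab.getD 23 0 = 23 ∧ xTab.getD rep0 0 != rep0 ∧
    (List.range 24).all (fun n => (n == 0 || n == 23) ||
      ((powTab (posTab.getD n (0, 0)).2).getD
        (if (posTab.getD n (0, 0)).1 == 0 then rep0 else rep1) 0 == n &&
        (posTab.getD n (0, 0)).2 < 11)) = true := by
  decide +kernel

set_option maxRecDepth 40000 in
theorem cand_facts : (List.range 11).all (fun e => e == 0 || [rep0, rep1].all fun i =>
    (List.range 24).all fun j => j == 0 || j == 23 ||
      !candOk (cand e i j) || validList.contains (e, i, j)) = true := by
  decide +kernel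

set_option maxRecDepth 40000 in
theorem valid_facts : validList.length = 5 ∧ validList.head? = some (1, rep0, rep1) ∧
    cand 1 rep0 rep1 = idTab ∧
    validList.all (fun v => (List.range 7).all fun k => (classes.getD k []).all fun a =>
      (classes.getD (moveClass (cand v.1 v.2.1 v.2.2) k) []).any fun b =>
        maps (cand v.1 v.2.1 v.2.2) a b) = true ∧
    validList.all (fun v => v.1 == 1 || (List.range 5).all fun k =>
      [2, 3, 4, 5, 6].all fun l =>
        (List.range 5).any fun t =>
          (List.range t).foldl (fun r _ => moveClass (cand v.1 v.2.1 v.2.2) r) (k + 2) == l) = true ∧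
    validList.all (fun v => moveClass (cand v.1 v.2.1 v.2.2) 0 == 0 &&
      moveClass (cand v.1 v.2.1 v.2.2) 1 == 1) = true := by
  decide +kernel

set_option maxRecDepth 40000 in
theorem class_facts : classes.length = 7 ∧
    classes.all (fun o => o.length == 11 && decide o.Nodup &&
      (List.range 11).all fun k => maps xTab (o.getD k 0) (o.getD ((k + 1) % 11) 0)) = true ∧
    (classes.flatMap id).length = 77 ∧ decide (classes.flatMap id).Nodup = true ∧
    (Engine.classMasks 8 [(1, 1), (8388608, 1)]).all (fun a => (classes.flatMap id).contains a) = true ∧
    (classes.flatMap id).all (fun a => decide (a < 2 ^ 24) && inCode a && popc a == 8 &&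
      a &&& 8388609 == 8388609) = true := by
  decide +kernel

set_option maxRecDepth 40000 in
theorem side_facts :
    (classes.getD 0 [] ++ classes.getD 1 []).all (fun a =>
      (classes.getD 0 [] ++ classes.getD 1 []).all fun b =>
        ((classes.getD 0 [] ++ classes.getD 1 []).any fun k =>
          a &&& k == 8388609 && b &&& k == 8388609) ==
        ((classes.getD 0 []).contains a == (classes.getD 0 []).contains b)) = true := by
  decide +kernel

set_option maxRecDepth 40000 in
theorem five_facts : [classes.getD 0 [], classes.getD 1 []].all (fun o =>
    o.all fun a => o.all fun b => a == b || (List.range 24).any fun u =>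
      u != 0 && u != 23 && a.testBit u && b.testBit u && popc (restMask a b u) == 1 &&
      (o.filter fun c => c.testBit u).length == 5 &&
      ((o.filter fun c => c.testBit u).all fun c => (o.filter fun c => c.testBit u).all fun c' =>
        c == c' || popc (restMask c c' u) == 1) &&
      9 ≤ popc ((o.filter fun c => c.testBit u).foldl (fun r c =>
        r ||| (o.filter fun c' => c'.testBit u && c' != c).foldl
          (fun r' c' => r' ||| restMask c c' u) 0) (8388609 ||| 2 ^ u))) = true := by
  decide +kernel

end Cfsg.Agent.SporStructure.Index56
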