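import Mathlib

/-!
Poisson summation for the Gaussian of a positive definite real matrix.
-/

set_option autoImplicit false
set_option linter.all false

namespace Cfsg.Agent.SporStructure.Theta

open Matrix MeasureTheory Complex Set
open scoped Real ComplexOrder MatrixOrder

noncomputable section

variable {n : ℕ}

/-- The value of the form. -/
def qf (M : Matrix (Fin n) (Fin n) ℝ) (v : Fin n → ℝ) : ℝ := v ⬝ᵥ M *ᵥ v

/-- Integer vectors as real vectors. -/
def toR (x : Fin n → ℤ) : Fin n → ℝ := fun i => (x i : ℝ)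

theorem summable_exp_neg_int_sq {b : ℝ} (hb : 0 < b) :
    Summable fun x : ℤ => Real.exp (-b * (x : ℝ) ^ 2) := by
  have h : Summable fun x : ℕ => Real.exp (-b * (x : ℝ) ^ 2) := by
    refine Summable.of_nonneg_of_le (fun x => (Real.exp_pos _).le) (fun x => ?_)
      (Real.summable_exp_nat_mul_iff.2 (neg_lt_zero.2 hb))
    apply Real.exp_le_exp.2
    have : (x : ℝ) ≤ (x : ℝ) ^ 2 := by
      rcases Nat.eq_zero_or_pos x with rfl | hx
      · simp
      · have : (1 : ℝ) ≤ x := by exact_mod_cast hx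
        nlinarith
    nlinarith
  exact Summable.of_nat_of_neg (by simpa using h) (by simpa using h)

theorem summable_exp_neg_sum_sq : ∀ (n : ℕ) {b : ℝ}, 0 < b →
    Summable fun x : Fin n → ℤ => Real.exp (-b * ∑ i, (x i : ℝ) ^ 2)
  | 0, b, _ => Summable.of_finite
  | n + 1, b, hb => by
    have h := (summable_exp_neg_int_sq hb).mul_of_nonneg (summable_exp_neg_sum_sq n hb)
      (fun _ => (Real.exp_pos _).le) (fun _ => (Real.exp_pos _).le)
    rw [← (Fin.consEquiv fun _ : Fin (n + 1) => ℤ).summable_iff]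
    refine h.congr fun p => ?_
    rw [← Real.exp_add]
    simp [Fin.sum_univ_succ, mul_add, Fin.consEquiv]

theorem qf_symm {M : Matrix (Fin n) (Fin n) ℝ} (hM : M.IsSymm) (u v : Fin n → ℝ) :
    u ⬝ᵥ M *ᵥ v = v ⬝ᵥ M *ᵥ u := by
  rw [dotProduct_mulVec, ← mulVec_transpose, hM.eq, dotProduct_comm]

/-- Each coordinate is bounded by the form. -/
theorem sq_le_qf {M : Matrix (Fin n) (Fin n) ℝ} (hM : M.PosDef) (i : Fin n) (v : Fin n → ℝ) :
    v i ^ 2 ≤ M⁻¹ i i * qf M v := by
  classical
  have hs : M.IsSymm := by simpa [Matrix.IsSymm, Matrix.IsHermitian] using hM.isHermitian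
  set u := M⁻¹ *ᵥ (Pi.single i (1 : ℝ)) with hu
  have hMu : M *ᵥ u = Pi.single i 1 := by
    rw [hu, mulVec_mulVec, Matrix.mul_nonsing_inv _ ((Matrix.isUnit_iff_isUnit_det M).1 hM.isUnit),
      one_mulVec]
  have huu : u ⬝ᵥ M *ᵥ u = M⁻¹ i i := by
    rw [hMu, dotProduct_single, mul_one, hu, mulVec_single]
    simp
  have hu0 : 0 < M⁻¹ i i := hM.inv.diag_pos
  have hvu : v ⬝ᵥ M *ᵥ u = v i := by rw [hMu, dotProduct_single, mul_one]
  have huv : u ⬝ᵥ M *ᵥ v = v i := by rw [qf_symm hs, hvu]
  have key := hM.posSemidef.dotProduct_mulVec_nonneg (M⁻¹ i i • v - v i • u)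
  simp only [star_trivial, mulVec_sub, mulVec_smul, sub_dotProduct, dotProduct_sub, smul_dotProduct,
    dotProduct_smul, smul_eq_mul, huu, hvu, huv] at key
  have : 0 ≤ M⁻¹ i i * (M⁻¹ i i * qf M v - v i ^ 2) := by
    unfold qf
    nlinarith [key]
  nlinarith [this, hu0]

theorem sum_sq_le_qf {M : Matrix (Fin n) (Fin n) ℝ} (hM : M.PosDef) (v : Fin n → ℝ) :
    ∑ i, v i ^ 2 ≤ (∑ i, M⁻¹ i i + 1) * qf M v := by
  have hq : 0 ≤ qf M v := by
    have := hM.posSemidef.dotProduct_mulVec_nonneg v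
    simpa [qf] using this
  calc ∑ i, v i ^ 2 ≤ ∑ i, M⁻¹ i i * qf M v := Finset.sum_le_sum fun i _ => sq_le_qf hM i v
    _ = (∑ i, M⁻¹ i i) * qf M v := by rw [Finset.sum_mul]
    _ ≤ _ := by nlinarith

/-- A positive constant `c` with `c ‖v‖² ≤ qf M v`. -/
def lowC (M : Matrix (Fin n) (Fin n) ℝ) : ℝ := (∑ i, M⁻¹ i i + 1)⁻¹

theorem lowC_pos {M : Matrix (Fin n) (Fin n) ℝ} (hM : M.PosDef) : 0 < lowC M :=
  inv_pos.2 (add_pos_of_nonneg_of_pos (Finset.sum_nonneg fun i _ => hM.inv.diag_pos.le) one_pos)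

theorem lowC_le {M : Matrix (Fin n) (Fin n) ℝ} (hM : M.PosDef) (v : Fin n → ℝ) :
    lowC M * ∑ i, v i ^ 2 ≤ qf M v := by
  have h1 := sum_sq_le_qf hM v
  have h2 : 0 < ∑ i, M⁻¹ i i + 1 :=
    add_pos_of_nonneg_of_pos (Finset.sum_nonneg fun i _ => hM.inv.diag_pos.le) one_pos
  rw [lowC, inv_mul_le_iff₀ h2]
  exact h1

theorem summable_exp_qf {M : Matrix (Fin n) (Fin n) ℝ} (hM : M.PosDef) :
    Summable fun x : Fin n → ℤ => Real.exp (-π * qf M (toR x)) := by
  refine Summable.of_nonneg_of_le (fun x => (Real.exp_pos _).le) (fun x => ?_)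
    (summable_exp_neg_sum_sq n (mul_pos Real.pi_pos (lowC_pos hM)))
  apply Real.exp_le_exp.2
  have := mul_le_mul_of_nonneg_left (lowC_le hM (toR x)) Real.pi_pos.le
  simp only [toR] at this ⊢
  nlinarith

/-- The character `v ↦ exp(-2πi k·v)`. -/
def ch (k : Fin n → ℤ) (v : Fin n → ℝ) : ℂ := cexp (-(2 * π * I) * ((toR k ⬝ᵥ v : ℝ) : ℂ))

theorem norm_ch (k : Fin n → ℤ) (v : Fin n → ℝ) : ‖ch k v‖ = 1 := by
  rw [ch, Complex.norm_exp]
  simp

theorem ch_add_int (k x : Fin n → ℤ) (v : Fin n → ℝ) : ch k (v + toR x) = ch k v := by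
  rw [ch, ch, dotProduct_add, Complex.ofReal_add, mul_add, Complex.exp_add]
  have : cexp (-(2 * π * I) * ((toR k ⬝ᵥ toR x : ℝ) : ℂ)) = 1 := by
    have h : (toR k ⬝ᵥ toR x : ℝ) = ((∑ i, k i * x i : ℤ) : ℝ) := by
      simp [toR, dotProduct]
    rw [h, Complex.ofReal_intCast, show -(2 * (π : ℂ) * I) * ((∑ i, k i * x i : ℤ) : ℂ) =
      ((-(∑ i, k i * x i) : ℤ) : ℂ) * (2 * π * I) by push_cast; ring]
    exact Complex.exp_int_mul_two_pi_mul_I _
  rw [this, mul_one]

/-- Fourier integrand. -/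
def phi (M : Matrix (Fin n) (Fin n) ℝ) (k : Fin n → ℤ) (v : Fin n → ℝ) : ℂ :=
  ch k v * (Real.exp (-π * qf M v) : ℂ)

theorem norm_phi (M : Matrix (Fin n) (Fin n) ℝ) (k : Fin n → ℤ) (v : Fin n → ℝ) :
    ‖phi M k v‖ = Real.exp (-π * qf M v) := by
  rw [phi, norm_mul, norm_ch, one_mul, Complex.norm_real, Real.norm_eq_abs, Real.abs_exp]

theorem continuous_qf (M : Matrix (Fin n) (Fin n) ℝ) : Continuous (qf M) := by
  unfold qf; fun_prop

theorem continuous_phi (M : Matrix (Fin n) (Fin n) ℝ) (k : Fin n → ℤ) : Continuous (phi M k) := by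
  unfold phi ch qf; fun_prop

theorem integrable_phi {M : Matrix (Fin n) (Fin n) ℝ} (hM : M.PosDef) (k : Fin n → ℤ) :
    Integrable (phi M k) := by
  have hb : 0 < ((π * lowC M : ℝ) : ℂ).re := by
    rw [Complex.ofReal_re]; exact mul_pos Real.pi_pos (lowC_pos hM)
  refine Integrable.mono (GaussianFourier.integrable_cexp_neg_mul_sum_add hb (fun _ : Fin n => 0))
    (continuous_phi M k).aestronglyMeasurable (Filter.Eventually.of_forall fun v => ?_)
  rw [norm_phi, Complex.norm_exp]
  apply Real.exp_le_exp.2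
  have := mul_le_mul_of_nonneg_left (lowC_le hM v) Real.pi_pos.le
  simp only [zero_mul, Finset.sum_const_zero, add_zero, ← Complex.ofReal_pow, ← Complex.ofReal_sum,
    ← Complex.ofReal_neg, ← Complex.ofReal_mul, Complex.ofReal_re]
  nlinarith

/-- Fourier transform of the Gaussian. -/
theorem integral_phi {M : Matrix (Fin n) (Fin n) ℝ} (hM : M.PosDef) (k : Fin n → ℤ) :
    ∫ v, phi M k v = ((Real.sqrt M.det)⁻¹ * Real.exp (-π * qf M⁻¹ (toR k)) : ℝ) := by
  classical
  obtain ⟨C, hC⟩ := CStarAlgebra.nonneg_iff_eq_star_mul_self.mp hM.posSemidef.nonneg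
  have hCC : M = Cᵀ * C := by rw [hC]; simp [Matrix.star_eq_conjTranspose]
  have hdet : M.det = C.det ^ 2 := by rw [hCC, det_mul, det_transpose, sq]
  have hC0 : C.det ≠ 0 := by
    intro h; have := hM.det_pos; rw [hdet, h] at this; simp at this
  have hCu : IsUnit C.det := isUnit_iff_ne_zero.2 hC0
  have hsqrt : Real.sqrt M.det = |C.det| := by rw [hdet, Real.sqrt_sq_eq_abs]
  set w : Fin n → ℝ := (C⁻¹)ᵀ *ᵥ toR k with hw
  let f : (Fin n → ℝ) → ℂ := fun u =>
    cexp (-(π : ℂ) * ∑ i, (u i : ℂ) ^ 2 + ∑ i, (-(2 * π * I) * (w i : ℂ)) * u i)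
  have hphi : ∀ v, phi M k v = f (C *ᵥ v) := by
    intro v
    have h1 : qf M v = ∑ i, (C *ᵥ v) i ^ 2 := by
      rw [qf, hCC, ← mulVec_mulVec, dotProduct_mulVec, vecMul_transpose]
      simp [dotProduct, sq]
    have h2 : toR k ⬝ᵥ v = ∑ i, w i * (C *ᵥ v) i := by
      show toR k ⬝ᵥ v = w ⬝ᵥ (C *ᵥ v)
      rw [hw, mulVec_transpose, ← dotProduct_mulVec, mulVec_mulVec, Matrix.nonsing_inv_mul _ hCu,
        one_mulVec]
    simp only [phi, ch, f, h1, h2, Complex.ofReal_exp, ← Complex.exp_add]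
    congr 1
    push_cast
    simp only [Finset.mul_sum, mul_assoc]
    ring
  have hmap := Real.map_matrix_volume_pi_eq_smul_volume_pi hC0
  have hfc : Continuous f := by simp only [f]; fun_prop
  have hint : ∫ v, phi M k v = |C.det|⁻¹ • ∫ u, f u := by
    rw [← abs_inv]
    have hlin : Continuous (Matrix.toLin' C) := LinearMap.continuous_of_finiteDimensional _
    have := integral_map (μ := volume) hlin.measurable.aemeasurable (f := f)
      hfc.aestronglyMeasurable
    rw [hmap, integral_smul_measure, ENNReal.toReal_ofReal (abs_nonneg _)] at this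
    rw [this]
    exact integral_congr_ae (Filter.Eventually.of_forall fun v => by rw [hphi]; simp)
  rw [hint, hsqrt]
  have hpi : 0 < (π : ℂ).re := by rw [Complex.ofReal_re]; exact Real.pi_pos
  rw [GaussianFourier.integral_cexp_neg_mul_sum_add hpi,
    div_self (by exact_mod_cast Real.pi_ne_zero), Complex.one_cpow, one_mul]
  have h3 : qf M⁻¹ (toR k) = ∑ i, w i ^ 2 := by
    rw [qf, hCC, Matrix.mul_inv_rev, ← transpose_nonsing_inv, ← mulVec_mulVec, dotProduct_mulVec,
      ← mulVec_transpose, hw]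
    simp [dotProduct, sq]
  rw [h3, Complex.real_smul]
  push_cast
  congr 1
  congr 1
  rw [Finset.mul_sum, Finset.sum_div]
  refine Finset.sum_congr rfl fun i _ => ?_
  have : (π : ℂ) ≠ 0 := by exact_mod_cast Real.pi_ne_zero
  field_simp
  ring_nf
  rw [I_sq]
  ring

/-- The projection to the torus. -/
def toTorus (v : Fin n → ℝ) : UnitAddTorus (Fin n) := fun i => (v i : UnitAddCircle)

theorem isOpenQuotientMap_toTorus : IsOpenQuotientMap (toTorus (n := n)) := by
  have hs : Function.Surjective fun r : ℝ => (r : UnitAddCircle) := QuotientAddGroup.mk_surjective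
  have ho : IsOpenQuotientMap fun r : ℝ => (r : UnitAddCircle) := QuotientAddGroup.isOpenQuotientMap_mk
  refine ⟨fun z => ⟨fun i => (hs (z i)).choose, funext fun i => (hs (z i)).choose_spec⟩,
    continuous_pi fun i => ho.continuous.comp (continuous_apply i), ?_⟩
  exact IsOpenMap.piMap (fun _ => ho.isOpenMap) (Filter.Eventually.of_forall fun _ => hs)

theorem exists_int_of_toTorus_eq {u v : Fin n → ℝ} (h : toTorus u = toTorus v) :
    ∃ x : Fin n → ℤ, v = u + toR x := by
  have h' : ∀ i, ∃ z : ℤ, v i = u i + z := fun i => by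
    have := congrFun h i
    simp only [toTorus, QuotientAddGroup.eq, AddSubgroup.mem_zmultiples_iff] at this
    obtain ⟨z, hz⟩ := this
    exact ⟨z, by simp only [zsmul_one] at hz; linarith⟩
  choose x hx using h'
  exact ⟨x, funext hx⟩

/-- The periodisation of the Gaussian. -/
def per (M : Matrix (Fin n) (Fin n) ℝ) (v : Fin n → ℝ) : ℂ :=
  ∑' x : Fin n → ℤ, (Real.exp (-π * qf M (v + toR x)) : ℂ)

theorem per_add_int (M : Matrix (Fin n) (Fin n) ℝ) (x : Fin n → ℤ) (v : Fin n → ℝ) :
    per M (v + toR x) = per M v := by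
  rw [per, per, ← (Equiv.addLeft x).tsum_eq
    fun y : Fin n → ℤ => (Real.exp (-π * qf M (v + toR y)) : ℂ)]
  refine tsum_congr fun y => ?_
  have : toR (x + y) = toR x + toR y := by funext i; simp [toR]
  simp [this, add_assoc]

theorem continuous_per {M : Matrix (Fin n) (Fin n) ℝ} (hM : M.PosDef) : Continuous (per M) := by
  rw [continuous_iff_continuousAt]
  intro a
  set R : ℝ := ‖a‖ + 1
  have hcont : ContinuousOn (per M) (Metric.ball a 1) := by
    refine continuousOn_tsum (u := fun x : Fin n → ℤ =>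
      Real.exp (π * lowC M * (n * R ^ 2)) * Real.exp (-(π * lowC M / 2) * ∑ i, (x i : ℝ) ^ 2))
      (fun x => Continuous.continuousOn (by unfold qf; fun_prop))
      ((summable_exp_neg_sum_sq n (by have := mul_pos Real.pi_pos (lowC_pos hM); linarith)).mul_left _)
      fun x v hv => ?_
    rw [Complex.norm_real, Real.norm_eq_abs, Real.abs_exp, ← Real.exp_add]
    apply Real.exp_le_exp.2
    have hv' : ∀ i, |v i| ≤ R := fun i => by
      have h1 : ‖v - a‖ < 1 := by rwa [← dist_eq_norm, ← Metric.mem_ball]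
      have h2 : ‖v‖ ≤ R := by
        have := norm_le_norm_add_norm_sub' v a
        simp only [R]; linarith
      exact (norm_le_pi_norm v i).trans h2
    have hlow := lowC_le hM (v + toR x)
    have hsum : ∑ i, (x i : ℝ) ^ 2 / 2 ≤ ∑ i, ((v + toR x) i ^ 2 + R ^ 2) := by
      refine Finset.sum_le_sum fun i _ => ?_
      have := hv' i
      rw [abs_le] at this
      simp only [Pi.add_apply, toR]
      nlinarith [sq_nonneg (2 * v i + (x i : ℝ))]
    rw [Finset.sum_add_distrib, ← Finset.sum_div, Finset.sum_const, Finset.card_univ,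
      Fintype.card_fin, nsmul_eq_mul] at hsum
    have hc := lowC_pos hM
    nlinarith [mul_le_mul_of_nonneg_left hsum (mul_pos Real.pi_pos hc).le,
      mul_le_mul_of_nonneg_left hlow Real.pi_pos.le]
  exact hcont.continuousAt (Metric.ball_mem_nhds a one_pos)

/-- The half open unit cube translated by an integer vector. -/
def cube (x : Fin n → ℤ) : Set (Fin n → ℝ) := {v | ∀ i, v i ∈ Ioc ((x i : ℝ)) ((x i : ℝ) + 1)}

theorem measurableSet_cube (x : Fin n → ℤ) : MeasurableSet (cube x) := by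
  have : cube x = Set.univ.pi fun i => Ioc ((x i : ℝ)) ((x i : ℝ) + 1) := by
    ext v; simp [cube]
  rw [this]
  exact MeasurableSet.univ_pi fun i => measurableSet_Ioc

theorem cube_disjoint : Pairwise (Function.onFun Disjoint (cube (n := n))) := by
  intro x y hxy
  refine Set.disjoint_left.2 fun v hx hy => hxy (funext fun i => ?_)
  have h1 := hx i; have h2 := hy i
  have e1 : (x i : ℝ) < (y i : ℝ) + 1 := lt_of_lt_of_le h1.1 h2.2
  have e2 : (y i : ℝ) < (x i : ℝ) + 1 := lt_of_lt_of_le h2.1 h1.2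
  have f1 : x i < y i + 1 := by exact_mod_cast e1
  have f2 : y i < x i + 1 := by exact_mod_cast e2
  omega

theorem cube_union : (⋃ x : Fin n → ℤ, cube x) = Set.univ := by
  refine Set.eq_univ_of_forall fun v => Set.mem_iUnion.2 ⟨fun i => ⌈v i⌉ - 1, fun i => ?_⟩
  push_cast
  exact ⟨by linarith [Int.ceil_lt_add_one (v i)], by linarith [Int.le_ceil (v i)]⟩

theorem integral_cube_shift {E : Type*} [NormedAddCommGroup E] [NormedSpace ℝ E]
    (f : (Fin n → ℝ) → E) (x : Fin n → ℤ) :
    ∫ v in cube 0, f (v + toR x) = ∫ v in cube x, f v := by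
  have h := (measurePreserving_add_right (volume : Measure (Fin n → ℝ)) (toR x))
  rw [← h.setIntegral_preimage_emb (measurableEmbedding_addRight (toR x)) f (cube x)]
  congr 2
  ext v
  simp only [Set.mem_preimage, cube, Set.mem_ofPred_eq, Pi.zero_apply, Int.cast_zero, zero_add,
    Pi.add_apply, toR, Set.mem_Ioc]
  exact forall_congr' fun i => ⟨fun h => ⟨by linarith [h.1], by linarith [h.2]⟩,
    fun h => ⟨by linarith [h.1], by linarith [h.2]⟩⟩

theorem mFourier_neg_toTorus (k : Fin n → ℤ) (v : Fin n → ℝ) :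
    UnitAddTorus.mFourier (-k) (toTorus v) = ch k v := by
  simp only [UnitAddTorus.mFourier, ContinuousMap.coe_mk, toTorus, fourier_coe_apply, ← Complex.exp_sum,
    ch, dotProduct, toR]
  congr 1
  push_cast
  rw [Finset.mul_sum]
  refine Finset.sum_congr rfl fun i _ => ?_
  simp
  ring

/-- **Poisson summation** for a positive definite Gaussian. -/
theorem poisson {M : Matrix (Fin n) (Fin n) ℝ} (hM : M.PosDef) :
    ∑' x : Fin n → ℤ, Real.exp (-π * qf M (toR x)) =
      (Real.sqrt M.det)⁻¹ * ∑' k : Fin n → ℤ, Real.exp (-π * qf M⁻¹ (toR k)) := by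
  classical
  have hq := isOpenQuotientMap_toTorus (n := n)
  let rep := Function.surjInv hq.surjective
  have hrep : ∀ v, per M (rep (toTorus v)) = per M v := fun v => by
    obtain ⟨x, hx⟩ := exists_int_of_toTorus_eq (Function.surjInv_eq hq.surjective (toTorus v))
    calc per M (rep (toTorus v)) = per M (rep (toTorus v) + toR x) := (per_add_int M x _).symm
      _ = per M v := by rw [← hx]
  let F : C(UnitAddTorus (Fin n), ℂ) :=
    ⟨fun z => per M (rep z), hq.isQuotientMap.continuous_iff.2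
      (by simpa only [Function.comp_def, hrep] using continuous_per hM)⟩
  have hcoef : ∀ k : Fin n → ℤ, UnitAddTorus.mFourierCoeff F k =
      ((Real.sqrt M.det)⁻¹ * Real.exp (-π * qf M⁻¹ (toR k)) : ℝ) := by
    intro k
    rw [← integral_phi hM k, UnitAddTorus.mFourierCoeff_eq_integral _ k 0]
    have hset : {v : Fin n → ℝ | ∀ i, v i ∈ Ioc ((0 : Fin n → ℝ) i) ((0 : Fin n → ℝ) i + 1)} =
        cube 0 := by ext v; simp [cube]
    rw [hset]
    have hint : ∀ v, UnitAddTorus.mFourier (-k) (toTorus v) • F (toTorus v) =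
        ∑' x : Fin n → ℤ, phi M k (v + toR x) := by
      intro v
      show _ • per M (rep (toTorus v)) = _
      rw [hrep, mFourier_neg_toTorus, smul_eq_mul, per, ← tsum_mul_left]
      exact tsum_congr fun x => by rw [phi, ch_add_int]
    have hI := integrable_phi hM k
    have hsum : HasSum (fun x => ∫ v in cube x, phi M k v) (∫ v, phi M k v) := by
      have := hasSum_integral_iUnion (fun x => measurableSet_cube x) cube_disjoint hI.integrableOn
      rwa [cube_union, setIntegral_univ] at this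
    have hnorm : Summable fun x => ∫ v in cube 0, ‖phi M k (v + toR x)‖ := by
      have := hasSum_integral_iUnion (fun x => measurableSet_cube (n := n) x) cube_disjoint
        hI.norm.integrableOn
      exact (this.summable).congr fun x => (integral_cube_shift (fun v => ‖phi M k v‖) x).symm
    calc ∫ v in cube 0, UnitAddTorus.mFourier (-k) (fun i => ((v i : ℝ) : UnitAddCircle)) •
          F (fun i => ((v i : ℝ) : UnitAddCircle))
        = ∫ v in cube 0, ∑' x : Fin n → ℤ, phi M k (v + toR x) :=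
          integral_congr_ae (Filter.Eventually.of_forall hint)
      _ = ∑' x : Fin n → ℤ, ∫ v in cube 0, phi M k (v + toR x) :=
          (integral_tsum_of_summable_integral_norm
            (fun x => (hI.comp_add_right (toR x)).integrableOn) hnorm).symm
      _ = ∑' x : Fin n → ℤ, ∫ v in cube x, phi M k v :=
          tsum_congr fun x => integral_cube_shift (phi M k) x
      _ = _ := hsum.tsum_eq
  have hs : Summable (UnitAddTorus.mFourierCoeff F) := by
    rw [funext hcoef]
    exact Complex.summable_ofReal.2 ((summable_exp_qf hM.inv).mul_left _)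
  have hval := UnitAddTorus.hasSum_mFourier_series_apply_of_summable hs (toTorus 0)
  have h0 : ∀ k : Fin n → ℤ, UnitAddTorus.mFourier k (toTorus 0) = 1 := fun k => by
    simp [UnitAddTorus.mFourier, toTorus, fourier_coe_apply]
  have hF0 : F (toTorus 0) = per M 0 := hrep 0
  simp only [h0, smul_eq_mul, mul_one, hcoef, hF0] at hval
  have := hval.tsum_eq
  simp only [per, zero_add] at this
  rw [← Complex.ofReal_tsum, ← Complex.ofReal_tsum, Complex.ofReal_inj, tsum_mul_left] at this
  exact this.symm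

end

end Cfsg.Agent.SporStructure.Theta
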