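import Cfsg.Agent.SporStructure.DodecadBase
import Cfsg.Agent.SporStructure.Quartets
import Cfsg.Agent.SporStructure.CertGroupQuad
import Mathlib.LinearAlgebra.Matrix.GeneralLinearGroup.Card

/-!
The stabiliser of a quartet in the dodecad stabiliser: order 432, quotient `GL(2, 3)`, orbits.
-/

set_option autoImplicit false

namespace Cfsg.Agent.SporStructure.TableGroup

open Cfsg Cfsg.Agent.Golay
open Cfsg.Agent.SporStructure.Engine
open scoped Pointwise

attribute [local irreducible] enc pack compN idN app elems look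

/-- Representatives of the orbits on quartets. -/
def orbReps : List (List ℕ × ℕ × ℕ) :=
  [([13, 622592, 3407872, 4214784], 1, 432), ([13, 299008, 1589248, 6356992], 12, 36),
    ([4101, 851968, 3178496, 4210696], 27, 16), ([4101, 573440, 1114120, 6553600], 72, 6),
    ([4101, 294920, 2179072, 5767168], 108, 4)]

/-- The table carries the masks of `L` into those of `M`. -/
def into (l : List ℕ) (L M : List ℕ) : Bool := L.all fun u => M.any fun v => maps l u v

set_option maxRecDepth 40000 in
theorem orbRep_facts : orbReps.all (fun r => r.1.length == 4 && decide (r.1.map toSet).Nodup &&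
      r.1.all (fun u => popc u == 3 && (u &&& 8245261) == u &&
        r.1.all fun v => u == v || hexList.contains (u ||| v))) = true ∧
    gensQuad.all (fun t => into (unpack t) [13, 622592, 3407872, 4214784]
      [13, 622592, 3407872, 4214784]) = true ∧
    orbReps.all (fun r =>
      (elems walkQuad).countP (fun e => into (unpack e) r.1 r.1) == r.2.2) = true ∧
    (List.range 5).all (fun i => (List.range 5).all fun j => i == j ||
      (elems walkQuad).all fun e => !into (unpack e) (orbReps.getD i ([], 0, 0)).1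
        (orbReps.getD j ([], 0, 0)).1) = true ∧
    (List.range 24).all (fun i => !Nat.testBit 8245261 i ||
      (elems walkQuad).any (fun e => app e 0 == i)) = true := by
  decide +kernel

theorem maps_iff {σ : Equiv.Perm GolayPt} {l : List ℕ} (h : Tab σ l) {u v : ℕ} :
    maps l u v = true ↔ σ • toSet u = toSet v := by
  refine ⟨h.smul_toSet, fun he => ?_⟩
  simp only [maps, List.all_eq_true, List.mem_range, beq_iff_eq]
  intro i hi
  have := Finset.ext_iff.1 he (σ (pt i))
  rw [← Equiv.Perm.smul_def, Finset.smul_mem_smul_finset_iff, mem_toSet, mem_toSet,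
    Equiv.Perm.smul_def, idx_pt hi, h i hi] at this
  exact (Bool.eq_iff_iff.2 this).symm

theorem into_iff {σ : Equiv.Perm GolayPt} {l : List ℕ} (h : Tab σ l) {L M : List ℕ} :
    into l L M = true ↔ σ • qset L ⊆ qset M := by
  simp only [into, List.all_eq_true, List.any_eq_true]
  constructor
  · intro hi X hX
    obtain ⟨Y, hY, rfl⟩ := Finset.mem_smul_finset.1 hX
    obtain ⟨u, hu, rfl⟩ := mem_qset.1 hY
    obtain ⟨v, hv, hm⟩ := hi u hu
    exact mem_qset.2 ⟨v, hv, (h.smul_toSet hm).symm⟩
  · intro hs u hu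
    obtain ⟨v, hv, e⟩ := mem_qset.1 (hs (Finset.smul_mem_smul_finset (mem_qset.2 ⟨u, hu, rfl⟩)))
    exact ⟨v, hv, (maps_iff h).2 e.symm⟩

theorem tab_unpack_enc (σ : Equiv.Perm GolayPt) : Tab σ (unpack (enc σ)) := fun i hi => by
  rw [unpack, getD_map_range _ hi, app_enc σ hi]

theorem orbRep_quartet {r : List ℕ × ℕ × ℕ} (hr : r ∈ orbReps) :
    qset r.1 ∈ quartets (toSet 8245261) := by
  obtain ⟨hall, -⟩ := orbRep_facts
  simp only [List.all_eq_true, Bool.and_eq_true, beq_iff_eq, decide_eq_true_eq, Bool.or_eq_true,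
    List.contains_iff_mem] at hall
  obtain ⟨⟨hlen, hnd⟩, hprop⟩ := hall r hr
  refine ⟨?_, ?_, ?_⟩
  · rw [qset, List.toFinset_card_of_nodup hnd, List.length_map, hlen]
  · intro t ht
    obtain ⟨u, hu, rfl⟩ := mem_qset.1 ht
    obtain ⟨⟨h3, hsub⟩, -⟩ := hprop u hu
    exact ⟨by rw [card_toSet, h3], (by rw [← Finset.inter_eq_left, toSet_inter, hsub])⟩
  · intro t ht s hs hne
    obtain ⟨u, hu, rfl⟩ := mem_qset.1 ht
    obtain ⟨v, hv, rfl⟩ := mem_qset.1 hs
    rcases (hprop u hu).2 v hv with h | h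
    · exact absurd (by rw [h]) hne
    · exact hexads_base.2 ⟨_, h, (toSet_union u v).symm⟩

variable {d : Finset GolayPt} {Q : Finset (Finset GolayPt)}

/-- Everything needed about the quartet stabiliser, from one base change. -/
theorem quartet_setup (hd : d ∈ dodecads) (hQ : Q ∈ quartets d) :
    ∃ c : Cfsg.M24, c.1 • toSet 8245261 = d ∧ c.1 • qset [13, 622592, 3407872, 4214784] = Q ∧
      Nat.card ↥(MulAction.stabilizer Cfsg.M24 d ⊓ MulAction.stabilizer Cfsg.M24 Q) = 432 ∧
      (∀ t ∈ gensQuad, ∃ h ∈ MulAction.stabilizer Cfsg.M24 d ⊓ MulAction.stabilizer Cfsg.M24 Q,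
        encC c h = t) ∧
      Nat.card ↥(MulAction.stabilizer Cfsg.M24 d ⊓ MulAction.stabilizer Cfsg.M24 Q) =
        (elems walkQuad).length := by
  classical
  obtain ⟨c0, hc0, hcd0⟩ := dodecad_transitive dodecad0_mem hd
  have h0 := smul_quartets hc0 (orbRep_quartet (r := ([13, 622592, 3407872, 4214784], 1, 432))
    (by simp [orbReps]))
  rw [hcd0] at h0
  obtain ⟨-, htr⟩ := quartets_count hd
  obtain ⟨g, hg, hgd, hgQ⟩ := htr _ h0 Q hQ
  let c : Cfsg.M24 := ⟨g * c0, Cfsg.M24.mul_mem hg hc0⟩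
  have hcd : c.1 • toSet 8245261 = d := by rw [show c.1 = g * c0 from rfl, mul_smul, hcd0, hgd]
  have hcQ : c.1 • qset [13, 622592, 3407872, 4214784] = Q := by
    rw [show c.1 = g * c0 from rfl, mul_smul, hgQ]
  have hcard : Nat.card ↥(MulAction.stabilizer Cfsg.M24 d ⊓ MulAction.stabilizer Cfsg.M24 Q) = 432 := by
    have k := card_step_smul (MulAction.stabilizer Cfsg.M24 d) Q (Set.toFinite (quartets d)).toFinset
      (fun k hk => by
        rw [Set.Finite.mem_toFinset]
        have := smul_quartets k.2 hQ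
        rwa [show k.1 • d = d from hk] at this)
      (fun x hx => by
        rw [Set.Finite.mem_toFinset] at hx
        obtain ⟨g, hg, hgd, hgQ⟩ := htr Q hQ x hx
        exact ⟨⟨g, hg⟩, hgd, hgQ⟩)
    rw [card_dodecad_stabilizer hd, ← Set.ncard_eq_toFinset_card _ (Set.toFinite _),
      (quartets_count hd).1] at k
    omega
  obtain ⟨hgo, -, hlen⟩ := group_factsQuad
  refine ⟨c, hcd, hcQ, hcard, fun t ht => ?_, by rw [hcard, hlen]⟩
  simp only [List.all_eq_true] at hgo
  obtain ⟨σ, hF, hT, he⟩ := exists_of_genOk (hgo t ht)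
  have hi := orbRep_facts.2.1
  simp only [List.all_eq_true] at hi
  have hsub := (into_iff hT).1 (hi t ht)
  have hσQ : σ • qset [13, 622592, 3407872, 4214784] = qset [13, 622592, 3407872, 4214784] :=
    Finset.eq_of_subset_of_card_le hsub (by rw [Finset.card_smul_finset])
  refine ⟨c * ⟨σ, hF.1⟩ * c⁻¹, ⟨?_, ?_⟩, ?_⟩
  · show (c.1 * σ * c.1⁻¹) • d = d
    conv_lhs => rw [← hcd, mul_smul, mul_smul, inv_smul_smul]
    rw [hF.2 _ (by simp), hcd]
  · show (c.1 * σ * c.1⁻¹) • Q = Q
    conv_lhs => rw [← hcQ, mul_smul, mul_smul, inv_smul_smul]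
    rw [hσQ, hcQ]
  · have hz : ∀ X : Cfsg.M24, encC c (c * X * c⁻¹) = enc (X : Equiv.Perm GolayPt) := fun X => by
      rw [encC, show c⁻¹ * (c * X * c⁻¹) * c = X by group]
    exact (hz ⟨σ, hF.1⟩).trans he

end Cfsg.Agent.SporStructure.TableGroup
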